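import Cfsg.Agent.Lib.Helper1.Hall
import Cfsg.Agent.Lib.Helper1.CoprimeSylow
import Cfsg.Agent.Lib.Helper4.Basic
set_option autoImplicit false
open Pointwise

/-! Carter subgroups of finite solvable groups: existence and conjugacy. -/

namespace Cfsg.Agent.Lib.Helper1

open Subgroup

universe u

variable {G : Type u} [Group G]

/-- A Carter subgroup: nilpotent and self-normalising. -/
def IsCarter (C : Subgroup G) : Prop := Group.IsNilpotent C ∧ normalizer (C : Set G) = C

theorem le_normal_of_coprime_index [Finite G] {K L : Subgroup G} [K.Normal]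
    (h : (Nat.card L).Coprime K.index) : L ≤ K := by
  intro x hx
  rw [← QuotientGroup.eq_one_iff, ← orderOf_eq_one_iff]
  have h1 : orderOf (x : G ⧸ K) ∣ K.index := by
    rw [Subgroup.index_eq_card]; exact orderOf_dvd_natCard _
  have h2 : orderOf (x : G ⧸ K) ∣ Nat.card L := by
    refine (orderOf_map_dvd (QuotientGroup.mk' K) x).trans ?_
    have := orderOf_dvd_natCard (⟨x, hx⟩ : L)
    rwa [Subgroup.orderOf_mk] at this
  exact Nat.eq_one_of_dvd_coprimes h h2 h1

theorem le_of_coprime_relIndex [Finite G] {Q L M : Subgroup G} (hQM : Q ≤ M) (hLM : L ≤ M)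
    (hn : M ≤ normalizer (Q : Set G)) (h : (Nat.card L).Coprime (Q.relIndex M)) : L ≤ Q := by
  have : (Q.subgroupOf M).Normal := (normal_subgroupOf_iff_le_normalizer hQM).mpr hn
  have h1 := le_normal_of_coprime_index (K := Q.subgroupOf M) (L := L.subgroupOf M)
    (by rwa [card_subgroupOf_of_le hLM])
  intro x hx
  exact h1 (show (⟨x, hLM hx⟩ : M) ∈ L.subgroupOf M from hx)

theorem normalizer_normalizer_of_hall [Finite G] {Q : Subgroup G}
    (h : (Nat.card Q).Coprime Q.index) :
    normalizer ((normalizer (Q : Set G) : Subgroup G) : Set G) = normalizer (Q : Set G) := by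
  apply le_antisymm _ le_normalizer
  intro x hx
  have h1 : MulAut.conj x • Q ≤ normalizer (Q : Set G) := by
    intro y hy
    rw [mem_conj_smul] at hy
    have h2 := conj_mem_of_mem_normalizer hx (le_normalizer hy)
    have h3 : x * (x⁻¹ * y * x) * x⁻¹ = y := by group
    rwa [h3] at h2
  have h2 : MulAut.conj x • Q ≤ Q := le_of_coprime_relIndex le_normalizer h1 le_rfl
    (by rw [card_conj_smul]; exact h.of_dvd_right (relIndex_dvd_index_of_le le_normalizer))
  have h3 : MulAut.conj x • Q = Q := eq_of_le_of_card_ge h2 (by rw [card_conj_smul])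
  exact conj_smul_eq_self_iff.mp h3

theorem normal_of_hall_of_nilpotent [Finite G] [Group.IsNilpotent G] {Q : Subgroup G}
    (h : (Nat.card Q).Coprime Q.index) : Q.Normal := by
  rw [← normalizer_eq_top_iff]
  exact (normalizerCondition_iff_only_full_group_self_normalizing.mp
    Group.normalizerCondition_of_isNilpotent) _ (normalizer_normalizer_of_hall h)

theorem nilpotent_of_injective {H K : Type*} [Group H] [Group K] [Group.IsNilpotent K]
    (f : H →* K) (hf : Function.Injective f) : Group.IsNilpotent H :=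
  Group.nilpotent_of_mulEquiv (MonoidHom.ofInjective hf).symm

theorem nilpotent_of_le {H K : Subgroup G} (h : H ≤ K) (hK : Group.IsNilpotent K) :
    Group.IsNilpotent H :=
  nilpotent_of_injective (inclusion h) (inclusion_injective h)

theorem nilpotent_map {G' : Type*} [Group G'] (f : G →* G') {H : Subgroup G}
    (hH : Group.IsNilpotent H) : Group.IsNilpotent (H.map f) :=
  Group.nilpotent_of_surjective (f.subgroupMap H) (f.subgroupMap_surjective H)

theorem IsCarter.conj {C : Subgroup G} (hC : IsCarter C) (g : G) :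
    IsCarter (MulAut.conj g • C) := by
  refine ⟨nilpotent_map _ hC.1, ?_⟩
  ext x
  rw [mem_normalizer_conj_smul, hC.2, mem_conj_smul]

theorem IsCarter.subgroupOf {C H : Subgroup G} (hC : IsCarter C) (hCH : C ≤ H) :
    IsCarter (C.subgroupOf H) := by
  refine ⟨?_, ?_⟩
  · have := hC.1
    exact Group.nilpotent_of_mulEquiv (subgroupOfEquivOfLe hCH).symm
  · rw [← subgroupOf_normalizer_eq hCH, hC.2]

/-- self-normalising subgroups containing `N` with `G/N` nilpotent are everything -/
theorem eq_top_of_normalizer_eq_of_nilpotent_quotient (N : Subgroup G) [N.Normal]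
    [Group.IsNilpotent (G ⧸ N)] {M : Subgroup G} (hNM : N ≤ M)
    (hM : normalizer (M : Set G) = M) : M = ⊤ := by
  have hcm : (M.map (QuotientGroup.mk' N)).comap (QuotientGroup.mk' N) = M := by
    rw [comap_map_eq, QuotientGroup.ker_mk', sup_eq_left.mpr hNM]
  have h1 : normalizer ((M.map (QuotientGroup.mk' N) : Subgroup (G ⧸ N)) : Set (G ⧸ N)) =
      M.map (QuotientGroup.mk' N) := by
    apply comap_injective (QuotientGroup.mk'_surjective N)
    rw [comap_normalizer_eq_of_surjective _ (QuotientGroup.mk'_surjective N), hcm, hM]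
  have h2 := (normalizerCondition_iff_only_full_group_self_normalizing.mp
    Group.normalizerCondition_of_isNilpotent) _ h1
  rw [← hcm, h2, comap_top]

/-- (A1) -/
theorem isCarter_normalizer_hall [Finite G] {p : ℕ} [Fact p.Prime] (N : Subgroup G) [N.Normal]
    (hN : IsPGroup p N) [Group.IsNilpotent (G ⧸ N)] {Q : Subgroup G}
    (hQ : (Nat.card Q).Coprime p) {k : ℕ} (hk : Q.index = p ^ k) :
    IsCarter (normalizer (Q : Set G)) := by
  refine ⟨?_, normalizer_normalizer_of_hall (by rw [hk]; exact hQ.pow_right k)⟩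
  have hn : (Q.subgroupOf (normalizer (Q : Set G))).Normal := normal_in_normalizer
  have hpq : IsPGroup p (↥(normalizer (Q : Set G)) ⧸ Q.subgroupOf (normalizer (Q : Set G))) := by
    have hd : (Q.subgroupOf (normalizer (Q : Set G))).index ∣ p ^ k :=
      hk ▸ relIndex_dvd_index_of_le le_normalizer
    obtain ⟨j, -, hj⟩ := (Nat.dvd_prime_pow Fact.out).mp hd
    exact IsPGroup.of_card (n := j) (by rw [← hj, index_eq_card])
  have := hpq.isNilpotent
  refine nilpotent_of_injective
    (((QuotientGroup.mk' N).comp (normalizer (Q : Set G)).subtype).prod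
      (QuotientGroup.mk' (Q.subgroupOf (normalizer (Q : Set G))))) ?_
  rw [injective_iff_map_eq_one]
  intro x hx
  rw [MonoidHom.prod_apply, Prod.mk_eq_one] at hx
  have h1 : (x : G) ∈ N := (QuotientGroup.eq_one_iff _).mp hx.1
  have h2 : (x : G) ∈ Q := (QuotientGroup.eq_one_iff x).mp hx.2
  have h3 : orderOf (x : G) ∣ Nat.card Q := by
    have := orderOf_dvd_natCard (⟨x, h2⟩ : Q)
    rwa [Subgroup.orderOf_mk] at this
  obtain ⟨j, hj⟩ := (IsPGroup.iff_orderOf.mp hN) ⟨x, h1⟩
  rw [Subgroup.orderOf_mk] at hj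
  have h4 : orderOf (x : G) = 1 :=
    Nat.Coprime.eq_one_of_dvd (by rw [hj]; exact hQ.symm.pow_left j) h3
  exact Subtype.ext (orderOf_eq_one_iff.mp h4)

theorem index_eq_pow_of_sup_eq_top [Finite G] {p : ℕ} [Fact p.Prime] {N C : Subgroup G} [N.Normal]
    (hN : IsPGroup p N) (hCN : C ⊔ N = ⊤) : ∃ j, C.index = p ^ j := by
  have h1 := Cfsg.Agent.Lib.Helper4.card_mul_card_eq_of_le_normalizer C N
    (by rw [normalizer_eq_top]; exact le_top)
  rw [hCN, card_top, ← C.card_mul_index, mul_assoc] at h1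
  have h2 : Nat.card N = C.index * Nat.card (C ⊓ N : Subgroup G) :=
    Nat.eq_of_mul_eq_mul_left Nat.card_pos h1
  obtain ⟨n, hn⟩ := IsPGroup.iff_card.mp hN
  obtain ⟨j, -, hj⟩ := (Nat.dvd_prime_pow Fact.out).mp (hn ▸ Dvd.intro _ h2.symm)
  exact ⟨j, hj⟩

/-- existence of a Hall `p'`-subgroup -/
theorem exists_hall_p' [Finite G] [Group.IsSolvable G] (p : ℕ) [Fact p.Prime] :
    ∃ Q : Subgroup G, (Nat.card Q).Coprime p ∧ ∃ k, Q.index = p ^ k := by
  have hp : p.Prime := Fact.out
  obtain ⟨e, m, hm, hG⟩ := Nat.exists_eq_pow_mul_and_not_dvd (n := Nat.card G)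
    Nat.card_pos.ne' p hp.ne_one
  have hcop : m.Coprime p := ((Nat.Prime.coprime_iff_not_dvd hp).mpr hm).symm
  obtain ⟨Q, hQ⟩ := hall_exists (G := G) m (p ^ e) (by rw [hG, mul_comm]) (hcop.pow_right e)
  refine ⟨Q, hQ ▸ hcop, e, ?_⟩
  have h1 := Q.card_mul_index
  rw [hQ, hG, mul_comm (p ^ e)] at h1
  exact Nat.eq_of_mul_eq_mul_left (Nat.pos_of_ne_zero (by rintro rfl; simp at hm)) h1

theorem hall_p'_conj [Finite G] [Group.IsSolvable G] {p : ℕ} [Fact p.Prime] {Q₁ Q₂ : Subgroup G}
    (h₁ : (Nat.card Q₁).Coprime p) {k₁ : ℕ} (hk₁ : Q₁.index = p ^ k₁)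
    (h₂ : (Nat.card Q₂).Coprime p) {k₂ : ℕ} (hk₂ : Q₂.index = p ^ k₂) :
    ∃ g : G, MulAut.conj g • Q₁ = Q₂ := by
  have e₁ := Q₁.card_mul_index
  have e₂ := Q₂.card_mul_index
  rw [hk₁] at e₁
  rw [hk₂] at e₂
  have hc : Nat.card Q₁ = Nat.card Q₂ := by
    apply Nat.dvd_antisymm
    · exact (h₁.pow_right k₂).dvd_of_dvd_mul_right (e₂ ▸ e₁ ▸ Dvd.intro _ rfl)
    · exact (h₂.pow_right k₁).dvd_of_dvd_mul_right (e₁ ▸ e₂ ▸ Dvd.intro _ rfl)
  exact hall_conj (Nat.card Q₁) (p ^ k₁) e₁.symm (h₁.pow_right k₁) Q₁ Q₂ rfl hc.symm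

/-- (A2) -/
theorem IsCarter.eq_normalizer_hall [Finite G] [Group.IsSolvable G] {p : ℕ} [Fact p.Prime]
    (N : Subgroup G) [N.Normal] (hN : IsPGroup p N) [Group.IsNilpotent (G ⧸ N)] {C : Subgroup G}
    (hC : IsCarter C) (hCN : C ⊔ N = ⊤) :
    ∃ Q : Subgroup G, (Nat.card Q).Coprime p ∧ (∃ k, Q.index = p ^ k) ∧
      C = normalizer (Q : Set G) := by
  obtain ⟨j, hj⟩ := index_eq_pow_of_sup_eq_top hN hCN
  obtain ⟨Q', hQ', k, hk⟩ := exists_hall_p' (G := C) p
  have hnil := hC.1
  have hQn : Q'.Normal := normal_of_hall_of_nilpotent (by rw [hk]; exact hQ'.pow_right k)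
  have hcard : Nat.card (Q'.map C.subtype) = Nat.card Q' :=
    card_map_of_injective C.subtype_injective
  have hQC : Q'.map C.subtype ≤ C := map_subtype_le Q'
  have hidx : (Q'.map C.subtype).index = p ^ (k + j) := by
    rw [← relIndex_mul_index hQC, hj, pow_add, relIndex,
      show (Q'.map C.subtype).subgroupOf C = Q' from
        comap_map_eq_self_of_injective C.subtype_injective _, hk]
  have hcar := isCarter_normalizer_hall N hN (Q := Q'.map C.subtype) (by rwa [hcard]) hidx
  have hCle : C ≤ normalizer ((Q'.map C.subtype : Subgroup G) : Set G) := by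
    rw [← normal_subgroupOf_iff_le_normalizer hQC,
      show (Q'.map C.subtype).subgroupOf C = Q' from
        comap_map_eq_self_of_injective C.subtype_injective _]
    exact hQn
  refine ⟨Q'.map C.subtype, by rwa [hcard], ⟨_, hidx⟩, ?_⟩
  have := hcar.1
  have h1 := (normalizerCondition_iff_only_full_group_self_normalizing.mp
    (Group.normalizerCondition_of_isNilpotent
      (G := ↥(normalizer ((Q'.map C.subtype : Subgroup G) : Set G))))) _ (hC.subgroupOf hCle).2
  exact le_antisymm hCle (subgroupOf_eq_top.mp h1)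

/-- (A3) -/
theorem IsCarter.conj_of_sup_eq_top [Finite G] [Group.IsSolvable G] {p : ℕ} [Fact p.Prime]
    (N : Subgroup G) [N.Normal] (hN : IsPGroup p N) [Group.IsNilpotent (G ⧸ N)] {C D : Subgroup G}
    (hC : IsCarter C) (hCN : C ⊔ N = ⊤) (hD : IsCarter D) (hDN : D ⊔ N = ⊤) :
    ∃ g : G, MulAut.conj g • C = D := by
  obtain ⟨Q₁, h₁, ⟨k₁, hk₁⟩, rfl⟩ := hC.eq_normalizer_hall N hN hCN
  obtain ⟨Q₂, h₂, ⟨k₂, hk₂⟩, rfl⟩ := hD.eq_normalizer_hall N hN hDN
  obtain ⟨g, rfl⟩ := hall_p'_conj h₁ hk₁ h₂ hk₂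
  refine ⟨g, ?_⟩
  ext x
  rw [mem_normalizer_conj_smul, mem_conj_smul]

/-- conjugacy hypothesis for smaller groups -/
def CarterConj (n : ℕ) : Prop :=
  ∀ (H : Type u) [Group H] [Finite H] [Group.IsSolvable H], Nat.card H < n →
    ∀ C D : Subgroup H, IsCarter C → IsCarter D → ∃ g : H, MulAut.conj g • C = D

/-- (L1) -/
theorem IsCarter.normalizer_sup [Finite G] [Group.IsSolvable G] (IH : CarterConj.{u} (Nat.card G))
    {C : Subgroup G} (hC : IsCarter C) (N : Subgroup G) [N.Normal] :
    normalizer ((C ⊔ N : Subgroup G) : Set G) = C ⊔ N := by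
  by_cases hT : C ⊔ N = ⊤
  · rw [hT]; exact normalizer_eq_top _
  apply le_antisymm _ le_normalizer
  intro x hx
  have hlt := card_lt_of_ne_top hT
  have hCH : C ≤ C ⊔ N := le_sup_left
  have hxC : MulAut.conj x • C ≤ C ⊔ N := by
    intro y hy
    rw [mem_conj_smul] at hy
    have h2 := conj_mem_of_mem_normalizer hx (hCH hy)
    have h3 : x * (x⁻¹ * y * x) * x⁻¹ = y := by group
    rwa [h3] at h2
  obtain ⟨h, hh⟩ := IH ↥(C ⊔ N) hlt _ _ (hC.subgroupOf hCH) ((hC.conj x).subgroupOf hxC)
  have h4 : MulAut.conj (h : G) • C = MulAut.conj x • C := by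
    have := congrArg (Subgroup.map (C ⊔ N).subtype) hh
    rw [map_conj_smul, map_subgroupOf_eq_of_le hCH, map_subgroupOf_eq_of_le hxC] at this
    exact this
  have h5 : x⁻¹ * h ∈ normalizer (C : Set G) := by
    rw [← conj_smul_eq_self_iff, conj_mul_smul, h4, ← conj_mul_smul]; simp
  rw [hC.2] at h5
  have : x = h * (x⁻¹ * h)⁻¹ := by group
  rw [this]; exact mul_mem h.2 (inv_mem (hCH h5))

theorem IsCarter.map_mk' [Finite G] [Group.IsSolvable G] (IH : CarterConj.{u} (Nat.card G))
    {C : Subgroup G} (hC : IsCarter C) (N : Subgroup G) [N.Normal] :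
    IsCarter (C.map (QuotientGroup.mk' N)) := by
  refine ⟨nilpotent_map _ hC.1, ?_⟩
  apply comap_injective (QuotientGroup.mk'_surjective N)
  rw [comap_normalizer_eq_of_surjective _ (QuotientGroup.mk'_surjective N), comap_map_eq,
    QuotientGroup.ker_mk', hC.normalizer_sup IH N]

theorem nilpotent_quotient_subgroupOf (N H : Subgroup G) [N.Normal]
    (hH : Group.IsNilpotent (H.map (QuotientGroup.mk' N))) :
    Group.IsNilpotent (↥H ⧸ N.subgroupOf H) := by
  have hker : ((QuotientGroup.mk' N).subgroupMap H).ker = N.subgroupOf H := by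
    ext x
    rw [MonoidHom.mem_ker, mem_subgroupOf, ← QuotientGroup.eq_one_iff, Subtype.ext_iff]
    rfl
  exact Group.nilpotent_of_mulEquiv
    (((QuotientGroup.quotientMulEquivOfEq hker).symm.trans
      (QuotientGroup.quotientKerEquivOfSurjective _
        ((QuotientGroup.mk' N).subgroupMap_surjective H))).symm)

theorem carter_all : ∀ (n : ℕ) (G : Type u) [Group G] [Finite G] [Group.IsSolvable G],
    Nat.card G = n → (∃ C : Subgroup G, IsCarter C) ∧
      ∀ C D : Subgroup G, IsCarter C → IsCarter D → ∃ g : G, MulAut.conj g • C = D := by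
  intro n
  induction n using Nat.strong_induction_on with
  | _ n ih =>
  intro G _ _ _ hn
  subst hn
  have IH : CarterConj.{u} (Nat.card G) := fun H _ _ _ hlt => (ih _ hlt H rfl).2
  rcases subsingleton_or_nontrivial G with hs | hnt
  · refine ⟨⟨⊤, ?_, normalizer_eq_top _⟩, fun C D _ _ => ⟨1, Subsingleton.elim _ _⟩⟩
    infer_instance
  obtain ⟨p, N, hp, hNn, hNne, -, hNp⟩ := exists_normal_elementary_abelian (G := G)
  have := Fact.mk hp
  have hN : IsPGroup p N := isPGroup_of_pow_eq_one hNp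
  have hlt : Nat.card (G ⧸ N) < Nat.card G := by
    rw [← N.card_mul_index, index_eq_card]
    have h1 : 1 < Nat.card N := (one_lt_card_iff_ne_bot N).mpr hNne
    have h2 : 0 < Nat.card (G ⧸ N) := Nat.card_pos
    nlinarith
  obtain ⟨⟨Hb, hHb⟩, hconjq⟩ := ih _ hlt (G ⧸ N) rfl
  constructor
  · obtain ⟨H, hHdef⟩ : ∃ H, H = Hb.comap (QuotientGroup.mk' N) := ⟨_, rfl⟩
    have hNH : N ≤ H := by
      rw [hHdef]
      conv_lhs => rw [← QuotientGroup.ker_mk' N]
      exact ker_le_comap _ _
    have hHn : normalizer (H : Set G) = H := by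
      rw [hHdef, ← comap_normalizer_eq_of_surjective _ (QuotientGroup.mk'_surjective N), hHb.2]
    have hq : Group.IsNilpotent (↥H ⧸ N.subgroupOf H) := by
      apply nilpotent_quotient_subgroupOf
      rw [hHdef, map_comap_eq_self_of_surjective (QuotientGroup.mk'_surjective N)]
      exact hHb.1
    have hN' : IsPGroup p (N.subgroupOf H) := hN.comap_subtype
    obtain ⟨Q, hQ, k, hk⟩ := exists_hall_p' (G := H) p
    have hC' := isCarter_normalizer_hall (N.subgroupOf H) hN' hQ hk
    have IH' : CarterConj.{u} (Nat.card H) :=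
      fun K _ _ _ hlt => IH K (hlt.trans_le (card_le_card_group H))
    have htop := eq_top_of_normalizer_eq_of_nilpotent_quotient (N.subgroupOf H) le_sup_right
      (hC'.normalizer_sup IH' (N.subgroupOf H))
    obtain ⟨C', hC'def⟩ : ∃ C', C' = normalizer (Q : Set H) := ⟨_, rfl⟩
    rw [← hC'def] at hC' htop
    have hCH : C'.map H.subtype ≤ H := map_subtype_le C'
    have hsup : C'.map H.subtype ⊔ N = H := by
      have := congrArg (Subgroup.map H.subtype) htop
      rwa [Subgroup.map_sup, map_subgroupOf_eq_of_le hNH, ← MonoidHom.range_eq_map, range_subtype] at this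
    refine ⟨C'.map H.subtype, nilpotent_map _ hC'.1, le_antisymm ?_ le_normalizer⟩
    intro x hx
    have hxH : x ∈ H := by
      rw [← hHn, ← conj_smul_eq_self_iff, ← hsup, smul_sup, conj_smul_eq_self_iff.mpr hx,
        conj_smul_eq_self_iff.mpr (by rw [normalizer_eq_top]; trivial)]
    have h1 : (⟨x, hxH⟩ : H) ∈ (normalizer ((C'.map H.subtype : Subgroup G) : Set G)).subgroupOf H :=
      hx
    rw [subgroupOf_normalizer_eq hCH, show (C'.map H.subtype).subgroupOf H = C' from
        comap_map_eq_self_of_injective H.subtype_injective _, hC'.2] at h1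
    exact ⟨_, h1, rfl⟩
  · intro C D hC hD
    obtain ⟨gb, hgb⟩ := hconjq _ _ (hC.map_mk' IH N) (hD.map_mk' IH N)
    obtain ⟨g, rfl⟩ := QuotientGroup.mk'_surjective N gb
    have hC₁ := hC.conj g
    have hsup : MulAut.conj g • C ⊔ N = D ⊔ N := by
      rw [← map_conj_smul] at hgb
      have := congrArg (Subgroup.comap (QuotientGroup.mk' N)) hgb
      rwa [comap_map_eq, comap_map_eq, QuotientGroup.ker_mk'] at this
    have hDH : D ≤ D ⊔ N := le_sup_left
    have hNH : N ≤ D ⊔ N := le_sup_right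
    have hCH : MulAut.conj g • C ≤ D ⊔ N := hsup ▸ le_sup_left
    have hq : Group.IsNilpotent (↥(D ⊔ N) ⧸ N.subgroupOf (D ⊔ N)) := by
      apply nilpotent_quotient_subgroupOf
      rw [Subgroup.map_sup, (map_eq_bot_iff N).mpr (by rw [QuotientGroup.ker_mk']), sup_bot_eq]
      exact nilpotent_map _ hD.1
    have hN' : IsPGroup p (N.subgroupOf (D ⊔ N)) := hN.comap_subtype
    obtain ⟨h, hh⟩ := IsCarter.conj_of_sup_eq_top (N.subgroupOf (D ⊔ N)) hN'
      (hC₁.subgroupOf hCH) (by rw [← subgroupOf_sup hCH hNH, hsup, subgroupOf_self])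
      (hD.subgroupOf hDH) (by rw [← subgroupOf_sup hDH hNH, subgroupOf_self])
    refine ⟨h * g, ?_⟩
    have := congrArg (Subgroup.map (D ⊔ N).subtype) hh
    rw [map_conj_smul, map_subgroupOf_eq_of_le hCH, map_subgroupOf_eq_of_le hDH] at this
    rw [conj_mul_smul]
    exact this

end Cfsg.Agent.Lib.Helper1
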