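import Mathlib
import Cfsg.Prelude.Def_PLocal
import Cfsg.Agent.S0058
import Cfsg.Agent.Lib.Helper1.Nilp
import Cfsg.Agent.Lib.Helper1.Coprime
import Cfsg.Agent.Lib.Helper1.Cores
import Cfsg.Agent.Lib.Helper4.Basic
import Cfsg.Agent.Lib.Helper12.Conj

set_option autoImplicit false

namespace Cfsg.Agent.Lib.Helper1

open Subgroup Cfsg
open scoped commutatorElement

variable {G : Type*} [Group G]

/-- an element of exponent `p` with a power in `K` lies in `K`, or the power is trivial -/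
theorem mem_or_zpow_eq_one {p : ℕ} (hp : p.Prime) {x : G} (hx : x ^ p = 1) (K : Subgroup G) (j : ℤ)
    (h : x ^ j ∈ K) : x ∈ K ∨ x ^ j = 1 := by
  by_cases hd : (p : ℤ) ∣ j
  · right
    obtain ⟨k, rfl⟩ := hd
    rw [zpow_mul, zpow_natCast, hx, one_zpow]
  · left
    have hc : IsCoprime (p : ℤ) j := (Nat.prime_iff_prime_int.mp hp).coprime_iff_not_dvd.mpr hd
    obtain ⟨u, v, huv⟩ := hc
    have h2 : x = (x ^ j) ^ v := by
      rw [← zpow_mul]
      have h1 : j * v = 1 - u * p := by linarith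
      rw [h1, zpow_sub, zpow_one, zpow_mul', zpow_natCast, hx, one_zpow, inv_one, mul_one]
    rw [h2]
    exact K.zpow_mem h v

theorem p_mul_card_le_of_lt [Finite G] {p : ℕ} [Fact p.Prime] {X Y : Subgroup G} (hY : IsPGroup p Y)
    (hlt : X < Y) : p * Nat.card X ≤ Nat.card Y := by
  have hp : p.Prime := Fact.out
  obtain ⟨m, hm⟩ := hY.exists_card_eq
  obtain ⟨k, hk⟩ := (hY.to_le hlt.le).exists_card_eq
  have h1 := Cfsg.Agent.Lib.Helper12.card_lt_card_of_lt hlt
  rw [hm, hk] at h1 ⊢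
  have h2 : k < m := (Nat.pow_lt_pow_iff_right hp.one_lt).mp h1
  calc p * p ^ k = p ^ (k + 1) := by rw [pow_succ, mul_comm]
    _ ≤ p ^ m := Nat.pow_le_pow_right hp.pos h2

/-- The setting of failure of factorisation: `H` acts faithfully on the elementary abelian `V`,
and `Q` is a normal `p'`-subgroup of `H` containing its centraliser. -/
structure FF (p : ℕ) (V H Q : Subgroup G) : Prop where
  hV : IsElementaryAbelian p V
  hHV : H ≤ normalizer (V : Set G)
  hf : H ⊓ centralizer (V : Set G) = ⊥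
  hQH : Q ≤ H
  hHQ : H ≤ normalizer (Q : Set G)
  hQp : (Nat.card Q).Coprime p
  hCQ : H ⊓ centralizer (Q : Set G) ≤ Q

theorem FF.of_hyp [Finite G] {p : ℕ} {V H : Subgroup G} (hV : IsElementaryAbelian p V)
    (hHV : H ≤ normalizer (V : Set G)) (hf : H ⊓ centralizer (V : Set G) = ⊥)
    (hS1 : centralizer (pPrimeCore p ↥H : Set ↥H) ≤ pPrimeCore p ↥H) :
    FF p V H ((pPrimeCore p ↥H).map H.subtype) := by
  obtain ⟨hn, hc⟩ := pPrimeCore_spec (G := ↥H) p
  refine ⟨hV, hHV, hf, map_subtype_le _, ?_, ?_, ?_⟩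
  · apply le_normalizer_of_forall_conj_mem
    rintro h hh _ ⟨q, hq, rfl⟩
    exact ⟨⟨h, hh⟩ * q * ⟨h, hh⟩⁻¹, hn.conj_mem q hq ⟨h, hh⟩, rfl⟩
  · rwa [card_map_of_injective H.subtype_injective]
  · rintro x ⟨hxH, hxC⟩
    refine ⟨⟨x, hxH⟩, hS1 ?_, rfl⟩
    rw [mem_centralizer_iff]
    intro q hq
    ext
    exact (mem_centralizer_iff.mp hxC) q ⟨q, hq, rfl⟩

variable [Finite G] {p : ℕ} [Fact p.Prime] {V H Q : Subgroup G}

theorem FF.eq_one_of_mem (h : FF p V H Q) {x : G} (hxH : x ∈ H) (hxV : x ∈ centralizer (V : Set G)) :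
    x = 1 := by
  have : x ∈ H ⊓ centralizer (V : Set G) := ⟨hxH, hxV⟩
  rwa [h.hf, mem_bot] at this

theorem FF.eq_one_of_mem_Q (h : FF p V H Q) {a : G} (haQ : a ∈ Q) (hap : a ^ p = 1) : a = 1 := by
  have h1 : orderOf a ∣ p := orderOf_dvd_of_pow_eq_one hap
  have h2 : orderOf a ∣ Nat.card Q := by
    have := orderOf_dvd_natCard (⟨a, haQ⟩ : Q)
    rwa [Subgroup.orderOf_mk] at this
  have h3 : orderOf a ∣ 1 := by
    have := Nat.dvd_gcd h2 h1
    rwa [h.hQp.gcd_eq_one] at this
  exact orderOf_eq_one_iff.mp (Nat.dvd_one.mp h3)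

theorem FF.not_mem_centralizer_Q (h : FF p V H Q) {a : G} (haH : a ∈ H) (hap : a ^ p = 1)
    (ha1 : a ≠ 1) : a ∉ centralizer (Q : Set G) :=
  fun hc => ha1 (h.eq_one_of_mem_Q (h.hCQ ⟨haH, hc⟩) hap)

theorem FF.isPGroup_V (h : FF p V H Q) : IsPGroup p V := Cfsg.Agent.Lib.Helper4.elemAb_isPGroup h.hV

theorem FF.V_comm (h : FF p V H Q) : ∀ a ∈ V, ∀ b ∈ V, a * b = b * a :=
  (Cfsg.Agent.Lib.Helper4.isMulCommutative_iff V).mp h.hV.1

/-- a best offender inside `H` is elementary abelian -/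
theorem FF.elemAb_of_bestOffender (h : FF p V H Q) {A : Subgroup G} (hAH : A ≤ H)
    (hA : IsBestOffenderOn p V A) : IsElementaryAbelian p A := by
  refine ⟨(Cfsg.Agent.Lib.Helper4.isMulCommutative_iff A).mpr ?_, ?_⟩
  · intro a ha b hb
    have h1 : ⁅a, b⁆ ∈ ⁅A, A⁆ := commutator_mem_commutator ha hb
    have h2 : ⁅a, b⁆ = 1 := h.eq_one_of_mem ((commutator_le_self A).trans hAH h1) (hA.2.1 h1)
    exact commutatorElement_eq_one_iff_mul_comm.mp h2
  · intro a ha
    exact h.eq_one_of_mem (H.pow_mem (hAH ha) p) (hA.2.2 a ha)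

/-- **Lemma H**: a hyperplane of `A` avoiding `a` on whose `Q`-centraliser `a` acts nontrivially -/
theorem FF.exists_hyperplane (h : FF p V H Q) {A : Subgroup G} (hAH : A ≤ H)
    (hA : IsElementaryAbelian p A) {a : G} (haA : a ∈ A) (ha1 : a ≠ 1) :
    ∃ B ≤ A, a ∉ B ∧ B ⊔ zpowers a = A ∧
      a ∉ centralizer ((Q ⊓ centralizer (B : Set G) : Subgroup G) : Set G) := by
  have hp : p.Prime := Fact.out
  have hAc := (Cfsg.Agent.Lib.Helper4.isMulCommutative_iff A).mp hA.1
  have hAp := hA.2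
  let 𝒮 : Subgroup G → Prop := fun B => B ≤ A ∧
    a ∉ centralizer ((Q ⊓ centralizer (B : Set G) : Subgroup G) : Set G)
  have hbot : 𝒮 ⊥ := by
    refine ⟨bot_le, fun hc => h.not_mem_centralizer_Q (hAH haA) (hAp a haA) ha1 ?_⟩
    refine centralizer_le ?_ hc
    intro f hf
    refine ⟨hf, ?_⟩
    change f ∈ centralizer ((⊥ : Subgroup G) : Set G)
    rw [mem_centralizer_iff]
    intro s hs
    rw [SetLike.mem_coe, mem_bot] at hs
    rw [hs, one_mul, mul_one]
  have : Nonempty {B : Subgroup G // 𝒮 B} := ⟨⟨⊥, hbot⟩⟩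
  obtain ⟨⟨B, hBA, hB⟩, hmax⟩ :=
    Finite.exists_max (fun B : {B : Subgroup G // 𝒮 B} => Nat.card B.1)
  set X : Subgroup G := Q ⊓ centralizer (B : Set G) with hX
  have haB : a ∉ B := by
    intro haB
    apply hB
    rw [mem_centralizer_iff]
    rintro x ⟨-, hx⟩
    exact ((mem_centralizer_iff.mp hx) a haB).symm
  refine ⟨B, hBA, haB, ?_, hB⟩
  have hprop : ∀ e ∈ A, e ∉ B → X ⊓ centralizer {e} ≤ centralizer {a} := by
    intro e heA heB
    set B' : Subgroup G := B ⊔ zpowers e with hB'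
    have h1 : B < B' := lt_of_le_of_ne le_sup_left (fun h => heB (by
      rw [h]; exact le_sup_right (a := B) (mem_zpowers e)))
    have h2 : ¬ 𝒮 B' := by
      intro h
      have h3 := hmax ⟨B', h⟩
      have h4 := Cfsg.Agent.Lib.Helper12.card_lt_card_of_lt h1
      simp only at h3
      omega
    have h3 : a ∈ centralizer ((Q ⊓ centralizer (B' : Set G) : Subgroup G) : Set G) := by
      by_contra h
      exact h2 ⟨sup_le hBA (zpowers_le.mpr heA), h⟩
    rintro x ⟨⟨hxQ, hxB⟩, hxe⟩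
    rw [mem_centralizer_singleton_iff]
    refine ((mem_centralizer_iff.mp h3) x ⟨hxQ, ?_⟩)
    change x ∈ centralizer (B' : Set G)
    have h4 : B' ≤ centralizer {x} := by
      refine sup_le ?_ (zpowers_le.mpr ?_)
      · intro s hs
        rw [mem_centralizer_singleton_iff]
        exact (mem_centralizer_iff.mp hxB) s hs
      · rw [mem_centralizer_singleton_iff]
        exact (mem_centralizer_singleton_iff.mp hxe).symm
    rw [mem_centralizer_iff]
    intro s hs
    exact (mem_centralizer_singleton_iff.mp (h4 hs))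
  have hAX : A ≤ normalizer (X : Set G) := by
    apply le_normalizer_of_forall_conj_mem
    rintro t ht y ⟨hyQ, hyB⟩
    refine ⟨conj_mem_of_mem_normalizer (h.hHQ (hAH ht)) hyQ, ?_⟩
    change t * y * t⁻¹ ∈ centralizer (B : Set G)
    have htB : t ∈ centralizer (B : Set G) := by
      rw [mem_centralizer_iff]
      intro s hs
      exact hAc s (hBA hs) t ht
    exact mul_mem (mul_mem htB hyB) (inv_mem htB)
  by_contra hne
  have hle : B ⊔ zpowers a ≤ A := sup_le hBA (zpowers_le.mpr haA)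
  obtain ⟨e, heA, heB⟩ : ∃ e ∈ A, e ∉ B ⊔ zpowers a := by
    by_contra hcon
    push Not at hcon
    exact hne (le_antisymm hle hcon)
  apply hB
  set A₀ : Subgroup G := zpowers a ⊔ zpowers e with hA₀
  have hA₀A : A₀ ≤ A := sup_le (zpowers_le.mpr haA) (zpowers_le.mpr heA)
  have hnorm : zpowers e ≤ normalizer ((zpowers a : Subgroup G) : Set G) := by
    refine le_trans ?_ (centralizer_le_normalizer _)
    rw [zpowers_le, mem_centralizer_iff]
    intro y hy
    exact hAc y (zpowers_le.mpr haA hy) e heA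
  have helts : ∀ c ∈ A₀, c ≠ 1 → c ∉ B := by
    intro c hc hc1 hcB
    obtain ⟨y, hy, z, hz, rfl⟩ := (mem_sup_of_le_normalizer hnorm).mp hc
    obtain ⟨i, rfl⟩ := mem_zpowers_iff.mp hy
    obtain ⟨j, rfl⟩ := mem_zpowers_iff.mp hz
    have h1 : e ^ j ∈ B ⊔ zpowers a := by
      have h2 : e ^ j = (a ^ i)⁻¹ * (a ^ i * e ^ j) := by group
      rw [h2]
      exact mul_mem (inv_mem (le_sup_right (a := B) (zpow_mem (mem_zpowers a) i)))
        (le_sup_left (b := zpowers a) hcB)
    rcases mem_or_zpow_eq_one hp (hAp e heA) _ j h1 with h2 | h2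
    · exact heB h2
    · rw [h2, mul_one] at hcB hc1
      rcases mem_or_zpow_eq_one hp (hAp a haA) _ i hcB with h3 | h3
      · exact haB h3
      · exact hc1 h3
  have hA₀e : IsElementaryAbelian p A₀ := Cfsg.Agent.Lib.Helper4.elemAb_of_le hA₀A hA
  haveI hA₀c : IsMulCommutative A₀ := hA₀e.1
  have hord : orderOf a = p := orderOf_eq_prime (hAp a haA) ha1
  have hA₀nc : ¬ IsCyclic A₀ := by
    intro hcyc
    obtain ⟨g, hg⟩ := hcyc.exists_generator
    have hgp : g ^ p = 1 := by
      ext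
      exact hAp _ (hA₀A g.2)
    have h1 : Nat.card A₀ ∣ p := by
      rw [← orderOf_eq_card_of_forall_mem_zpowers hg]
      exact orderOf_dvd_of_pow_eq_one hgp
    have h2 : zpowers a = A₀ := by
      apply eq_of_le_of_card_ge le_sup_left
      rw [Nat.card_zpowers, hord]
      exact Nat.le_of_dvd hp.pos h1
    apply heB
    apply le_sup_right (a := B)
    rw [h2]
    exact le_sup_right (a := zpowers a) (mem_zpowers e)
  have hcop : (Nat.card A₀).Coprime (Nat.card X) := by
    obtain ⟨k, hk⟩ := (Cfsg.Agent.Lib.Helper4.elemAb_isPGroup hA₀e).exists_card_eq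
    rw [hk]
    apply Nat.Coprime.pow_left
    exact (Nat.Coprime.of_dvd_left (card_dvd_of_le inf_le_left) h.hQp).symm
  have hgen := Cfsg.Agent.S0058.result A₀ X hA₀nc (hA₀A.trans hAX) hcop
  have h5 : X ≤ centralizer {a} := by
    rw [← hgen]
    apply iSup₂_le
    rintro c ⟨hcA, hc1⟩
    exact hprop c (hA₀A hcA) (helts c hcA hc1)
  rw [mem_centralizer_iff]
  intro x hx
  exact (mem_centralizer_singleton_iff.mp (h5 hx))

/-- **Lemma S**: the fixed points on `V` strictly grow when passing to the hyperplane -/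
theorem FF.not_le_centralizer (h : FF p V H Q) {B : Subgroup G} (hBH : B ≤ H) (hBp : IsPGroup p B)
    {a : G} (haH : a ∈ H) (haB : a ∈ centralizer (B : Set G))
    (ha : a ∉ centralizer ((Q ⊓ centralizer (B : Set G) : Subgroup G) : Set G)) :
    ¬ (V ⊓ centralizer (B : Set G) ≤ centralizer {a}) := by
  intro hle
  apply ha
  rw [mem_centralizer_iff]
  rintro q ⟨hqQ, hqB⟩
  have hqB' : q ∈ centralizer (B : Set G) := hqB
  set y : G := q * a * q⁻¹ * a⁻¹ with hy
  have hqH : q ∈ H := h.hQH hqQ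
  have hyH : y ∈ H := mul_mem (mul_mem (mul_mem hqH haH) (inv_mem hqH)) (inv_mem haH)
  have hyQ : y ∈ Q := by
    have h1 : y = q * (a * q⁻¹ * a⁻¹) := by rw [hy]; group
    rw [h1]
    exact mul_mem hqQ (conj_mem_of_mem_normalizer (h.hHQ haH) (inv_mem hqQ))
  have hyB : y ∈ centralizer (B : Set G) :=
    mul_mem (mul_mem (mul_mem hqB' haB) (inv_mem hqB')) (inv_mem haB)
  have hyU : V ⊓ centralizer (B : Set G) ≤ centralizer {y} := by
    rintro u ⟨huV, huB⟩
    have huB' : u ∈ centralizer (B : Set G) := huB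
    have h1 : a * u = u * a := (mem_centralizer_singleton_iff.mp (hle ⟨huV, huB⟩)).symm
    have h2 : q⁻¹ * u * q ∈ V ⊓ centralizer (B : Set G) := by
      refine ⟨conj_mem_of_mem_normalizer' (h.hHV hqH) huV, ?_⟩
      change q⁻¹ * u * q ∈ centralizer (B : Set G)
      exact mul_mem (mul_mem (inv_mem hqB') huB') hqB'
    have h3 : a * (q⁻¹ * u * q) = (q⁻¹ * u * q) * a := (mem_centralizer_singleton_iff.mp (hle h2)).symm
    have h4 : a⁻¹ * u = u * a⁻¹ := by
      calc a⁻¹ * u = a⁻¹ * (u * a) * a⁻¹ := by group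
        _ = u * a⁻¹ := by rw [← h1]; group
    rw [mem_centralizer_singleton_iff]
    symm
    calc y * u = q * a * q⁻¹ * (a⁻¹ * u) := by rw [hy]; group
      _ = q * (a * (q⁻¹ * u * q)) * q⁻¹ * a⁻¹ := by rw [h4]; group
      _ = u * y := by rw [h3, hy]; group
  have hcop : (Nat.card (zpowers y)).Coprime p :=
    Nat.Coprime.of_dvd_left (card_dvd_of_le (zpowers_le.mpr hyQ)) h.hQp
  have hBy : B ≤ centralizer ((zpowers y : Subgroup G) : Set G) := by
    rw [le_centralizer_iff, zpowers_le]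
    exact hyB
  have hUy : V ⊓ centralizer (B : Set G) ≤ centralizer ((zpowers y : Subgroup G) : Set G) := by
    rw [le_centralizer_iff, zpowers_le, mem_centralizer_iff]
    intro u hu
    exact (mem_centralizer_singleton_iff.mp (hyU hu))
  have h6 := thompson_PxQ p B (zpowers y) hBp hcop hBy _ V rfl h.isPGroup_V (hBH.trans h.hHV)
    ((zpowers_le.mpr hyH).trans h.hHV) hUy
  rw [commutator_eq_bot_iff_le_centralizer, le_centralizer_iff, zpowers_le] at h6
  have hy1 : y = 1 := h.eq_one_of_mem hyH h6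
  calc q * a = y * (a * q) := by rw [hy]; group
    _ = a * q := by rw [hy1, one_mul]

theorem centralizer_sup_zpowers (B : Subgroup G) (a : G) :
    centralizer ((B ⊔ zpowers a : Subgroup G) : Set G) = centralizer (B : Set G) ⊓ centralizer {a} := by
  apply le_antisymm
  · refine le_inf (centralizer_le (SetLike.coe_subset_coe.mpr le_sup_left)) ?_
    refine centralizer_le ?_
    intro x hx
    rw [Set.mem_singleton_iff] at hx
    rw [hx]
    exact le_sup_right (a := B) (mem_zpowers a)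
  · rw [le_centralizer_iff]
    refine sup_le ?_ (zpowers_le.mpr ?_)
    · rw [← le_centralizer_iff]
      exact inf_le_left
    · rw [mem_centralizer_iff]
      rintro x ⟨-, hx⟩
      exact (mem_centralizer_singleton_iff.mp hx)

/-- one step of the chain -/
theorem FF.exists_step (h : FF p V H Q) {A : Subgroup G} (hAH : A ≤ H)
    (hA : IsElementaryAbelian p A) {a : G} (haA : a ∈ A) (ha1 : a ≠ 1) :
    ∃ B ≤ A, a ∉ B ∧ B ⊔ zpowers a = A ∧ B ⊓ zpowers a = ⊥ ∧ Nat.card A = p * Nat.card B ∧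
      p * Nat.card ↥(V ⊓ centralizer (A : Set G)) ≤ Nat.card ↥(V ⊓ centralizer (B : Set G)) := by
  have hp : p.Prime := Fact.out
  have hAc := (Cfsg.Agent.Lib.Helper4.isMulCommutative_iff A).mp hA.1
  obtain ⟨B, hBA, haB, hsup, hB⟩ := h.exists_hyperplane hAH hA haA ha1
  have hord : orderOf a = p := orderOf_eq_prime (hA.2 a haA) ha1
  have hdisj : B ⊓ zpowers a = ⊥ := by
    rw [eq_bot_iff]
    rintro x ⟨hxB, hxa⟩
    obtain ⟨i, rfl⟩ := mem_zpowers_iff.mp hxa
    rcases mem_or_zpow_eq_one hp (hA.2 a haA) B i hxB with h1 | h1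
    · exact absurd h1 haB
    · exact h1
  have haCB : a ∈ centralizer (B : Set G) := by
    rw [mem_centralizer_iff]
    intro s hs
    exact hAc s (hBA hs) a haA
  refine ⟨B, hBA, haB, hsup, hdisj, ?_, ?_⟩
  · have h1 := Cfsg.Agent.Lib.Helper4.card_mul_card_eq_of_le_normalizer B (zpowers a) (by
      refine le_trans ?_ (centralizer_le_normalizer _)
      rw [le_centralizer_iff, zpowers_le]
      exact haCB)
    rw [hsup, hdisj, card_bot, mul_one, Nat.card_zpowers, hord] at h1
    rw [← h1, mul_comm]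
  · apply p_mul_card_le_of_lt (h.isPGroup_V.to_le inf_le_left)
    refine lt_of_le_of_ne (inf_le_inf_left _ (centralizer_le (SetLike.coe_subset_coe.mpr hBA))) ?_
    intro heq
    apply h.not_le_centralizer (hBA.trans hAH)
      ((Cfsg.Agent.Lib.Helper4.elemAb_isPGroup hA).to_le hBA) (hAH haA) haCB hB
    rw [← heq, ← hsup, centralizer_sup_zpowers]
    exact inf_le_right.trans inf_le_right

theorem centralizer_bot_eq_top : centralizer ((⊥ : Subgroup G) : Set G) = ⊤ := by
  rw [eq_top_iff]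
  intro x _
  rw [mem_centralizer_iff]
  intro s hs
  rw [SetLike.mem_coe, mem_bot] at hs
  rw [hs, one_mul, mul_one]

/-- the fundamental inequality `|A| |C_V(A)| ≤ |V|` -/
theorem FF.card_mul_le (h : FF p V H Q) : ∀ (n : ℕ) (A : Subgroup G), Nat.card A = n → A ≤ H →
    IsElementaryAbelian p A →
    Nat.card A * Nat.card ↥(V ⊓ centralizer (A : Set G)) ≤ Nat.card V := by
  intro n
  induction n using Nat.strong_induction_on with
  | _ n ih =>
  intro A hn hAH hA
  have hp : p.Prime := Fact.out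
  by_cases hA1 : A = ⊥
  · rw [hA1, centralizer_bot_eq_top, inf_top_eq, card_bot, one_mul]
  · obtain ⟨⟨a, haA⟩, ha1'⟩ := Subgroup.ne_bot_iff_exists_ne_one.mp hA1
    have ha1 : a ≠ 1 := fun h => ha1' (Subtype.ext h)
    obtain ⟨B, hBA, -, -, -, hcard, hstep⟩ := h.exists_step hAH hA haA ha1
    have hBpos : 0 < Nat.card B := Nat.card_pos
    have h1 := ih (Nat.card B) (by
      rw [← hn, hcard]
      exact lt_mul_of_one_lt_left hBpos hp.one_lt) B rfl (hBA.trans hAH)
      (Cfsg.Agent.Lib.Helper4.elemAb_of_le hBA hA)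
    calc Nat.card A * Nat.card ↥(V ⊓ centralizer (A : Set G))
        = Nat.card B * (p * Nat.card ↥(V ⊓ centralizer (A : Set G))) := by rw [hcard]; ring
      _ ≤ Nat.card B * Nat.card ↥(V ⊓ centralizer (B : Set G)) := Nat.mul_le_mul_left _ hstep
      _ ≤ Nat.card V := h1

theorem FF.card_mul_le' (h : FF p V H Q) {A : Subgroup G} (hAH : A ≤ H)
    (hA : IsElementaryAbelian p A) :
    Nat.card A * Nat.card ↥(V ⊓ centralizer (A : Set G)) ≤ Nat.card V :=
  h.card_mul_le _ A rfl hAH hA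

/-- S0610 -/
theorem FF.card_mul_eq (h : FF p V H Q) {A : Subgroup G} (hAH : A ≤ H)
    (hA : IsBestOffenderOn p V A) :
    Nat.card A * Nat.card ↥(V ⊓ centralizer (A : Set G)) = Nat.card V := by
  apply le_antisymm (h.card_mul_le' hAH (h.elemAb_of_bestOffender hAH hA))
  have h1 := hA.1 ⊥ bot_le
  rwa [centralizer_bot_eq_top, inf_top_eq, card_bot, one_mul] at h1

/-- characterisation of best offenders in `H` -/
theorem FF.bestOffender_iff (h : FF p V H Q) {A : Subgroup G} (hAH : A ≤ H) :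
    IsBestOffenderOn p V A ↔ IsElementaryAbelian p A ∧
      Nat.card A * Nat.card ↥(V ⊓ centralizer (A : Set G)) = Nat.card V := by
  constructor
  · intro hA
    exact ⟨h.elemAb_of_bestOffender hAH hA, h.card_mul_eq hAH hA⟩
  · rintro ⟨hA, hc⟩
    refine ⟨?_, ?_, ?_⟩
    · intro B hB
      rw [hc]
      exact h.card_mul_le' (hB.trans hAH) (Cfsg.Agent.Lib.Helper4.elemAb_of_le hB hA)
    · have hAc := (Cfsg.Agent.Lib.Helper4.isMulCommutative_iff A).mp hA.1
      rw [commutator_le]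
      intro a ha b hb
      rw [commutatorElement_eq_one_iff_mul_comm.mpr (hAc a ha b hb)]
      exact one_mem _
    · intro a ha
      rw [hA.2 a ha]
      exact one_mem _

/-- the hyperplane of a best offender is again a best offender -/
theorem FF.exists_step_bestOffender (h : FF p V H Q) {A : Subgroup G} (hAH : A ≤ H)
    (hA : IsBestOffenderOn p V A) {a : G} (haA : a ∈ A) (ha1 : a ≠ 1) :
    ∃ B ≤ A, a ∉ B ∧ B ⊔ zpowers a = A ∧ B ⊓ zpowers a = ⊥ ∧ Nat.card A = p * Nat.card B ∧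
      IsBestOffenderOn p V B := by
  have hAe := h.elemAb_of_bestOffender hAH hA
  obtain ⟨B, hBA, haB, hsup, hdisj, hcard, hstep⟩ := h.exists_step hAH hAe haA ha1
  refine ⟨B, hBA, haB, hsup, hdisj, hcard, ?_⟩
  have hBe := Cfsg.Agent.Lib.Helper4.elemAb_of_le hBA hAe
  rw [h.bestOffender_iff (hBA.trans hAH)]
  refine ⟨hBe, le_antisymm (h.card_mul_le' (hBA.trans hAH) hBe) ?_⟩
  rw [← h.card_mul_eq hAH hA, hcard]
  calc p * Nat.card B * Nat.card ↥(V ⊓ centralizer (A : Set G))
      = Nat.card B * (p * Nat.card ↥(V ⊓ centralizer (A : Set G))) := by ring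
    _ ≤ _ := Nat.mul_le_mul_left _ hstep

theorem FF.commutator_ne_bot_iff (h : FF p V H Q) {A : Subgroup G} (hAH : A ≤ H) :
    ⁅V, A⁆ ≠ ⊥ ↔ A ≠ ⊥ := by
  rw [not_iff_not, commutator_eq_bot_iff_le_centralizer, le_centralizer_iff]
  constructor
  · intro h1
    rw [eq_bot_iff, ← h.hf]
    exact le_inf hAH h1
  · intro h1
    rw [h1]
    exact bot_le

end Cfsg.Agent.Lib.Helper1
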