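import Mathlib
import Cfsg.Agent.Lib.Helper1.FF1

set_option autoImplicit false

namespace Cfsg.Agent.Lib.Helper1

open Subgroup Cfsg
open scoped commutatorElement
open Cfsg.Agent.Lib.Helper12 (cj mem_cj conj_mem_cj card_cj cj_inf cj_sup cj_commutator centralizer_cj
  cj_eq_of_mem_normalizer cj_mono)

variable {G : Type*} [Group G]

/-- commutators with a generated subgroup -/
theorem commutator_closure_le {V U : Subgroup G} (hUV : U ≤ V) (S : Set G)
    (hS : ∀ g ∈ S, ∀ v ∈ V, ⁅v, g⁆ ∈ U ∧ ⁅v, g⁻¹⁆ ∈ U) : ⁅V, closure S⁆ ≤ U := by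
  have hc : ∀ (k : G), (∀ v ∈ V, ⁅v, k⁆ ∈ U) → ∀ u ∈ U, k * u * k⁻¹ ∈ U := by
    intro k hk u hu
    have h1 : k * u * k⁻¹ = (⁅u, k⁆)⁻¹ * u := by rw [commutatorElement_def]; group
    rw [h1]
    exact mul_mem (inv_mem (hk u (hUV hu))) hu
  have key : ∀ g ∈ closure S, ∀ v ∈ V, ⁅v, g⁆ ∈ U ∧ ⁅v, g⁻¹⁆ ∈ U := by
    intro g hg
    induction hg using closure_induction with
    | mem g hg => exact hS g hg
    | one =>
      intro v _
      simp [commutatorElement_def, one_mem]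
    | mul g h _ _ ihg ihh =>
      intro v hv
      constructor
      · have h1 : ⁅v, g * h⁆ = ⁅v, g⁆ * (g * ⁅v, h⁆ * g⁻¹) := by
          simp only [commutatorElement_def]; group
        rw [h1]
        exact mul_mem (ihg v hv).1 (hc g (fun v hv => (ihg v hv).1) _ (ihh v hv).1)
      · have h1 : ⁅v, (g * h)⁻¹⁆ = ⁅v, h⁻¹⁆ * (h⁻¹ * ⁅v, g⁻¹⁆ * h⁻¹⁻¹) := by
          simp only [commutatorElement_def]; group
        rw [h1]
        exact mul_mem (ihh v hv).2 (hc h⁻¹ (fun v hv => (ihh v hv).2) _ (ihg v hv).2)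
    | inv g _ ih =>
      intro v hv
      rw [inv_inv]
      exact (ih v hv).symm
  rw [commutator_le]
  intro v hv g hg
  exact (key g hg v hv).1

theorem commutator_sup_eq {V A B : Subgroup G} (hA : ⁅V, A⁆ ≤ V) (hB : ⁅V, B⁆ ≤ V) :
    ⁅V, A ⊔ B⁆ = ⁅V, A⁆ ⊔ ⁅V, B⁆ := by
  apply le_antisymm
  · rw [sup_eq_closure]
    apply commutator_closure_le (sup_le hA hB)
    rintro g (hg | hg) v hv
    · exact ⟨le_sup_left (b := ⁅V, B⁆) (commutator_mem_commutator hv hg),
        le_sup_left (b := ⁅V, B⁆) (commutator_mem_commutator hv (inv_mem hg))⟩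
    · exact ⟨le_sup_right (a := ⁅V, A⁆) (commutator_mem_commutator hv hg),
        le_sup_right (a := ⁅V, A⁆) (commutator_mem_commutator hv (inv_mem hg))⟩
  · exact sup_le (commutator_mono le_rfl le_sup_left) (commutator_mono le_rfl le_sup_right)

theorem commutator_le_left_of_le_normalizer {V A : Subgroup G} (h : A ≤ normalizer (V : Set G)) :
    ⁅V, A⁆ ≤ V := by
  rw [commutator_le]
  intro v hv a ha
  have h1 : ⁅v, a⁆ = v * (a * v⁻¹ * a⁻¹) := by rw [commutatorElement_def]; group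
  rw [h1]
  exact mul_mem hv (conj_mem_of_mem_normalizer (h ha) (inv_mem hv))

theorem centralizes_of_card_prime {p : ℕ} (hp : p.Prime) {Z : Subgroup G} (hZ : Nat.card Z = p) {a : G}
    (haZ : a ∈ normalizer (Z : Set G)) (hap : a ^ p = 1) : a ∈ centralizer (Z : Set G) := by
  have : Fact p.Prime := ⟨hp⟩
  have hcyc : IsCyclic Z := isCyclic_of_prime_card hZ
  have hfin : Finite Z := Nat.finite_of_card_ne_zero (by rw [hZ]; exact hp.ne_zero)
  have hcard : Nat.card (MulAut Z) = p - 1 := by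
    rw [IsCyclic.card_mulAut, hZ, Nat.totient_prime hp]
  set φ : MulAut Z := Z.normalizerMonoidHom ⟨a, haZ⟩ with hφ
  have h1 : φ ^ (p - 1) = 1 := by rw [← hcard]; exact pow_card_eq_one'
  have h2 : φ ^ p = 1 := by
    rw [hφ, ← map_pow]
    have h3 : (⟨a, haZ⟩ : normalizer (Z : Set G)) ^ p = 1 := by ext; simpa using hap
    rw [h3, map_one]
  have h3 : φ = 1 := by
    have h4 : p = (p - 1) + 1 := by have := hp.pos; omega
    rw [h4, pow_succ, h1, one_mul] at h2
    exact h2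
  have h4 : (⟨a, haZ⟩ : normalizer (Z : Set G)) ∈ Z.normalizerMonoidHom.ker := h3
  rw [normalizerMonoidHom_ker, mem_subgroupOf] at h4
  exact h4

theorem centralizer_zpowers_eq [Finite G] (a : G) :
    centralizer ((zpowers a : Subgroup G) : Set G) = centralizer {a} := by
  have h := centralizer_sup_zpowers (⊥ : Subgroup G) a
  rwa [bot_sup_eq, centralizer_bot_eq_top, top_inf_eq] at h

/-- `v ↦ [v,a]` as a homomorphism on the abelian group `V` -/
def cmHom (V : Subgroup G) (hVc : ∀ x ∈ V, ∀ y ∈ V, x * y = y * x) (a : G)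
    (ha : a ∈ normalizer (V : Set G)) : ↥V →* G where
  toFun v := (v : G) * a * (v : G)⁻¹ * a⁻¹
  map_one' := by simp
  map_mul' v w := by
    have h1 : a * (v : G)⁻¹ * a⁻¹ ∈ V := conj_mem_of_mem_normalizer ha (inv_mem v.2)
    have h2 : (w : G) * (a * (w : G)⁻¹ * a⁻¹) ∈ V :=
      mul_mem w.2 (conj_mem_of_mem_normalizer ha (inv_mem w.2))
    have h3 := hVc _ h2 _ h1
    calc ((v * w : V) : G) * a * ((v * w : V) : G)⁻¹ * a⁻¹
        = v * ((w : G) * (a * (w : G)⁻¹ * a⁻¹) * (a * (v : G)⁻¹ * a⁻¹)) := by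
          rw [Subgroup.coe_mul]; group
      _ = (v : G) * a * (v : G)⁻¹ * a⁻¹ * ((w : G) * a * (w : G)⁻¹ * a⁻¹) := by rw [h3]; group

section cm

variable {V : Subgroup G} (hVc : ∀ x ∈ V, ∀ y ∈ V, x * y = y * x) {a : G}
  (ha : a ∈ normalizer (V : Set G))

theorem cmHom_apply (v : V) : cmHom V hVc a ha v = (v : G) * a * (v : G)⁻¹ * a⁻¹ := rfl

theorem cmHom_range_le : (cmHom V hVc a ha).range ≤ V := by
  rintro _ ⟨v, rfl⟩
  have h1 : cmHom V hVc a ha v = v * (a * (v : G)⁻¹ * a⁻¹) := by rw [cmHom_apply]; group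
  rw [h1]
  exact mul_mem v.2 (conj_mem_of_mem_normalizer ha (inv_mem v.2))

theorem cmHom_ker : (cmHom V hVc a ha).ker = (centralizer {a}).subgroupOf V := by
  ext v
  rw [MonoidHom.mem_ker, mem_subgroupOf, mem_centralizer_singleton_iff, cmHom_apply]
  constructor
  · intro h
    calc (v : G) * a = ((v : G) * a * (v : G)⁻¹ * a⁻¹) * (a * v) := by group
      _ = a * v := by rw [h, one_mul]
  · intro h
    rw [h]; group

theorem card_cmHom_range :
    Nat.card (cmHom V hVc a ha).range * Nat.card ↥(V ⊓ centralizer {a}) = Nat.card V := by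
  rw [← card_mul_index (cmHom V hVc a ha).ker, index_ker, cmHom_ker, mul_comm]
  congr 1
  rw [← inf_subgroupOf_left, Cfsg.Agent.Lib.Helper4.card_subgroupOf_of_le inf_le_left]

theorem commutator_zpowers_eq : ⁅V, zpowers a⁆ = (cmHom V hVc a ha).range := by
  apply le_antisymm
  · rw [zpowers_eq_closure]
    apply commutator_closure_le (cmHom_range_le hVc ha)
    intro g hg v hv
    rw [Set.mem_singleton_iff] at hg
    subst hg
    refine ⟨⟨⟨v, hv⟩, rfl⟩, ⟨⟨g⁻¹ * v⁻¹ * g, conj_mem_of_mem_normalizer' ha (inv_mem hv)⟩, ?_⟩⟩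
    rw [cmHom_apply, commutatorElement_def]
    have h1 := hVc _ (conj_mem_of_mem_normalizer' ha (inv_mem hv)) v hv
    calc g⁻¹ * v⁻¹ * g * g * (g⁻¹ * v⁻¹ * g)⁻¹ * g⁻¹ = g⁻¹ * v⁻¹ * g * v := by group
      _ = v * g⁻¹ * v⁻¹ * g⁻¹⁻¹ := by rw [h1]; group
  · rintro _ ⟨v, rfl⟩
    exact commutator_mem_commutator v.2 (mem_zpowers a)

end cm

theorem conj_pow_of_chain {g v w : G} (hw : g * v * g⁻¹ = w * v) (hgw : g * w = w * g) (n : ℕ) :
    g ^ n * v * (g ^ n)⁻¹ = w ^ n * v := by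
  induction n with
  | zero => simp
  | succ n ih =>
    have h1 : g * w ^ n * g⁻¹ = w ^ n := by
      have : Commute g (w ^ n) := Commute.pow_right hgw n
      rw [this.eq]; group
    calc g ^ (n + 1) * v * (g ^ (n + 1))⁻¹ = g * (g ^ n * v * (g ^ n)⁻¹) * g⁻¹ := by
          rw [pow_succ']; group
      _ = (g * w ^ n * g⁻¹) * (g * v * g⁻¹) := by rw [ih]; group
      _ = w ^ (n + 1) * v := by rw [h1, hw, pow_succ]; group

theorem centralizes_of_stabilizes_chain {p : ℕ} {V W : Subgroup G} (hVp : ∀ v ∈ V, v ^ p = 1)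
    (hWV : W ≤ V) {g : G} (hgW : g ∈ centralizer (W : Set G))
    (hgV : ∀ v ∈ V, g * v * g⁻¹ * v⁻¹ ∈ W) (hg : (orderOf g).Coprime p) :
    g ∈ centralizer (V : Set G) := by
  rw [mem_centralizer_iff]
  intro v hv
  set w := g * v * g⁻¹ * v⁻¹ with hw
  have hwW : w ∈ W := hgV v hv
  have h1 : g * v * g⁻¹ = w * v := by rw [hw]; group
  have h2 : g * w = w * g := ((mem_centralizer_iff.mp hgW) w hwW).symm
  have h3 := conj_pow_of_chain h1 h2 (orderOf g)
  rw [pow_orderOf_eq_one, one_mul, inv_one, mul_one] at h3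
  have h4 : w ^ orderOf g = 1 := by
    calc w ^ orderOf g = (w ^ orderOf g * v) * v⁻¹ := by group
      _ = 1 := by rw [← h3]; group
  have h5 : orderOf w ∣ 1 := by
    have := Nat.dvd_gcd (orderOf_dvd_of_pow_eq_one h4) (orderOf_dvd_of_pow_eq_one (hVp w (hWV hwW)))
    rwa [hg.gcd_eq_one] at this
  have h6 : w = 1 := orderOf_eq_one_iff.mp (Nat.dvd_one.mp h5)
  rw [h6, one_mul] at h1
  calc v * g = (g * v * g⁻¹) * g := by rw [h1]
    _ = g * v := by group

theorem pow_centralizes_of_stabilizes_chain {p : ℕ} {V W : Subgroup G} (hVp : ∀ v ∈ V, v ^ p = 1)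
    (hWV : W ≤ V) {g : G} (hgW : g ∈ centralizer (W : Set G))
    (hgV : ∀ v ∈ V, g * v * g⁻¹ * v⁻¹ ∈ W) : g ^ p ∈ centralizer (V : Set G) := by
  rw [mem_centralizer_iff]
  intro v hv
  set w := g * v * g⁻¹ * v⁻¹ with hw
  have hwW : w ∈ W := hgV v hv
  have h1 : g * v * g⁻¹ = w * v := by rw [hw]; group
  have h2 : g * w = w * g := ((mem_centralizer_iff.mp hgW) w hwW).symm
  have h3 := conj_pow_of_chain h1 h2 p
  rw [hVp w (hWV hwW), one_mul] at h3
  calc v * g ^ p = (g ^ p * v * (g ^ p)⁻¹) * g ^ p := by rw [h3]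
    _ = g ^ p * v := by group

/-- transvection subgroups -/
structure IsTv (p : ℕ) (V H A : Subgroup G) : Prop where
  le : A ≤ H
  card : Nat.card A = p
  cardC : p * Nat.card ↥(V ⊓ centralizer (A : Set G)) = Nat.card V

theorem cj_zpowers (g a : G) : cj g (zpowers a) = zpowers (g * a * g⁻¹) := by
  rw [cj, MonoidHom.map_zpowers]
  rfl

variable [Finite G] {p : ℕ} [Fact p.Prime] {V H Q : Subgroup G}

theorem IsTv.cj {A : Subgroup G} (hA : IsTv p V H A) (hHV : H ≤ normalizer (V : Set G)) {g : G}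
    (hg : g ∈ H) : IsTv p V H (cj g A) := by
  refine ⟨?_, by rw [card_cj, hA.card], ?_⟩
  · have := cj_mono (g := g) hA.le
    rwa [Cfsg.Agent.Lib.Helper12.cj_eq_of_mem hg] at this
  · rw [centralizer_cj]
    have h1 : V ⊓ Helper12.cj g (centralizer (A : Set G)) = Helper12.cj g (V ⊓ centralizer (A : Set G)) := by
      rw [cj_inf, cj_eq_of_mem_normalizer (hHV hg)]
    rw [h1, card_cj, hA.cardC]

theorem IsTv.eq_zpowers {A : Subgroup G} (hA : IsTv p V H A) {a : G} (ha : a ∈ A) (ha1 : a ≠ 1) :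
    A = zpowers a := by
  have hp : p.Prime := Fact.out
  symm
  apply eq_of_le_of_card_ge (zpowers_le.mpr ha)
  rw [Nat.card_zpowers, hA.card]
  have h1 : orderOf a ∣ p := by
    rw [← hA.card]
    have := orderOf_dvd_natCard (⟨a, ha⟩ : A)
    rwa [Subgroup.orderOf_mk] at this
  rcases (Nat.dvd_prime hp).mp h1 with h2 | h2
  · exact absurd (orderOf_eq_one_iff.mp h2) ha1
  · exact h2.ge

theorem IsTv.pow_eq_one {A : Subgroup G} (hA : IsTv p V H A) {a : G} (ha : a ∈ A) : a ^ p = 1 := by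
  have := pow_card_eq_one' (G := A) (x := ⟨a, ha⟩)
  rw [hA.card] at this
  exact congrArg Subtype.val this

theorem IsTv.ne_bot {A : Subgroup G} (hA : IsTv p V H A) : A ≠ ⊥ := by
  have hp : p.Prime := Fact.out
  intro h
  have := hA.card
  rw [h, card_bot] at this
  exact hp.one_lt.ne this

theorem IsTv.exists_gen {A : Subgroup G} (hA : IsTv p V H A) :
    ∃ a ∈ A, a ≠ 1 ∧ A = zpowers a ∧ a ^ p = 1 := by
  obtain ⟨⟨a, haA⟩, ha1'⟩ := Subgroup.ne_bot_iff_exists_ne_one.mp hA.ne_bot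
  have ha1 : a ≠ 1 := fun h => ha1' (Subtype.ext h)
  exact ⟨a, haA, ha1, hA.eq_zpowers haA ha1, hA.pow_eq_one haA⟩

theorem IsTv.elemAb {A : Subgroup G} (hA : IsTv p V H A) : IsElementaryAbelian p A := by
  obtain ⟨a, -, -, rfl, hap⟩ := hA.exists_gen
  exact Cfsg.Agent.Lib.Helper4.elemAb_zpowers hap

theorem FF.card_comm_of_isTv (h : FF p V H Q) {A : Subgroup G} (hA : IsTv p V H A) :
    Nat.card ↥(⁅V, A⁆) = p := by
  have hp : p.Prime := Fact.out
  obtain ⟨a, haA, -, rfl, hap⟩ := hA.exists_gen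
  have haN := h.hHV (hA.le haA)
  rw [commutator_zpowers_eq h.V_comm haN]
  have h1 := card_cmHom_range h.V_comm haN
  rw [← hA.cardC, centralizer_zpowers_eq] at h1
  exact Nat.eq_of_mul_eq_mul_right Nat.card_pos h1

theorem FF.le_centralizer_comm_of_isTv (h : FF p V H Q) {A : Subgroup G} (hA : IsTv p V H A) :
    A ≤ centralizer ((⁅V, A⁆ : Subgroup G) : Set G) := by
  have hp : p.Prime := Fact.out
  intro a ha
  apply centralizes_of_card_prime hp (h.card_comm_of_isTv hA) _ (hA.pow_eq_one ha)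
  exact le_normalizer_commutator_right (hA.le.trans h.hHV) ha

theorem FF.bestOffender_of_isTv (h : FF p V H Q) {A : Subgroup G} (hA : IsTv p V H A) :
    IsBestOffenderOn p V A := by
  rw [h.bestOffender_iff hA.le]
  exact ⟨hA.elemAb, by rw [hA.card, hA.cardC]⟩

/-- minimal nontrivially acting best offenders are the transvection subgroups -/
theorem FF.isTv_of_min (h : FF p V H Q) {A : Subgroup G} (hAH : A ≤ H)
    (hA : IsBestOffenderOn p V A) (hAV : ⁅V, A⁆ ≠ ⊥)
    (hmin : ∀ B : Subgroup G, B ≤ A → IsBestOffenderOn p V B → ⁅V, B⁆ ≠ ⊥ → B = A) :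
    IsTv p V H A := by
  have hA1 : A ≠ ⊥ := (h.commutator_ne_bot_iff hAH).mp hAV
  obtain ⟨⟨a, haA⟩, ha1'⟩ := Subgroup.ne_bot_iff_exists_ne_one.mp hA1
  have ha1 : a ≠ 1 := fun h => ha1' (Subtype.ext h)
  obtain ⟨B, hBA, haB, hsup, hdisj, hcard, hB⟩ := h.exists_step_bestOffender hAH hA haA ha1
  have hB1 : B = ⊥ := by
    by_contra hB1
    have := hmin B hBA hB ((h.commutator_ne_bot_iff (hBA.trans hAH)).mpr hB1)
    exact haB (this ▸ haA)
  rw [hB1, card_bot, mul_one] at hcard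
  refine ⟨hAH, hcard, ?_⟩
  rw [← h.card_mul_eq hAH hA, hcard]

theorem FF.min_of_isTv (h : FF p V H Q) {A : Subgroup G} (hA : IsTv p V H A) :
    ⁅V, A⁆ ≠ ⊥ ∧
      ∀ B : Subgroup G, B ≤ A → IsBestOffenderOn p V B → ⁅V, B⁆ ≠ ⊥ → B = A := by
  refine ⟨(h.commutator_ne_bot_iff hA.le).mpr hA.ne_bot, ?_⟩
  intro B hBA _ hBV
  have hB1 : B ≠ ⊥ := (h.commutator_ne_bot_iff (hBA.trans hA.le)).mp hBV
  obtain ⟨⟨b, hbB⟩, hb1'⟩ := Subgroup.ne_bot_iff_exists_ne_one.mp hB1
  have hb1 : b ≠ 1 := fun h => hb1' (Subtype.ext h)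
  apply le_antisymm hBA
  rw [hA.eq_zpowers (hBA hbB) hb1, zpowers_le]
  exact hbB

theorem IsTv.relIndex_eq {A : Subgroup G} (hA : IsTv p V H A) :
    (V ⊓ centralizer (A : Set G)).relIndex V = p := by
  have h1 := Cfsg.Agent.Lib.Helper4.card_eq_mul_relIndex (inf_le_left : V ⊓ centralizer (A : Set G) ≤ V)
  rw [← hA.cardC, mul_comm] at h1
  exact (Nat.eq_of_mul_eq_mul_left Nat.card_pos h1).symm

/-- every nontrivial best offender contains a transvection subgroup -/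
theorem FF.exists_isTv_le (h : FF p V H Q) {A : Subgroup G} (hAH : A ≤ H)
    (hA : IsBestOffenderOn p V A) (hA1 : A ≠ ⊥) : ∃ B ≤ A, IsTv p V H B := by
  let 𝒮 : Subgroup G → Prop := fun B => B ≤ A ∧ IsBestOffenderOn p V B ∧ ⁅V, B⁆ ≠ ⊥
  have : Nonempty {B : Subgroup G // 𝒮 B} :=
    ⟨⟨A, le_rfl, hA, (h.commutator_ne_bot_iff hAH).mpr hA1⟩⟩
  obtain ⟨⟨B, hBA, hB, hBV⟩, hmin⟩ :=
    Finite.exists_min (fun B : {B : Subgroup G // 𝒮 B} => Nat.card B.1)
  refine ⟨B, hBA, h.isTv_of_min (hBA.trans hAH) hB hBV ?_⟩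
  intro C hCB hC hCV
  exact eq_of_le_of_card_ge hCB (hmin ⟨C, hCB.trans hBA, hC, hCV⟩)

omit [Finite G] in
theorem iSupIndep_option_of_comm {ι : Type*} {A A₁ A' : Subgroup G}
    (hAc : ∀ x ∈ A, ∀ y ∈ A, x * y = y * x) (hA₁ : A₁ ≤ A) (hA' : A' ≤ A)
    (B : ι → Subgroup G) (hB : iSupIndep B) (hsup : ⨆ i, B i = A') (hdisj : A' ⊓ A₁ = ⊥) :
    iSupIndep (fun o : Option ι => o.elim A₁ B) := by
  rw [iSupIndep_def]
  intro o
  cases o with
  | none =>
    have h1 : (⨆ (j : Option ι) (_ : j ≠ none), j.elim A₁ B) ≤ A' := by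
      apply iSup₂_le
      intro j hj
      cases j with
      | none => exact absurd rfl hj
      | some b => rw [← hsup]; exact le_iSup B b
    refine Disjoint.mono_right h1 ?_
    rw [disjoint_iff, inf_comm]
    exact hdisj
  | some i =>
    have h1 : (⨆ (j : Option ι) (_ : j ≠ some i), j.elim A₁ B) ≤ A₁ ⊔ ⨆ (b : ι) (_ : b ≠ i), B b := by
      apply iSup₂_le
      intro j hj
      cases j with
      | none => exact le_sup_left
      | some b =>
        refine le_sup_of_le_right ?_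
        exact le_iSup₂ (f := fun (b : ι) (_ : b ≠ i) => B b) b (fun h => hj (by rw [h]))
    refine Disjoint.mono_right h1 ?_
    set K : Subgroup G := ⨆ (b : ι) (_ : b ≠ i), B b with hK
    have hKA' : K ≤ A' := by
      rw [← hsup]
      exact iSup₂_le (fun b _ => le_iSup B b)
    have hBi : B i ≤ A' := by rw [← hsup]; exact le_iSup B i
    have hnorm : K ≤ normalizer (A₁ : Set G) := by
      refine le_trans ?_ (centralizer_le_normalizer _)
      intro k hk
      rw [mem_centralizer_iff]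
      intro y hy
      exact hAc y (hA₁ hy) k (hA' (hKA' hk))
    rw [disjoint_iff, eq_bot_iff]
    rintro x ⟨hxB, hxs⟩
    obtain ⟨y, hy, z, hz, rfl⟩ := (mem_sup_of_le_normalizer hnorm).mp hxs
    have hy1 : y ∈ A' ⊓ A₁ := by
      refine ⟨?_, hy⟩
      have h2 : y = (y * z) * z⁻¹ := by group
      have h3 : (y * z) * z⁻¹ ∈ A' := mul_mem (hBi hxB) (inv_mem (hKA' hz))
      rw [← h2] at h3
      exact h3
    rw [hdisj, mem_bot] at hy1
    rw [hy1, one_mul] at hxB ⊢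
    have h3 := (iSupIndep_def.mp hB i)
    rw [disjoint_iff] at h3
    rw [← h3]
    exact ⟨hxB, hz⟩

/-- S0612, general index type -/
theorem FF.exists_decomp_aux (h : FF p V H Q) : ∀ (n : ℕ) (A : Subgroup G), Nat.card A = n → A ≤ H →
    IsBestOffenderOn p V A →
    ∃ (ι : Type) (_ : Finite ι) (B : ι → Subgroup G), (∀ i, B i ≤ A ∧ IsTv p V H (B i)) ∧
      iSupIndep B ∧ ⨆ i, B i = A := by
  intro n
  induction n using Nat.strong_induction_on with
  | _ n ih =>
  intro A hn hAH hA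
  have hp : p.Prime := Fact.out
  by_cases hA1 : A = ⊥
  · refine ⟨Empty, inferInstance, fun e => e.elim, fun e => e.elim, ?_, ?_⟩
    · exact iSupIndep_subsingleton _
    · rw [hA1, iSup_of_empty]
  · obtain ⟨A₁, hA₁A, hA₁⟩ := h.exists_isTv_le hAH hA hA1
    obtain ⟨a, haA₁, ha1, hA₁a, -⟩ := hA₁.exists_gen
    obtain ⟨A', hA'A, haA', hsup, hdisj, hcard, hA'⟩ :=
      h.exists_step_bestOffender hAH hA (hA₁A haA₁) ha1
    have hpos : 0 < Nat.card A' := Nat.card_pos
    obtain ⟨ι, hι, B, hB, hind, hBsup⟩ := ih (Nat.card A') (by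
      rw [← hn, hcard]
      exact lt_mul_of_one_lt_left hpos hp.one_lt) A' rfl (hA'A.trans hAH) hA'
    rw [← hA₁a] at hsup hdisj
    have hAc := (Cfsg.Agent.Lib.Helper4.isMulCommutative_iff A).mp
      (h.elemAb_of_bestOffender hAH hA).1
    refine ⟨Option ι, inferInstance, fun o => o.elim A₁ B, ?_,
      iSupIndep_option_of_comm hAc hA₁A hA'A B hind hBsup hdisj, ?_⟩
    · intro o
      cases o with
      | none => exact ⟨hA₁A, hA₁⟩
      | some i => exact ⟨(hB i).1.trans hA'A, (hB i).2⟩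
    · rw [iSup_option]
      change A₁ ⊔ ⨆ b, B b = A
      rw [hBsup, sup_comm, hsup]

theorem FF.exists_decomp (h : FF p V H Q) {A : Subgroup G} (hAH : A ≤ H)
    (hA : IsBestOffenderOn p V A) :
    ∃ (k : ℕ) (B : Fin k → Subgroup G), (∀ i, B i ≤ A ∧ IsTv p V H (B i)) ∧
      iSupIndep B ∧ ⨆ i, B i = A := by
  obtain ⟨ι, hι, B, hB, hind, hBsup⟩ := h.exists_decomp_aux _ A rfl hAH hA
  let e := Finite.equivFin ι
  refine ⟨Nat.card ι, B ∘ e.symm, fun i => hB _, hind.comp e.symm.injective, ?_⟩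
  rw [← hBsup]
  exact e.symm.iSup_comp (g := B)

end Cfsg.Agent.Lib.Helper1
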