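import Mathlib
import Cfsg.Prelude.Def_Transfer
import Cfsg.Agent.Lib.Helper14.GL2Syl
import Cfsg.Agent.Lib.Helper4.Basic

set_option autoImplicit false

namespace Cfsg.Agent.Lib.Helper1

open Subgroup Cfsg Matrix

variable {p : ℕ} [Fact p.Prime]

theorem exists_mulAut_hom_aux (W : Type*) [CommGroup W] [Module (ZMod p) (Additive W)] [Finite W]
    (hcard : Nat.card W = p ^ 2) :
    ∃ ψ : MulAut W →* Matrix (Fin 2) (Fin 2) (ZMod p), Function.Injective ψ := by
  have hp : p.Prime := Fact.out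
  haveI : Finite (Additive W) := ‹Finite W›
  haveI : Module.Finite (ZMod p) (Additive W) := Module.Finite.of_finite
  have hrank : Module.finrank (ZMod p) (Additive W) = 2 := by
    have h1 := Module.natCard_eq_pow_finrank (K := ZMod p) (V := Additive W)
    rw [Nat.card_zmod] at h1
    have h2 : Nat.card (Additive W) = p ^ 2 := hcard
    rw [h2] at h1
    exact (Nat.pow_right_injective hp.two_le h1).symm
  let b := Module.finBasisOfFinrankEq (ZMod p) (Additive W) hrank
  let toLin : MulAut W →* Module.End (ZMod p) (Additive W) :=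
    { toFun := fun f => (MonoidHom.toAdditive f.toMonoidHom).toZModLinearMap p
      map_one' := LinearMap.ext (fun x => rfl)
      map_mul' := fun f g => LinearMap.ext (fun x => rfl) }
  have hinj : Function.Injective toLin := by
    intro f g hfg
    ext w
    have := LinearMap.congr_fun hfg (Additive.ofMul w)
    exact this
  refine ⟨((LinearMap.toMatrixAlgEquiv b).toAlgHom : _ →* _).comp toLin, ?_⟩
  intro f g hfg
  apply hinj
  exact (LinearMap.toMatrixAlgEquiv b).injective hfg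

/-- automorphisms of an elementary abelian group of order `p²` as matrices -/
theorem exists_mulAut_hom (W : Type*) [CommGroup W] (hexp : ∀ w : W, w ^ p = 1)
    (hcard : Nat.card W = p ^ 2) :
    ∃ ψ : MulAut W →* Matrix (Fin 2) (Fin 2) (ZMod p), Function.Injective ψ := by
  have hp : p.Prime := Fact.out
  letI : Module (ZMod p) (Additive W) := AddCommGroup.zmodModule (n := p) (fun x => by
    exact congrArg Additive.ofMul (hexp x.toMul))
  haveI hfin : Finite W := Nat.finite_of_card_ne_zero (by rw [hcard]; exact pow_ne_zero _ hp.ne_zero)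
  exact exists_mulAut_hom_aux W hcard

theorem card_sylow_SL2 (S : Sylow p (SpecialLinearGroup (Fin 2) (ZMod p))) : Nat.card S = p := by
  obtain ⟨P0, hP0⟩ := Cfsg.Agent.Lib.Helper14.exists_sylow_eq_USL (F := ZMod p) p
  rw [Sylow.card_eq_multiplicity, ← Sylow.card_eq_multiplicity P0]
  have : Nat.card P0 = Nat.card (Cfsg.Agent.Lib.Helper14.USL (ZMod p)) := by
    rw [← hP0]
  rw [this, Cfsg.Agent.Lib.Helper14.card_USL, ZMod.card]

theorem nonempty_mulEquiv_SL2_of_hom {L : Type*} [Group L] [Finite L]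
    (ψ : L →* Matrix (Fin 2) (Fin 2) (ZMod p)) (hinj : Function.Injective ψ) (A A' : Subgroup L)
    (hA : Nat.card A = p) (hA' : Nat.card A' = p) (hne : A ≠ A') (hgen : A ⊔ A' = ⊤) :
    Nonempty (L ≃* SpecialLinearGroup (Fin 2) (ZMod p)) := by
  have hp : p.Prime := Fact.out
  let δ : L →* ZMod p := Matrix.detMonoidHom.comp ψ
  have hker : ∀ B : Subgroup L, Nat.card B = p → B ≤ δ.ker := by
    intro B hB g hg
    rw [MonoidHom.mem_ker]
    have h1 : g ^ p = 1 := by
      have := pow_card_eq_one' (G := B) (x := ⟨g, hg⟩)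
      rw [hB] at this
      exact congrArg Subtype.val this
    calc δ g = (δ g) ^ p := (ZMod.pow_card _).symm
      _ = δ (g ^ p) := (map_pow δ g p).symm
      _ = 1 := by rw [h1, map_one]
  have hδ : ∀ g : L, (ψ g).det = 1 := by
    intro g
    have h1 : g ∈ δ.ker := by
      have : A ⊔ A' ≤ δ.ker := sup_le (hker A hA) (hker A' hA')
      rw [hgen] at this
      exact this (mem_top g)
    exact h1
  let Φ : L →* SpecialLinearGroup (Fin 2) (ZMod p) :=
    { toFun := fun g => ⟨ψ g, hδ g⟩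
      map_one' := Subtype.ext (map_one ψ)
      map_mul' := fun a b => Subtype.ext (map_mul ψ a b) }
  have hΦ : Function.Injective Φ := by
    intro a b hab
    exact hinj (congrArg Subtype.val hab)
  have hsyl : ∀ B : Subgroup L, Nat.card B = p →
      ∃ S : Sylow p (SpecialLinearGroup (Fin 2) (ZMod p)), (S : Subgroup _) = B.map Φ := by
    intro B hB
    have hc : Nat.card (B.map Φ) = p := by rw [card_map_of_injective hΦ, hB]
    have hpg : IsPGroup p (B.map Φ) := IsPGroup.of_card (n := 1) (by rw [hc, pow_one])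
    obtain ⟨S, hS⟩ := hpg.exists_le_sylow
    refine ⟨S, (eq_of_le_of_card_ge hS ?_).symm⟩
    rw [hc]
    exact (card_sylow_SL2 S).le
  obtain ⟨S, hS⟩ := hsyl A hA
  obtain ⟨S', hS'⟩ := hsyl A' hA'
  have hSne : S ≠ S' := by
    intro h
    apply hne
    apply Subgroup.map_injective hΦ
    rw [← hS, ← hS', h]
  have htop := Cfsg.Agent.Lib.Helper14.sylow_SL2_sup_eq_top p S S' hSne
  have hsurj : Function.Surjective Φ := by
    rw [← MonoidHom.range_eq_top, MonoidHom.range_eq_map, ← hgen, Subgroup.map_sup, ← hS, ← hS', htop]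
  exact ⟨MulEquiv.ofBijective Φ ⟨hΦ, hsurj⟩⟩

open scoped IsMulCommutative in
/-- recognition of `SL₂(p)` -/
theorem nonempty_mulEquiv_SL2 {G : Type*} [Group G] [Finite G] {W L A A' : Subgroup G}
    (hW : IsElementaryAbelian p W) (hcard : Nat.card W = p ^ 2)
    (hLW : L ≤ normalizer (W : Set G)) (hf : L ⊓ centralizer (W : Set G) = ⊥)
    (hA : Nat.card A = p) (hA' : Nat.card A' = p) (hne : A ≠ A') (hgen : A ⊔ A' = L) :
    Nonempty (L ≃* SpecialLinearGroup (Fin 2) (ZMod p)) := by
  haveI := hW.1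
  obtain ⟨ψ, hψ⟩ := exists_mulAut_hom (p := p) ↥W (fun w => by
    ext
    exact hW.2 w w.2) hcard
  let α : ↥L →* MulAut ↥W := W.normalizerMonoidHom.comp (inclusion hLW)
  have hα : Function.Injective α := by
    rw [injective_iff_map_eq_one]
    intro g hg
    have h1 : inclusion hLW g ∈ W.normalizerMonoidHom.ker := hg
    rw [normalizerMonoidHom_ker, mem_subgroupOf] at h1
    have h2 : (g : G) ∈ L ⊓ centralizer (W : Set G) := ⟨g.2, h1⟩
    rw [hf, mem_bot] at h2
    exact Subtype.ext h2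
  have hAL : A ≤ L := hgen ▸ le_sup_left
  have hA'L : A' ≤ L := hgen ▸ le_sup_right
  apply nonempty_mulEquiv_SL2_of_hom (ψ.comp α) (hψ.comp hα) (A.subgroupOf L) (A'.subgroupOf L)
  · rw [Cfsg.Agent.Lib.Helper4.card_subgroupOf_of_le hAL, hA]
  · rw [Cfsg.Agent.Lib.Helper4.card_subgroupOf_of_le hA'L, hA']
  · intro h
    apply hne
    have := congrArg (fun K : Subgroup L => K.map L.subtype) h
    simp only [subgroupOf_map_subtype] at this
    rwa [inf_eq_left.mpr hAL, inf_eq_left.mpr hA'L] at this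
  · rw [← subgroupOf_sup hAL hA'L, hgen, subgroupOf_self]

/-- `SL₂(p)` has a normal `p'`-subgroup of index `p` only for `p ≤ 3` -/
theorem two_or_three_of_normal_SL2 (N : Subgroup (SpecialLinearGroup (Fin 2) (ZMod p))) [N.Normal]
    (hidx : N.index = p) (hcop : (Nat.card N).Coprime p) : p = 2 ∨ p = 3 := by
  have hp : p.Prime := Fact.out
  by_contra hcon
  push Not at hcon
  obtain ⟨hp2, hp3⟩ := hcon
  have h2 : (2 : ZMod p) ≠ 0 := by
    intro h
    have h' : ((2 : ℕ) : ZMod p) = 0 := by exact_mod_cast h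
    rw [ZMod.natCast_eq_zero_iff] at h'
    exact hp2 ((Nat.prime_dvd_prime_iff_eq hp Nat.prime_two).mp h')
  have h3 : (3 : ZMod p) ≠ 0 := by
    intro h
    have h' : ((3 : ℕ) : ZMod p) = 0 := by exact_mod_cast h
    rw [ZMod.natCast_eq_zero_iff] at h'
    exact hp3 ((Nat.prime_dvd_prime_iff_eq hp Nat.prime_three).mp h')
  let u : ZMod p → SpecialLinearGroup (Fin 2) (ZMod p) :=
    fun x => Cfsg.Agent.Lib.Helper14.uHom (ZMod p) (Multiplicative.ofAdd x)
  let d : SpecialLinearGroup (Fin 2) (ZMod p) := ⟨!![2, 0; 0, 2⁻¹], by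
    rw [det_fin_two_of]; simp [h2]⟩
  have hconj : d * u 1 = u 4 * d := by
    apply Subtype.ext
    change (d : Matrix (Fin 2) (Fin 2) (ZMod p)) * (u 1 : Matrix (Fin 2) (Fin 2) (ZMod p)) =
      (u 4 : Matrix (Fin 2) (Fin 2) (ZMod p)) * (d : Matrix (Fin 2) (Fin 2) (ZMod p))
    change !![2, 0; 0, 2⁻¹] * (u 1 : Matrix (Fin 2) (Fin 2) (ZMod p)) =
      (u 4 : Matrix (Fin 2) (Fin 2) (ZMod p)) * !![2, 0; 0, 2⁻¹]
    simp only [u, Cfsg.Agent.Lib.Helper14.uHom_coe, toAdd_ofAdd, mul_fin_two]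
    have h4 : (4 : ZMod p) * 2⁻¹ = 2 := by
      field_simp
      norm_num
    simp [h4]
  have hmul : u 1 * u 3 = u 4 := by
    simp only [u]
    rw [← map_mul, ← ofAdd_add]
    norm_num
  have hcard : Nat.card (SpecialLinearGroup (Fin 2) (ZMod p) ⧸ N) = p := hidx
  haveI hcyc : IsCyclic (SpecialLinearGroup (Fin 2) (ZMod p) ⧸ N) := isCyclic_of_prime_card hcard
  letI := IsCyclic.commGroup (α := SpecialLinearGroup (Fin 2) (ZMod p) ⧸ N)
  have hq : (QuotientGroup.mk (u 1) : SpecialLinearGroup (Fin 2) (ZMod p) ⧸ N) =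
      QuotientGroup.mk (u 4) := by
    have h5 := congrArg (fun g => (QuotientGroup.mk g : SpecialLinearGroup (Fin 2) (ZMod p) ⧸ N)) hconj
    simp only [QuotientGroup.mk_mul] at h5
    have h6 : (QuotientGroup.mk d : SpecialLinearGroup (Fin 2) (ZMod p) ⧸ N) * QuotientGroup.mk (u 1) =
      QuotientGroup.mk (u 1) * QuotientGroup.mk d := by
      obtain ⟨g, hg⟩ := hcyc.exists_generator
      obtain ⟨i, hi⟩ := mem_zpowers_iff.mp (hg (QuotientGroup.mk d))
      obtain ⟨j, hj⟩ := mem_zpowers_iff.mp (hg (QuotientGroup.mk (u 1)))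
      rw [← hi, ← hj, ← _root_.zpow_add, ← _root_.zpow_add, add_comm]
    rw [h6] at h5
    exact mul_right_cancel h5
  rw [QuotientGroup.eq] at hq
  have hu3 : u 3 ∈ N := by
    have h7 : (u 1)⁻¹ * u 4 = u 3 := by rw [← hmul]; group
    rwa [h7] at hq
  have hpow : (u 3) ^ p = 1 := by
    simp only [u]
    rw [← map_pow, ← ofAdd_nsmul]
    simp
  have h8 : orderOf (u 3) ∣ 1 := by
    have h9 : orderOf (u 3) ∣ Nat.card N := by
      have := orderOf_dvd_natCard (⟨u 3, hu3⟩ : N)
      rwa [Subgroup.orderOf_mk] at this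
    have := Nat.dvd_gcd h9 (orderOf_dvd_of_pow_eq_one hpow)
    rwa [hcop.gcd_eq_one] at this
  have h9 : u 3 = 1 := orderOf_eq_one_iff.mp (Nat.dvd_one.mp h8)
  have h10 : u 3 = u 0 := by
    rw [h9]
    simp only [u]
    rw [ofAdd_zero, map_one]
  have h11 := Cfsg.Agent.Lib.Helper14.uHom_injective h10
  exact h3 (Multiplicative.ofAdd.injective h11)

/-- a normal subgroup of order `8` in `SL₂(3)` is not abelian -/
theorem not_comm_of_normal_SL2_three (N : Subgroup (SpecialLinearGroup (Fin 2) (ZMod 3))) [N.Normal]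
    (hidx : N.index = 3) : ¬ IsMulCommutative N := by
  intro hc
  let i : SpecialLinearGroup (Fin 2) (ZMod 3) := ⟨!![0, -1; 1, 0], by decide⟩
  let j : SpecialLinearGroup (Fin 2) (ZMod 3) := ⟨!![1, 1; 1, -1], by decide⟩
  have hi4 : i ^ 4 = 1 := by decide
  have hj4 : j ^ 4 = 1 := by decide
  have hij : i * j ≠ j * i := by decide
  have hmem : ∀ g : SpecialLinearGroup (Fin 2) (ZMod 3), g ^ 4 = 1 → g ∈ N := by
    intro g hg
    rw [← QuotientGroup.eq_one_iff]
    have h1 : (QuotientGroup.mk g : SpecialLinearGroup (Fin 2) (ZMod 3) ⧸ N) ^ 4 = 1 := by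
      rw [← QuotientGroup.mk_pow, hg]; rfl
    have h2 : (QuotientGroup.mk g : SpecialLinearGroup (Fin 2) (ZMod 3) ⧸ N) ^ 3 = 1 := by
      have h3 : Nat.card (SpecialLinearGroup (Fin 2) (ZMod 3) ⧸ N) = 3 := hidx
      have h4 := pow_card_eq_one' (G := SpecialLinearGroup (Fin 2) (ZMod 3) ⧸ N)
        (x := QuotientGroup.mk g)
      rwa [h3] at h4
    calc (QuotientGroup.mk g : SpecialLinearGroup (Fin 2) (ZMod 3) ⧸ N)
        = (QuotientGroup.mk g) ^ 4 * ((QuotientGroup.mk g) ^ 3)⁻¹ := by group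
      _ = 1 := by rw [h1, h2]; simp
  exact hij ((Cfsg.Agent.Lib.Helper4.isMulCommutative_iff N).mp hc i (hmem i hi4) j (hmem j hj4))

end Cfsg.Agent.Lib.Helper1
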