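import Mathlib
import Cfsg.Agent.Lib.Helper1.FF2
import Cfsg.Agent.Lib.Helper1.FF3

set_option autoImplicit false

namespace Cfsg.Agent.Lib.Helper1

open Subgroup Cfsg
open scoped commutatorElement
open Cfsg.Agent.Lib.Helper12 (cj mem_cj conj_mem_cj card_cj cj_inf cj_sup cj_commutator centralizer_cj
  cj_eq_of_mem_normalizer cj_mono cj_mul cj_inv_cj cj_eq_of_mem)

variable {G : Type*} [Group G]

theorem commute_of_chain {p : ℕ} {g v w : G} (hw : g * v * g⁻¹ = w * v) (hgw : g * w = w * g)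
    (hwp : w ^ p = 1) (hg : (orderOf g).Coprime p) : g * v = v * g := by
  have h3 := conj_pow_of_chain hw hgw (orderOf g)
  rw [pow_orderOf_eq_one, one_mul, inv_one, mul_one] at h3
  have h4 : w ^ orderOf g = 1 := by
    calc w ^ orderOf g = (w ^ orderOf g * v) * v⁻¹ := by group
      _ = 1 := by rw [← h3]; group
  have h5 : orderOf w ∣ 1 := by
    have := Nat.dvd_gcd (orderOf_dvd_of_pow_eq_one h4) (orderOf_dvd_of_pow_eq_one hwp)
    rwa [hg.gcd_eq_one] at this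
  have h6 : w = 1 := orderOf_eq_one_iff.mp (Nat.dvd_one.mp h5)
  rw [h6, one_mul] at hw
  calc g * v = (g * v * g⁻¹) * g := by group
    _ = v * g := by rw [hw]

theorem eq_zpowers_of_card_prime [Finite G] {p : ℕ} (hp : p.Prime) {Z : Subgroup G}
    (hZ : Nat.card Z = p) {z : G} (hz : z ∈ Z) (hz1 : z ≠ 1) : Z = zpowers z := by
  symm
  apply eq_of_le_of_card_ge (zpowers_le.mpr hz)
  rw [Nat.card_zpowers, hZ]
  have h1 : orderOf z ∣ p := by
    rw [← hZ]
    have := orderOf_dvd_natCard (⟨z, hz⟩ : Z)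
    rwa [Subgroup.orderOf_mk] at this
  rcases (Nat.dvd_prime hp).mp h1 with h2 | h2
  · exact absurd (orderOf_eq_one_iff.mp h2) hz1
  · exact h2.ge

theorem inf_eq_bot_or_eq_of_card_prime [Finite G] {p : ℕ} (hp : p.Prime) {Z Z' : Subgroup G}
    (hZ : Nat.card Z = p) (hZ' : Nat.card Z' = p) : Z ⊓ Z' = ⊥ ∨ Z = Z' := by
  by_cases h : Z ⊓ Z' = ⊥
  · exact Or.inl h
  · right
    obtain ⟨⟨z, hz, hz'⟩, hz1'⟩ := Subgroup.ne_bot_iff_exists_ne_one.mp h
    have hz1 : z ≠ 1 := fun h => hz1' (Subtype.ext h)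
    rw [eq_zpowers_of_card_prime hp hZ hz hz1, eq_zpowers_of_card_prime hp hZ' hz' hz1]

theorem comm_inv_mem {V L : Subgroup G} {g v : G} (hg : g ∈ L) (hv : v ∈ V) :
    g * v * g⁻¹ * v⁻¹ ∈ ⁅V, L⁆ := by
  have h1 : g * v * g⁻¹ * v⁻¹ = (⁅v, g⁆)⁻¹ := by rw [commutatorElement_def]; group
  rw [h1]
  exact inv_mem (commutator_mem_commutator hv hg)

theorem conj_mem_centralizer_of_mem_normalizer {W : Subgroup G} {d k : G}
    (hd : d ∈ normalizer (W : Set G)) (hk : k ∈ centralizer (W : Set G)) :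
    d * k * d⁻¹ ∈ centralizer (W : Set G) := by
  have h1 : d * k * d⁻¹ ∈ cj d (centralizer (W : Set G)) := conj_mem_cj hk
  rwa [← centralizer_cj, cj_eq_of_mem_normalizer hd] at h1

variable [Finite G] {p : ℕ} [Fact p.Prime] {V H Q : Subgroup G}

theorem FF.orderOf_coprime (h : FF p V H Q) {y : G} (hy : y ∈ Q) : (orderOf y).Coprime p := by
  refine Nat.Coprime.of_dvd_left ?_ h.hQp
  have := orderOf_dvd_natCard (⟨y, hy⟩ : Q)
  rwa [Subgroup.orderOf_mk] at this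

theorem FF.comm_mem_Q (h : FF p V H Q) {x a : G} (hx : x ∈ Q) (ha : a ∈ H) :
    x * a * x⁻¹ * a⁻¹ ∈ Q := by
  have h1 : x * a * x⁻¹ * a⁻¹ = x * (a * x⁻¹ * a⁻¹) := by group
  rw [h1]
  exact mul_mem hx (conj_mem_of_mem_normalizer (h.hHQ ha) (inv_mem hx))

theorem FF.mem_centralizer_of_cj_eq (h : FF p V H Q) {A : Subgroup G} (hA : IsTv p V H A) {x : G}
    (hx : x ∈ Q) (heq : cj x A = A) : x ∈ centralizer (A : Set G) := by
  rw [mem_centralizer_iff]
  intro a ha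
  have h1 : x * a * x⁻¹ ∈ A := by
    have := conj_mem_cj (g := x) ha
    rwa [heq] at this
  have h2 : x * a * x⁻¹ * a⁻¹ ∈ A := mul_mem h1 (inv_mem ha)
  have h3 := h.eq_one_of_mem_Q (h.comm_mem_Q hx (hA.le ha)) (hA.pow_eq_one h2)
  calc a * x = (x * a * x⁻¹ * a⁻¹)⁻¹ * (x * a) := by group
    _ = x * a := by rw [h3]; group

/-- (P1) -/
theorem FF.not_le_centralizer_comm_cj (h : FF p V H Q) {A : Subgroup G} (hA : IsTv p V H A) {x : G}
    (hx : x ∈ Q) (hne : cj x A ≠ A) :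
    ¬ A ≤ centralizer ((⁅V, cj x A⁆ : Subgroup G) : Set G) := by
  intro hcon
  obtain ⟨a, haA, ha1, hAa, hap⟩ := hA.exists_gen
  have hxH := h.hQH hx
  have hA' := hA.cj h.hHV hxH
  have haH := hA.le haA
  have ha'A' : x * a * x⁻¹ ∈ cj x A := conj_mem_cj haA
  set y := x * a * x⁻¹ * a⁻¹ with hy
  have hyQ : y ∈ Q := h.comm_mem_Q hx haH
  have hyH : y ∈ H := h.hQH hyQ
  have hy1 : y ≠ 1 := by
    intro hy1
    apply hne
    have h1 : x * a * x⁻¹ = a := by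
      calc x * a * x⁻¹ = y * a := by rw [hy]; group
        _ = a := by rw [hy1, one_mul]
    rw [h1] at ha'A'
    rw [hA'.eq_zpowers ha'A' ha1, ← hAa]
  have hyZ' : y ∈ centralizer ((⁅V, cj x A⁆ : Subgroup G) : Set G) :=
    mul_mem (h.le_centralizer_comm_of_isTv hA' ha'A') (inv_mem (hcon haA))
  have hycop := h.orderOf_coprime hyQ
  have hZV : ⁅V, A⁆ ≤ V := commutator_le_left_of_le_normalizer (hA.le.trans h.hHV)
  have hZ'V : ⁅V, cj x A⁆ ≤ V := commutator_le_left_of_le_normalizer (hA'.le.trans h.hHV)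
  have hyZ : ⁅V, A⁆ ≤ centralizer {y} := by
    intro z hz
    rw [mem_centralizer_singleton_iff]
    have haz : a * z = z * a := ((mem_centralizer_iff.mp (h.le_centralizer_comm_of_isTv hA haA)) z hz).symm
    have haz' : a⁻¹ * z * a = z := by
      calc a⁻¹ * z * a = a⁻¹ * (z * a) := by group
        _ = z := by rw [← haz]; group
    have hw : y * z * y⁻¹ * z⁻¹ ∈ ⁅V, cj x A⁆ := by
      have h1 : y * z * y⁻¹ * z⁻¹ = (x * a * x⁻¹) * (a⁻¹ * z * a) * (x * a * x⁻¹)⁻¹ * z⁻¹ := by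
        rw [hy]; group
      rw [h1, haz']
      exact comm_inv_mem ha'A' (hZV hz)
    exact (commute_of_chain (p := p) (g := y) (v := z) (w := y * z * y⁻¹ * z⁻¹) (by group)
      ((mem_centralizer_iff.mp hyZ') _ hw).symm (h.hV.2 _ (hZ'V hw)) hycop).symm
  have hyZ'' : ⁅V, cj x A⁆ ≤ centralizer {y} := by
    intro z hz
    rw [mem_centralizer_singleton_iff]
    exact (mem_centralizer_iff.mp hyZ') z hz
  have hyL : y ∈ A ⊔ cj x A :=
    mul_mem (le_sup_right (a := A) ha'A') (inv_mem (le_sup_left (b := cj x A) haA))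
  apply hy1
  apply h.eq_one_of_mem hyH
  rw [mem_centralizer_iff]
  intro v hv
  have hw : y * v * y⁻¹ * v⁻¹ ∈ ⁅V, A⁆ ⊔ ⁅V, cj x A⁆ := by
    rw [← commutator_sup_eq hZV hZ'V]
    exact comm_inv_mem hyL hv
  exact (commute_of_chain (p := p) (g := y) (v := v) (w := y * v * y⁻¹ * v⁻¹) (by group)
    (mem_centralizer_singleton_iff.mp (sup_le hyZ hyZ'' hw)).symm
    (h.hV.2 _ (sup_le hZV hZ'V hw)) hycop).symm

theorem FF.not_cj_le_centralizer_comm (h : FF p V H Q) {A : Subgroup G} (hA : IsTv p V H A) {x : G}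
    (hx : x ∈ Q) (hne : cj x A ≠ A) :
    ¬ cj x A ≤ centralizer ((⁅V, A⁆ : Subgroup G) : Set G) := by
  have h1 := h.not_le_centralizer_comm_cj (hA.cj h.hHV (h.hQH hx)) (inv_mem hx) (by
    rw [cj_inv_cj]; exact hne.symm)
  rwa [cj_inv_cj] at h1

/-- (P2) -/
theorem FF.comm_inf_comm_cj (h : FF p V H Q) {A : Subgroup G} (hA : IsTv p V H A) {x : G}
    (hx : x ∈ Q) (hne : cj x A ≠ A) : ⁅V, A⁆ ⊓ ⁅V, cj x A⁆ = ⊥ := by
  have hp : p.Prime := Fact.out
  have hA' := hA.cj h.hHV (h.hQH hx)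
  rcases inf_eq_bot_or_eq_of_card_prime hp (h.card_comm_of_isTv hA) (h.card_comm_of_isTv hA') with
    h1 | h1
  · exact h1
  · exfalso
    apply h.not_le_centralizer_comm_cj hA hx hne
    rw [← h1]
    exact h.le_centralizer_comm_of_isTv hA

theorem FF.comm_sup_cj (h : FF p V H Q) {A : Subgroup G} (hA : IsTv p V H A) {x : G}
    (hx : x ∈ Q) : ⁅V, A ⊔ cj x A⁆ = ⁅V, A⁆ ⊔ ⁅V, cj x A⁆ :=
  commutator_sup_eq (commutator_le_left_of_le_normalizer (hA.le.trans h.hHV))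
    (commutator_le_left_of_le_normalizer ((hA.cj h.hHV (h.hQH hx)).le.trans h.hHV))

/-- (P3) -/
theorem FF.card_comm_sup_cj (h : FF p V H Q) {A : Subgroup G} (hA : IsTv p V H A) {x : G}
    (hx : x ∈ Q) (hne : cj x A ≠ A) : Nat.card ↥(⁅V, A ⊔ cj x A⁆) = p ^ 2 := by
  have hA' := hA.cj h.hHV (h.hQH hx)
  have hZV : ⁅V, A⁆ ≤ V := commutator_le_left_of_le_normalizer (hA.le.trans h.hHV)
  have hZ'V : ⁅V, cj x A⁆ ≤ V := commutator_le_left_of_le_normalizer (hA'.le.trans h.hHV)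
  have h1 := Cfsg.Agent.Lib.Helper4.card_mul_card_eq_of_le_normalizer ⁅V, A⁆ ⁅V, cj x A⁆ (by
    refine le_trans ?_ (centralizer_le_normalizer _)
    intro z hz
    rw [mem_centralizer_iff]
    intro z' hz'
    exact h.V_comm z' (hZ'V hz') z (hZV hz))
  rw [h.comm_inf_comm_cj hA hx hne, card_bot, mul_one, h.card_comm_of_isTv hA,
    h.card_comm_of_isTv hA'] at h1
  rw [h.comm_sup_cj hA hx, ← h1, sq]

theorem FF.cj_le_sup (h : FF p V H Q) {A : Subgroup G} (hA : IsTv p V H A) {x : G}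
    (hx : x ∈ Q) : cj x A ≤ Q ⊔ A := by
  intro g hg
  rw [mem_cj] at hg
  have h1 : g = (x * (x⁻¹ * g * x) * x⁻¹ * (x⁻¹ * g * x)⁻¹) * (x⁻¹ * g * x) := by group
  rw [h1]
  exact mul_mem (le_sup_left (b := A) (h.comm_mem_Q hx (hA.le hg))) (le_sup_right (a := Q) hg)

/-- (P4) -/
theorem FF.sup_cj_inf_centralizer (h : FF p V H Q) {A : Subgroup G} (hA : IsTv p V H A) {x : G}
    (hx : x ∈ Q) (hne : cj x A ≠ A) :
    (A ⊔ cj x A) ⊓ centralizer ((⁅V, A ⊔ cj x A⁆ : Subgroup G) : Set G) = ⊥ := by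
  have hA' := hA.cj h.hHV (h.hQH hx)
  obtain ⟨L, hL⟩ : ∃ L, L = A ⊔ cj x A := ⟨_, rfl⟩
  rw [← hL]
  have hAL : A ≤ L := by rw [hL]; exact le_sup_left
  have hA'L : cj x A ≤ L := by rw [hL]; exact le_sup_right
  have hLH : L ≤ H := by rw [hL]; exact sup_le hA.le hA'.le
  have hWV : ⁅V, L⁆ ≤ V := commutator_le_left_of_le_normalizer (hLH.trans h.hHV)
  have hLW : L ≤ normalizer ((⁅V, L⁆ : Subgroup G) : Set G) :=
    le_normalizer_commutator_right (hLH.trans h.hHV)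
  have key : ∀ g ∈ L, g ∈ centralizer ((⁅V, L⁆ : Subgroup G) : Set G) → g ^ p = 1 := by
    intro g hgL hgW
    apply h.eq_one_of_mem (pow_mem (hLH hgL) p)
    exact pow_centralizes_of_stabilizes_chain h.hV.2 hWV hgW (fun v hv => comm_inv_mem hgL hv)
  have hLQA : L ≤ Q ⊔ A := by rw [hL]; exact sup_le le_sup_right (h.cj_le_sup hA hx)
  rw [eq_bot_iff]
  rintro g ⟨hgL, hgW⟩
  have hgW' : g ∈ centralizer ((⁅V, L⁆ : Subgroup G) : Set G) := hgW
  obtain ⟨d, hd, b, hb, hdb'⟩ := (mem_sup_of_le_normalizer (hA.le.trans h.hHQ)).mp (hLQA hgL)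
  have hdb : d * b = g := hdb'.symm
  have hbL : b ∈ L := hAL hb
  have hdL : d ∈ L := by
    have h1 : d = g * b⁻¹ := by rw [← hdb]; group
    rw [h1]
    exact mul_mem hgL (inv_mem hbL)
  have hc1 : g * d * g⁻¹ * d⁻¹ = 1 := by
    apply h.eq_one_of_mem_Q
    · exact mul_mem (conj_mem_of_mem_normalizer (h.hHQ (hLH hgL)) hd) (inv_mem hd)
    · apply key _ (mul_mem (mul_mem (mul_mem hgL hdL) (inv_mem hgL)) (inv_mem hdL))
      have h1 : g * d * g⁻¹ * d⁻¹ = g * (d * g⁻¹ * d⁻¹) := by group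
      rw [h1]
      exact mul_mem hgW' (conj_mem_centralizer_of_mem_normalizer (hLW hdL) (inv_mem hgW'))
  have hgd : g * d = d * g := by
    calc g * d = (g * d * g⁻¹ * d⁻¹) * (d * g) := by group
      _ = d * g := by rw [hc1, one_mul]
  have hbd : Commute d b := by
    have h1 : d * (b * d) = d * (d * b) := by
      rw [← mul_assoc, hdb, hgd, ← hdb]
    exact (mul_left_cancel h1).symm
  have hdp : d ^ p = 1 := by
    have h1 := key g hgL hgW'
    rw [← hdb, hbd.mul_pow, hA.pow_eq_one hb, mul_one] at h1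
    exact h1
  have hd1 : d = 1 := h.eq_one_of_mem_Q hd hdp
  rw [hd1, one_mul] at hdb
  rw [mem_bot]
  by_contra hg1
  apply h.not_le_centralizer_comm_cj hA hx hne
  rw [← hdb] at hg1 hgW'
  have h2 : zpowers b ≤ centralizer ((⁅V, cj x A⁆ : Subgroup G) : Set G) := by
    rw [zpowers_le]
    exact centralizer_le (SetLike.coe_subset_coe.mpr (commutator_mono le_rfl hA'L)) hgW'
  rwa [← hA.eq_zpowers hb hg1] at h2

theorem FF.sup_cj_le (h : FF p V H Q) {A : Subgroup G} (hA : IsTv p V H A) {x : G}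
    (hx : x ∈ Q) : A ⊔ cj x A ≤ H := sup_le hA.le (hA.cj h.hHV (h.hQH hx)).le

/-- (P6) -/
theorem FF.nonempty_mulEquiv_SL2_sup_cj (h : FF p V H Q) {A : Subgroup G} (hA : IsTv p V H A) {x : G}
    (hx : x ∈ Q) (hne : cj x A ≠ A) :
    Nonempty (↥(A ⊔ cj x A) ≃* Matrix.SpecialLinearGroup (Fin 2) (ZMod p)) :=
  nonempty_mulEquiv_SL2 (W := ⁅V, A ⊔ cj x A⁆)
    (Cfsg.Agent.Lib.Helper4.elemAb_of_le
      (commutator_le_left_of_le_normalizer ((h.sup_cj_le hA hx).trans h.hHV)) h.hV)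
    (h.card_comm_sup_cj hA hx hne)
    (le_normalizer_commutator_right ((h.sup_cj_le hA hx).trans h.hHV))
    (h.sup_cj_inf_centralizer hA hx hne) hA.card (hA.cj h.hHV (h.hQH hx)).card hne.symm rfl

theorem FF.inf_Q_eq_bot (h : FF p V H Q) {A : Subgroup G} (hA : IsTv p V H A) : A ⊓ Q = ⊥ := by
  rw [eq_bot_iff]
  rintro a ⟨haA, haQ⟩
  exact h.eq_one_of_mem_Q haQ (hA.pow_eq_one haA)

theorem FF.relIndex_Q_of_le (h : FF p V H Q) {A L : Subgroup G} (hA : IsTv p V H A)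
    (hAL : A ≤ L) (hLQ : L ≤ Q ⊔ A) : Q.relIndex L = p := by
  have h1 : Q.relIndex A = p := by
    have := Cfsg.Agent.Lib.Helper4.card_eq_inf_mul_relIndex A Q
    rw [h.inf_Q_eq_bot hA, card_bot, one_mul, hA.card] at this
    exact this.symm
  have h2 : Q.relIndex (Q ⊔ A) = p := by
    have h3 := Cfsg.Agent.Lib.Helper4.card_eq_mul_relIndex (le_sup_left : Q ≤ Q ⊔ A)
    have h4 := Cfsg.Agent.Lib.Helper4.card_mul_card_eq_of_le_normalizer A Q (hA.le.trans h.hHQ)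
    rw [h.inf_Q_eq_bot hA, card_bot, mul_one, hA.card, sup_comm, h3, mul_comm] at h4
    exact (Nat.eq_of_mul_eq_mul_left Nat.card_pos h4).symm
  apply le_antisymm
  · rw [← h2]
    exact relIndex_le_of_le_right hLQ (by rw [h2]; exact (Fact.out : p.Prime).ne_zero)
  · rw [← h1]
    exact relIndex_le_of_le_right hAL index_ne_zero_of_finite

/-- (P7) -/
theorem FF.two_or_three_of_pair (h : FF p V H Q) {A : Subgroup G} (hA : IsTv p V H A) {x : G}
    (hx : x ∈ Q) (hne : cj x A ≠ A) : p = 2 ∨ p = 3 := by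
  obtain ⟨e⟩ := h.nonempty_mulEquiv_SL2_sup_cj hA hx hne
  have hLH := h.sup_cj_le hA hx
  have hn : (Q.subgroupOf (A ⊔ cj x A)).Normal := normal_subgroupOf_of_le_normalizer (hLH.trans h.hHQ)
  haveI : ((Q.subgroupOf (A ⊔ cj x A)).map
      (e : ↥(A ⊔ cj x A) →* Matrix.SpecialLinearGroup (Fin 2) (ZMod p))).Normal :=
    hn.map (e : ↥(A ⊔ cj x A) →* Matrix.SpecialLinearGroup (Fin 2) (ZMod p)) e.surjective
  apply two_or_three_of_normal_SL2 ((Q.subgroupOf (A ⊔ cj x A)).map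
    (e : ↥(A ⊔ cj x A) →* Matrix.SpecialLinearGroup (Fin 2) (ZMod p)))
  · rw [index_map_equiv]
    exact h.relIndex_Q_of_le hA le_sup_left (sup_le le_sup_right (h.cj_le_sup hA hx))
  · rw [card_map_of_injective e.injective, ← inf_subgroupOf_right,
      Cfsg.Agent.Lib.Helper4.card_subgroupOf_of_le inf_le_right]
    exact Nat.Coprime.of_dvd_left (card_dvd_of_le inf_le_left) h.hQp

/-- (P8) -/
theorem FF.exists_cj_of_mem_comm (h : FF p V H Q) {A : Subgroup G} (hA : IsTv p V H A) {x : G}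
    (hx : x ∈ Q) (hne : cj x A ≠ A) {c : G} (hc : c ∈ ⁅V, A ⊔ cj x A⁆) :
    ∃ x₁ ∈ Q, cj x₁ A ≤ A ⊔ cj x A ∧ c ∈ ⁅V, cj x₁ A⁆ := by
  have hp : p.Prime := Fact.out
  have hA' := hA.cj h.hHV (h.hQH hx)
  have hZV : ⁅V, A⁆ ≤ V := commutator_le_left_of_le_normalizer (hA.le.trans h.hHV)
  have hZ'V : ⁅V, cj x A⁆ ≤ V := commutator_le_left_of_le_normalizer (hA'.le.trans h.hHV)
  rw [h.comm_sup_cj hA hx] at hc
  have hnorm : ⁅V, cj x A⁆ ≤ normalizer ((⁅V, A⁆ : Subgroup G) : Set G) := by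
    refine le_trans ?_ (centralizer_le_normalizer _)
    intro z hz
    rw [mem_centralizer_iff]
    intro z' hz'
    exact h.V_comm z' (hZV hz') z (hZ'V hz)
  obtain ⟨z₁, hz₁, z₂, hz₂, rfl⟩ := (mem_sup_of_le_normalizer hnorm).mp hc
  by_cases hz21 : z₂ = 1
  · refine ⟨1, one_mem _, ?_, ?_⟩
    · rw [Cfsg.Agent.Lib.Helper12.cj_one]; exact le_sup_left
    · rw [Cfsg.Agent.Lib.Helper12.cj_one, hz21, mul_one]; exact hz₁
  · obtain ⟨a, haA, ha1, hAa, hap⟩ := hA.exists_gen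
    have haH := hA.le haA
    set t := a * z₂ * a⁻¹ * z₂⁻¹ with ht
    have htZ : t ∈ ⁅V, A⁆ := comm_inv_mem haA (hZ'V hz₂)
    have ht1 : t ≠ 1 := by
      intro ht1
      apply h.not_le_centralizer_comm_cj hA hx hne
      rw [eq_zpowers_of_card_prime hp (h.card_comm_of_isTv hA') hz₂ hz21, centralizer_zpowers_eq]
      have h2 : zpowers a ≤ centralizer {z₂} := by
        rw [zpowers_le, mem_centralizer_singleton_iff]
        calc a * z₂ = t * (z₂ * a) := by rw [ht]; group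
          _ = z₂ * a := by rw [ht1, one_mul]
      rwa [← hAa] at h2
    have hZt := eq_zpowers_of_card_prime hp (h.card_comm_of_isTv hA) htZ ht1
    rw [hZt, ← mem_powers_iff_mem_zpowers] at hz₁
    obtain ⟨n, rfl⟩ := Submonoid.mem_powers_iff _ _ |>.mp hz₁
    have hat : a * t = t * a :=
      ((mem_centralizer_iff.mp (h.le_centralizer_comm_of_isTv hA haA)) t htZ).symm
    have hconj := conj_pow_of_chain (g := a) (v := z₂) (w := t) (by rw [ht]; group) hat n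
    have hanA : a ^ n ∈ A := pow_mem haA n
    have hcj : cj (a ^ n * x * (a ^ n)⁻¹) A = cj (a ^ n) (cj x A) := by
      rw [cj_mul, cj_eq_of_mem (inv_mem hanA), cj_mul]
    refine ⟨a ^ n * x * (a ^ n)⁻¹, conj_mem_of_mem_normalizer (h.hHQ (hA.le hanA)) hx, ?_, ?_⟩
    · rw [hcj]
      have h1 := cj_mono (g := a ^ n) (le_sup_right : cj x A ≤ A ⊔ cj x A)
      rwa [cj_eq_of_mem (le_sup_left (b := cj x A) hanA)] at h1
    · rw [hcj, ← hconj]
      have h1 : a ^ n * z₂ * (a ^ n)⁻¹ ∈ cj (a ^ n) ⁅V, cj x A⁆ := conj_mem_cj hz₂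
      rwa [cj_commutator, cj_eq_of_mem_normalizer (h.hHV (hA.le hanA))] at h1

/-- (T4) -/
theorem IsTv.card_le {A : Subgroup G} (hA : IsTv p V H A) {W : Subgroup G} (hWV : W ≤ V) :
    Nat.card W ≤ p * Nat.card ↥(W ⊓ centralizer (A : Set G)) := by
  rw [Cfsg.Agent.Lib.Helper4.card_eq_inf_mul_relIndex W (centralizer (A : Set G)), mul_comm]
  apply Nat.mul_le_mul_right
  have h1 := hA.relIndex_eq
  rw [inf_relIndex_left] at h1
  rw [← h1]
  exact relIndex_le_of_le_right hWV index_ne_zero_of_finite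

/-- Claim 14 -/
theorem FF.cj_le_sup_cj (h : FF p V H Q) {A : Subgroup G} (hA : IsTv p V H A) {x : G}
    (hx : x ∈ Q) (hne : cj x A ≠ A) {y : G} (hy : y ∈ Q) : cj y A ≤ A ⊔ cj x A := by
  have hp : p.Prime := Fact.out
  have hA₃ := hA.cj h.hHV (h.hQH hy)
  have hWV : ⁅V, A ⊔ cj x A⁆ ≤ V :=
    commutator_le_left_of_le_normalizer ((h.sup_cj_le hA hx).trans h.hHV)
  have h1 := hA₃.card_le hWV
  rw [h.card_comm_sup_cj hA hx hne, sq] at h1
  have h2 : p ≤ Nat.card ↥(⁅V, A ⊔ cj x A⁆ ⊓ centralizer ((cj y A : Subgroup G) : Set G)) :=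
    Nat.le_of_mul_le_mul_left h1 hp.pos
  have h3 : ⁅V, A ⊔ cj x A⁆ ⊓ centralizer ((cj y A : Subgroup G) : Set G) ≠ ⊥ := by
    intro h3
    rw [h3, card_bot] at h2
    exact absurd h2 (not_le.mpr hp.one_lt)
  obtain ⟨⟨c, hcW, hcC⟩, hc1'⟩ := Subgroup.ne_bot_iff_exists_ne_one.mp h3
  have hc1 : c ≠ 1 := fun h => hc1' (Subtype.ext h)
  obtain ⟨x₁, hx₁, hle, hc⟩ := h.exists_cj_of_mem_comm hA hx hne hcW
  by_cases heq : cj y A = cj x₁ A
  · rw [heq]; exact hle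
  · exfalso
    have hA₁ := hA.cj h.hHV (h.hQH hx₁)
    have hcj : cj (x₁ * y⁻¹) (cj y A) = cj x₁ A := by rw [cj_mul, cj_inv_cj]
    have h4 := h.not_le_centralizer_comm_cj hA₃ (mul_mem hx₁ (inv_mem hy)) (by
      rw [hcj]; exact fun h => heq h.symm)
    apply h4
    rw [hcj, eq_zpowers_of_card_prime hp (h.card_comm_of_isTv hA₁) hc hc1, le_centralizer_iff,
      zpowers_le]
    exact hcC

theorem FF.comm_sup_eq_sup_cj (h : FF p V H Q) {A : Subgroup G} (hA : IsTv p V H A) {x : G}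
    (hx : x ∈ Q) (hne : cj x A ≠ A) : ⁅Q, A⁆ ⊔ A = A ⊔ cj x A := by
  apply le_antisymm
  · refine sup_le ?_ le_sup_left
    rw [commutator_le]
    intro y hy a ha
    rw [commutatorElement_def]
    exact mul_mem (h.cj_le_sup_cj hA hx hne hy (conj_mem_cj ha))
      (inv_mem (le_sup_left (b := cj x A) ha))
  · refine sup_le le_sup_right ?_
    intro g hg
    rw [mem_cj] at hg
    have h1 : g = ⁅x, x⁻¹ * g * x⁆ * (x⁻¹ * g * x) := by rw [commutatorElement_def]; group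
    rw [h1]
    exact mul_mem (le_sup_left (b := A) (commutator_mem_commutator hx hg)) (le_sup_right (a := ⁅Q, A⁆) hg)

theorem FF.exists_cj_ne (h : FF p V H Q) {A : Subgroup G} (hA : IsTv p V H A) :
    ∃ x ∈ Q, cj x A ≠ A := by
  by_contra hcon
  push Not at hcon
  obtain ⟨a, haA, ha1, -, hap⟩ := hA.exists_gen
  apply h.not_mem_centralizer_Q (hA.le haA) hap ha1
  have h1 : Q ≤ centralizer (A : Set G) := fun x hx => h.mem_centralizer_of_cj_eq hA hx (hcon x hx)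
  exact (le_centralizer_iff.mp h1) haA

end Cfsg.Agent.Lib.Helper1
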