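import Mathlib
import Cfsg.Agent.Lib.Helper1.FF4

set_option autoImplicit false

namespace Cfsg.Agent.Lib.Helper1

open Subgroup Cfsg
open scoped commutatorElement
open Cfsg.Agent.Lib.Helper12 (cj mem_cj conj_mem_cj card_cj cj_inf cj_sup cj_commutator centralizer_cj
  cj_eq_of_mem_normalizer cj_mono cj_mul cj_inv_cj cj_eq_of_mem)

variable {G : Type*} [Group G] [Finite G] {p : ℕ} [Fact p.Prime] {V H Q : Subgroup G}

theorem FF.comm_le_Q (h : FF p V H Q) {A : Subgroup G} (hAH : A ≤ H) : ⁅Q, A⁆ ≤ Q :=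
  commutator_le_left_of_le_normalizer (hAH.trans h.hHQ)

theorem FF.E_le (h : FF p V H Q) {A : Subgroup G} (hA : IsTv p V H A) : ⁅Q, A⁆ ⊔ A ≤ H :=
  sup_le ((h.comm_le_Q hA.le).trans h.hQH) hA.le

theorem FF.two_or_three (h : FF p V H Q) {A : Subgroup G} (hA : IsTv p V H A) : p = 2 ∨ p = 3 := by
  obtain ⟨x, hx, hne⟩ := h.exists_cj_ne hA
  exact h.two_or_three_of_pair hA hx hne

theorem FF.nonempty_mulEquiv_E (h : FF p V H Q) {A : Subgroup G} (hA : IsTv p V H A) :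
    Nonempty (↥(⁅Q, A⁆ ⊔ A) ≃* Matrix.SpecialLinearGroup (Fin 2) (ZMod p)) := by
  obtain ⟨x, hx, hne⟩ := h.exists_cj_ne hA
  rw [h.comm_sup_eq_sup_cj hA hx hne]
  exact h.nonempty_mulEquiv_SL2_sup_cj hA hx hne

theorem FF.card_comm_E (h : FF p V H Q) {A : Subgroup G} (hA : IsTv p V H A) :
    Nat.card ↥(⁅V, ⁅Q, A⁆ ⊔ A⁆) = p ^ 2 := by
  obtain ⟨x, hx, hne⟩ := h.exists_cj_ne hA
  rw [h.comm_sup_eq_sup_cj hA hx hne]
  exact h.card_comm_sup_cj hA hx hne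

theorem FF.E_inf_centralizer (h : FF p V H Q) {A : Subgroup G} (hA : IsTv p V H A) :
    (⁅Q, A⁆ ⊔ A) ⊓ centralizer ((⁅V, ⁅Q, A⁆ ⊔ A⁆ : Subgroup G) : Set G) = ⊥ := by
  obtain ⟨x, hx, hne⟩ := h.exists_cj_ne hA
  rw [h.comm_sup_eq_sup_cj hA hx hne]
  exact h.sup_cj_inf_centralizer hA hx hne

theorem FF.E_inf_Q (h : FF p V H Q) {A : Subgroup G} (hA : IsTv p V H A) :
    (⁅Q, A⁆ ⊔ A) ⊓ Q = ⁅Q, A⁆ := by
  apply le_antisymm
  · rintro g ⟨hgE, hgQ⟩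
    obtain ⟨r, hr, b, hb, rfl⟩ :=
      (mem_sup_of_le_normalizer (le_normalizer_commutator_right (hA.le.trans h.hHQ))).mp hgE
    have hbQ : b ∈ A ⊓ Q := by
      refine ⟨hb, ?_⟩
      have h1 : r⁻¹ * (r * b) ∈ Q := mul_mem (inv_mem (h.comm_le_Q hA.le hr)) hgQ
      rwa [inv_mul_cancel_left] at h1
    rw [h.inf_Q_eq_bot hA, mem_bot] at hbQ
    rw [hbQ, mul_one]
    exact hr
  · exact le_inf le_sup_left (h.comm_le_Q hA.le)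

theorem FF.relIndex_Q_E (h : FF p V H Q) {A : Subgroup G} (hA : IsTv p V H A) :
    Q.relIndex (⁅Q, A⁆ ⊔ A) = p :=
  h.relIndex_Q_of_le hA le_sup_right (sup_le_sup_right (h.comm_le_Q hA.le) A)

theorem FF.card_E (h : FF p V H Q) {A : Subgroup G} (hA : IsTv p V H A) :
    Nat.card ↥(⁅Q, A⁆ ⊔ A) = p * (p ^ 2 - 1) := by
  obtain ⟨e⟩ := h.nonempty_mulEquiv_E hA
  rw [Nat.card_congr e.toEquiv, Cfsg.Agent.Lib.Helper13.card_SL2, ZMod.card]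

theorem FF.card_R (h : FF p V H Q) {A : Subgroup G} (hA : IsTv p V H A) :
    Nat.card ↥(⁅Q, A⁆) = p ^ 2 - 1 := by
  have hp : p.Prime := Fact.out
  have h1 := Cfsg.Agent.Lib.Helper4.card_eq_inf_mul_relIndex (⁅Q, A⁆ ⊔ A) Q
  rw [h.E_inf_Q hA, h.relIndex_Q_E hA, h.card_E hA, mul_comm] at h1
  exact (Nat.eq_of_mul_eq_mul_right hp.pos h1).symm

/-- S0614 -/
theorem FF.structure_R (h : FF p V H Q) {A : Subgroup G} (hA : IsTv p V H A) :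
    (p = 2 ∧ IsPGroup 3 ↥(⁅Q, A⁆)) ∨
      (p = 3 ∧ IsPGroup 2 ↥(⁅Q, A⁆) ∧ ¬ IsMulCommutative ↥(⁅Q, A⁆)) := by
  have hc := h.card_R hA
  rcases h.two_or_three hA with hp | hp
  · left
    subst hp
    exact ⟨rfl, IsPGroup.of_card (n := 1) (by rw [hc]; norm_num)⟩
  · right
    subst hp
    refine ⟨rfl, IsPGroup.of_card (n := 3) (by rw [hc]; norm_num), ?_⟩
    intro hcomm
    obtain ⟨e⟩ := h.nonempty_mulEquiv_E hA
    have hn : (Q.subgroupOf (⁅Q, A⁆ ⊔ A)).Normal :=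
      normal_subgroupOf_of_le_normalizer ((h.E_le hA).trans h.hHQ)
    haveI : ((Q.subgroupOf (⁅Q, A⁆ ⊔ A)).map
        (e : ↥(⁅Q, A⁆ ⊔ A) →* Matrix.SpecialLinearGroup (Fin 2) (ZMod 3))).Normal :=
      hn.map (e : ↥(⁅Q, A⁆ ⊔ A) →* Matrix.SpecialLinearGroup (Fin 2) (ZMod 3)) e.surjective
    apply not_comm_of_normal_SL2_three ((Q.subgroupOf (⁅Q, A⁆ ⊔ A)).map
      (e : ↥(⁅Q, A⁆ ⊔ A) →* Matrix.SpecialLinearGroup (Fin 2) (ZMod 3)))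
    · rw [index_map_equiv]
      exact h.relIndex_Q_E hA
    · rw [Cfsg.Agent.Lib.Helper4.isMulCommutative_iff]
      rintro _ ⟨g₁, hg₁, rfl⟩ _ ⟨g₂, hg₂, rfl⟩
      have h1 : (g₁ : G) ∈ ⁅Q, A⁆ := (h.E_inf_Q hA).le ⟨g₁.2, hg₁⟩
      have h2 : (g₂ : G) ∈ ⁅Q, A⁆ := (h.E_inf_Q hA).le ⟨g₂.2, hg₂⟩
      have h3 : g₁ * g₂ = g₂ * g₁ := by
        ext
        exact (Cfsg.Agent.Lib.Helper4.isMulCommutative_iff _).mp hcomm _ h1 _ h2
      rw [← map_mul, ← map_mul, h3]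

end Cfsg.Agent.Lib.Helper1
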