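import Mathlib
import Cfsg.Agent.Lib.Helper1.FF5
import Cfsg.Agent.Lib.Helper4.Offender

set_option autoImplicit false

namespace Cfsg.Agent.Lib.Helper1

open Subgroup Cfsg
open scoped commutatorElement
open Cfsg.Agent.Lib.Helper12 (cj mem_cj conj_mem_cj card_cj cj_inf cj_sup cj_commutator centralizer_cj
  cj_eq_of_mem_normalizer cj_mono cj_mul cj_inv_cj cj_eq_of_mem mem_normalizer_iff_cj)

variable {G : Type*} [Group G]

/-- `E(A) = [Q,A]A` -/
abbrev EE (Q A : Subgroup G) : Subgroup G := ⁅Q, A⁆ ⊔ A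

theorem mem_normalizer_commutator {V E : Subgroup G} {g : G} (hV : g ∈ normalizer (V : Set G))
    (hE : g ∈ normalizer (E : Set G)) : g ∈ normalizer ((⁅V, E⁆ : Subgroup G) : Set G) := by
  rw [mem_normalizer_iff_cj, cj_commutator, cj_eq_of_mem_normalizer hV, cj_eq_of_mem_normalizer hE]

theorem mem_normalizer_inf_centralizer {V E : Subgroup G} {g : G} (hV : g ∈ normalizer (V : Set G))
    (hE : g ∈ normalizer (E : Set G)) :
    g ∈ normalizer ((V ⊓ centralizer (E : Set G) : Subgroup G) : Set G) := by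
  rw [mem_normalizer_iff_cj, cj_inf, ← centralizer_cj, cj_eq_of_mem_normalizer hV,
    cj_eq_of_mem_normalizer hE]

variable [Finite G] {p : ℕ} [Fact p.Prime] {V H Q : Subgroup G}

theorem FF.EE_eq (h : FF p V H Q) {A : Subgroup G} (hA : IsTv p V H A) {x : G}
    (hx : x ∈ Q) (hne : cj x A ≠ A) : EE Q A = A ⊔ cj x A := h.comm_sup_eq_sup_cj hA hx hne

theorem FF.W_le (h : FF p V H Q) {A : Subgroup G} (hA : IsTv p V H A) : ⁅V, EE Q A⁆ ≤ V :=
  commutator_le_left_of_le_normalizer ((h.E_le hA).trans h.hHV)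

/-- (E5) -/
theorem FF.W_inf_C (h : FF p V H Q) {A : Subgroup G} (hA : IsTv p V H A) :
    ⁅V, EE Q A⁆ ⊓ (V ⊓ centralizer (EE Q A : Set G)) = ⊥ := by
  have hp : p.Prime := Fact.out
  obtain ⟨x, hx, hne⟩ := h.exists_cj_ne hA
  have hA' := hA.cj h.hHV (h.hQH hx)
  have hZV : ⁅V, A⁆ ≤ V := commutator_le_left_of_le_normalizer (hA.le.trans h.hHV)
  have hZ'V : ⁅V, cj x A⁆ ≤ V := commutator_le_left_of_le_normalizer (hA'.le.trans h.hHV)
  rw [h.EE_eq hA hx hne, eq_bot_iff]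
  rintro c ⟨hcW, -, hcC⟩
  rw [SetLike.mem_coe, h.comm_sup_cj hA hx] at hcW
  have hnorm : ⁅V, cj x A⁆ ≤ normalizer ((⁅V, A⁆ : Subgroup G) : Set G) := by
    refine le_trans ?_ (centralizer_le_normalizer _)
    intro z hz
    rw [mem_centralizer_iff]
    intro z' hz'
    exact h.V_comm z' (hZV hz') z (hZ'V hz)
  obtain ⟨z₁, hz₁, z₂, hz₂, rfl⟩ := (mem_sup_of_le_normalizer hnorm).mp hcW
  have hcC' := mem_centralizer_iff.mp hcC
  have hz21 : z₂ = 1 := by
    by_contra hz21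
    apply h.not_le_centralizer_comm_cj hA hx hne
    rw [eq_zpowers_of_card_prime hp (h.card_comm_of_isTv hA') hz₂ hz21, centralizer_zpowers_eq]
    intro a ha
    rw [mem_centralizer_singleton_iff]
    have h1 : a * (z₁ * z₂) = z₁ * z₂ * a := hcC' a (le_sup_left (b := cj x A) ha)
    have h2 : a * z₁ = z₁ * a := ((mem_centralizer_iff.mp (h.le_centralizer_comm_of_isTv hA ha)) z₁ hz₁).symm
    have h3 : z₁ * (a * z₂) = z₁ * (z₂ * a) := by
      rw [← mul_assoc, ← h2, mul_assoc, h1, mul_assoc]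
    exact mul_left_cancel h3
  rw [hz21, mul_one] at hcC' ⊢
  rw [mem_bot]
  by_contra hz11
  apply h.not_cj_le_centralizer_comm hA hx hne
  rw [eq_zpowers_of_card_prime hp (h.card_comm_of_isTv hA) hz₁ hz11, centralizer_zpowers_eq]
  intro a ha
  rw [mem_centralizer_singleton_iff]
  exact hcC' a (le_sup_right (a := A) ha)

theorem FF.card_C (h : FF p V H Q) {A : Subgroup G} (hA : IsTv p V H A) :
    Nat.card V ≤ p ^ 2 * Nat.card ↥(V ⊓ centralizer (EE Q A : Set G)) := by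
  obtain ⟨x, hx, hne⟩ := h.exists_cj_ne hA
  have hA' := hA.cj h.hHV (h.hQH hx)
  rw [h.EE_eq hA hx hne, Cfsg.Agent.Lib.Helper4.centralizer_sup_eq, ← inf_assoc, ← hA.cardC, sq,
    mul_assoc]
  exact Nat.mul_le_mul_left _ (hA'.card_le inf_le_left)

theorem FF.W_normalizes_C (h : FF p V H Q) {A : Subgroup G} (hA : IsTv p V H A) :
    ⁅V, EE Q A⁆ ≤ normalizer ((V ⊓ centralizer (EE Q A : Set G) : Subgroup G) : Set G) := by
  refine le_trans ?_ (centralizer_le_normalizer _)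
  intro z hz
  rw [mem_centralizer_iff]
  intro z' hz'
  exact h.V_comm z' hz'.1 z (h.W_le hA hz)

/-- (E6) -/
theorem FF.W_sup_C (h : FF p V H Q) {A : Subgroup G} (hA : IsTv p V H A) :
    ⁅V, EE Q A⁆ ⊔ (V ⊓ centralizer (EE Q A : Set G)) = V := by
  apply eq_of_le_of_card_ge (sup_le (h.W_le hA) inf_le_left)
  have h1 := Cfsg.Agent.Lib.Helper4.card_mul_card_eq_of_le_normalizer _ _ (h.W_normalizes_C hA)
  rw [h.W_inf_C hA, card_bot, mul_one, h.card_comm_E hA] at h1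
  rw [← h1]
  exact h.card_C hA

theorem FF.card_C_eq (h : FF p V H Q) {A : Subgroup G} (hA : IsTv p V H A) :
    p ^ 2 * Nat.card ↥(V ⊓ centralizer (EE Q A : Set G)) = Nat.card V := by
  have h1 := Cfsg.Agent.Lib.Helper4.card_mul_card_eq_of_le_normalizer _ _ (h.W_normalizes_C hA)
  rw [h.W_inf_C hA, card_bot, mul_one, h.card_comm_E hA, h.W_sup_C hA] at h1
  exact h1

omit [Finite G] [Fact p.Prime] in
/-- (E7) -/
theorem Q_le_normalizer_EE (Q A : Subgroup G) : Q ≤ normalizer (EE Q A : Set G) := by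
  apply le_normalizer_of_forall_conj_mem
  intro q hq e he
  have h1 : cj q (EE Q A) ≤ EE Q A := by
    rw [cj_sup, cj_eq_of_mem_normalizer (le_normalizer_commutator_left Q A hq)]
    refine sup_le le_sup_left ?_
    intro g hg
    rw [mem_cj] at hg
    have h1 : g = ⁅q, q⁻¹ * g * q⁆ * (q⁻¹ * g * q) := by rw [commutatorElement_def]; group
    rw [h1]
    exact mul_mem (le_sup_left (b := A) (commutator_mem_commutator hq hg))
      (le_sup_right (a := ⁅Q, A⁆) hg)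
  exact h1 (conj_mem_cj he)

theorem FF.Q_le_normalizer_W (h : FF p V H Q) (A : Subgroup G) :
    Q ≤ normalizer ((⁅V, EE Q A⁆ : Subgroup G) : Set G) :=
  fun _ hq => mem_normalizer_commutator (h.hHV (h.hQH hq)) (Q_le_normalizer_EE Q A hq)

theorem FF.Q_le_normalizer_C (h : FF p V H Q) (A : Subgroup G) :
    Q ≤ normalizer ((V ⊓ centralizer (EE Q A : Set G) : Subgroup G) : Set G) :=
  fun _ hq => mem_normalizer_inf_centralizer (h.hHV (h.hQH hq)) (Q_le_normalizer_EE Q A hq)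

/-- (E9) -/
theorem FF.exists_cj_of_mem_W (h : FF p V H Q) {A : Subgroup G} (hA : IsTv p V H A) {c : G}
    (hc : c ∈ ⁅V, EE Q A⁆) : ∃ x₁ ∈ Q, cj x₁ A ≤ EE Q A ∧ c ∈ ⁅V, cj x₁ A⁆ := by
  obtain ⟨x, hx, hne⟩ := h.exists_cj_ne hA
  rw [h.EE_eq hA hx hne] at hc ⊢
  exact h.exists_cj_of_mem_comm hA hx hne hc

/-- (E11) -/
theorem FF.EE_cj (h : FF p V H Q) (A : Subgroup G) {g : G} (hg : g ∈ H) :
    EE Q (cj g A) = cj g (EE Q A) := by
  rw [cj_sup, cj_commutator, cj_eq_of_mem_normalizer (h.hHQ hg)]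

theorem FF.W_cj (h : FF p V H Q) (A : Subgroup G) {g : G} (hg : g ∈ H) :
    ⁅V, EE Q (cj g A)⁆ = cj g ⁅V, EE Q A⁆ := by
  rw [h.EE_cj A hg, cj_commutator, cj_eq_of_mem_normalizer (h.hHV hg)]

theorem FF.EE_cj_of_mem_Q (h : FF p V H Q) (A : Subgroup G) {x : G} (hx : x ∈ Q) :
    EE Q (cj x A) = EE Q A := by
  rw [h.EE_cj A (h.hQH hx), cj_eq_of_mem_normalizer (Q_le_normalizer_EE Q A hx)]

/-- (E8') irreducibility under `Q` -/
theorem FF.W_irreducible (h : FF p V H Q) {A : Subgroup G} (hA : IsTv p V H A) {U : Subgroup G}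
    (hU : U ≤ ⁅V, EE Q A⁆) (hQU : Q ≤ normalizer (U : Set G)) (hU1 : U ≠ ⊥) :
    U = ⁅V, EE Q A⁆ := by
  have hp : p.Prime := Fact.out
  obtain ⟨⟨c, hcU⟩, hc1'⟩ := Subgroup.ne_bot_iff_exists_ne_one.mp hU1
  have hc1 : c ≠ 1 := fun h => hc1' (Subtype.ext h)
  obtain ⟨x₁, hx₁, hle, hc⟩ := h.exists_cj_of_mem_W hA (hU hcU)
  have hA₁ := hA.cj h.hHV (h.hQH hx₁)
  obtain ⟨q, hq, hne⟩ := h.exists_cj_ne hA₁
  have hZ₁ : ⁅V, cj x₁ A⁆ ≤ U := by
    rw [eq_zpowers_of_card_prime hp (h.card_comm_of_isTv hA₁) hc hc1, zpowers_le]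
    exact hcU
  have hZ₂ : ⁅V, cj q (cj x₁ A)⁆ ≤ U := by
    have h1 := cj_mono (g := q) hZ₁
    rwa [cj_commutator, cj_eq_of_mem_normalizer (h.hHV (h.hQH hq)),
      cj_eq_of_mem_normalizer (hQU hq)] at h1
  apply eq_of_le_of_card_ge hU
  rw [h.card_comm_E hA, ← h.card_comm_sup_cj hA₁ hq hne, h.comm_sup_cj hA₁ hq]
  exact card_le_of_le (sup_le hZ₁ hZ₂)

theorem FF.R_ne_bot (h : FF p V H Q) {A : Subgroup G} (hA : IsTv p V H A) : ⁅Q, A⁆ ≠ ⊥ := by
  have hp : p.Prime := Fact.out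
  intro h1
  have h2 := h.card_R hA
  rw [h1, card_bot] at h2
  have h3 : 2 ^ 2 ≤ p ^ 2 := Nat.pow_le_pow_left hp.two_le 2
  omega

/-- (E10) -/
theorem FF.C_R_eq (h : FF p V H Q) {A : Subgroup G} (hA : IsTv p V H A) :
    V ⊓ centralizer ((⁅Q, A⁆ : Subgroup G) : Set G) = V ⊓ centralizer (EE Q A : Set G) := by
  apply le_antisymm
  · have hU : ⁅V, EE Q A⁆ ⊓ centralizer ((⁅Q, A⁆ : Subgroup G) : Set G) = ⊥ := by
      by_contra hU1
      have h1 := h.W_irreducible hA inf_le_left (by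
        intro q hq
        rw [mem_normalizer_iff_cj, cj_inf, ← centralizer_cj,
          cj_eq_of_mem_normalizer (h.Q_le_normalizer_W A hq),
          cj_eq_of_mem_normalizer (le_normalizer_commutator_left Q A hq)]) hU1
      have h2 : ⁅V, EE Q A⁆ ≤ centralizer ((⁅Q, A⁆ : Subgroup G) : Set G) := inf_eq_left.mp h1
      apply h.R_ne_bot hA
      rw [eq_bot_iff, ← h.E_inf_centralizer hA]
      exact le_inf le_sup_left (le_centralizer_iff.mp h2)
    rintro v ⟨hvV, hvR⟩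
    have hvR' : v ∈ centralizer ((⁅Q, A⁆ : Subgroup G) : Set G) := hvR
    have hv : v ∈ ⁅V, EE Q A⁆ ⊔ (V ⊓ centralizer (EE Q A : Set G)) := by
      rw [h.W_sup_C hA]; exact hvV
    have hnorm : (V ⊓ centralizer (EE Q A : Set G)) ≤
        normalizer ((⁅V, EE Q A⁆ : Subgroup G) : Set G) := by
      refine le_trans ?_ (centralizer_le_normalizer _)
      intro z hz
      rw [mem_centralizer_iff]
      intro z' hz'
      exact h.V_comm z' (h.W_le hA hz') z hz.1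
    obtain ⟨w, hw, c, hc, rfl⟩ := (mem_sup_of_le_normalizer hnorm).mp hv
    have hcR : c ∈ centralizer ((⁅Q, A⁆ : Subgroup G) : Set G) :=
      centralizer_le (SetLike.coe_subset_coe.mpr (le_sup_left : ⁅Q, A⁆ ≤ EE Q A)) hc.2
    have hw1 : w ∈ ⁅V, EE Q A⁆ ⊓ centralizer ((⁅Q, A⁆ : Subgroup G) : Set G) := by
      refine ⟨hw, ?_⟩
      have h3 : (w * c) * c⁻¹ ∈ centralizer ((⁅Q, A⁆ : Subgroup G) : Set G) :=
        mul_mem hvR' (inv_mem hcR)
      rwa [mul_inv_cancel_right] at h3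
    rw [hU, mem_bot] at hw1
    rw [hw1, one_mul]
    exact hc
  · exact inf_le_inf_left _ (centralizer_le (SetLike.coe_subset_coe.mpr le_sup_left))

end Cfsg.Agent.Lib.Helper1
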