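import Mathlib
import Cfsg.Agent.Lib.Helper1.FF6

set_option autoImplicit false

namespace Cfsg.Agent.Lib.Helper1

open Subgroup Cfsg
open scoped commutatorElement
open Cfsg.Agent.Lib.Helper12 (cj mem_cj conj_mem_cj card_cj cj_inf cj_sup cj_commutator centralizer_cj
  cj_eq_of_mem_normalizer cj_mono cj_mul cj_inv_cj cj_eq_of_mem mem_normalizer_iff_cj)

variable {G : Type*} [Group G] [Finite G] {p : ℕ} [Fact p.Prime] {V H Q : Subgroup G}

/-- the fixed points of a transvection subgroup with centre in `W(A)` centralising `C_V(E(A))` -/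
theorem FF.C_eq_of (h : FF p V H Q) {A B : Subgroup G} (hA : IsTv p V H A) (hB : IsTv p V H B)
    (hB1 : B ≤ centralizer ((V ⊓ centralizer (EE Q A : Set G) : Subgroup G) : Set G))
    (hB2 : ⁅V, B⁆ ≤ ⁅V, EE Q A⁆) :
    V ⊓ centralizer (B : Set G) = ⁅V, B⁆ ⊔ (V ⊓ centralizer (EE Q A : Set G)) := by
  have hp : p.Prime := Fact.out
  symm
  apply eq_of_le_of_card_ge
  · refine sup_le (le_inf (commutator_le_left_of_le_normalizer (hB.le.trans h.hHV))
      (le_centralizer_iff.mp (h.le_centralizer_comm_of_isTv hB)))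
      (le_inf inf_le_left (le_centralizer_iff.mp hB1))
  · have h1 := Cfsg.Agent.Lib.Helper4.card_mul_card_eq_of_le_normalizer ⁅V, B⁆
      (V ⊓ centralizer (EE Q A : Set G)) (hB2.trans (h.W_normalizes_C hA))
    have h2 : ⁅V, B⁆ ⊓ (V ⊓ centralizer (EE Q A : Set G)) = ⊥ := by
      rw [eq_bot_iff, ← h.W_inf_C hA]
      exact inf_le_inf_right _ hB2
    rw [h2, card_bot, mul_one, h.card_comm_of_isTv hB] at h1
    rw [← h1]
    have h3 := h.card_C_eq hA
    rw [← hB.cardC, sq, mul_assoc] at h3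
    exact (Nat.eq_of_mul_eq_mul_left hp.pos h3).ge

/-- Lemma T -/
theorem FF.le_EE_of (h : FF p V H Q) {A B : Subgroup G} (hA : IsTv p V H A) (hB : IsTv p V H B)
    (hB1 : B ≤ centralizer ((V ⊓ centralizer (EE Q A : Set G) : Subgroup G) : Set G))
    (hB2 : ⁅V, B⁆ ≤ ⁅V, EE Q A⁆) : B ≤ EE Q A := by
  have hp : p.Prime := Fact.out
  have hZB := h.card_comm_of_isTv hB
  have hZB1 : ⁅V, B⁆ ≠ ⊥ := (h.min_of_isTv hB).1
  obtain ⟨⟨c, hcZ⟩, hc1'⟩ := Subgroup.ne_bot_iff_exists_ne_one.mp hZB1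
  have hc1 : c ≠ 1 := fun h => hc1' (Subtype.ext h)
  obtain ⟨x₁, hx₁, hle, hc⟩ := h.exists_cj_of_mem_W hA (hB2 hcZ)
  have hA₁ := hA.cj h.hHV (h.hQH hx₁)
  have hZeq : ⁅V, cj x₁ A⁆ = ⁅V, B⁆ := by
    rw [eq_zpowers_of_card_prime hp (h.card_comm_of_isTv hA₁) hc hc1,
      eq_zpowers_of_card_prime hp hZB hcZ hc1]
  have hCB := h.C_eq_of hA hB hB1 hB2
  have hCA₁ := h.C_eq_of hA hA₁ (by
    refine hle.trans ?_
    rw [le_centralizer_iff]
    exact inf_le_right) (by rw [hZeq]; exact hB2)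
  rw [hZeq, ← hCB] at hCA₁
  -- a vector outside the common axis
  obtain ⟨v₀, hv₀V, hv₀⟩ : ∃ v₀ ∈ V, v₀ ∉ V ⊓ centralizer (B : Set G) := by
    by_contra hcon
    push Not at hcon
    have h1 : V ⊓ centralizer (B : Set G) = V := le_antisymm inf_le_left hcon
    have h2 := hB.cardC
    rw [h1] at h2
    have h3 : 0 < Nat.card V := Nat.card_pos
    have h4 : 1 * Nat.card V < p * Nat.card V := Nat.mul_lt_mul_of_pos_right hp.one_lt h3
    omega
  obtain ⟨a₁, ha₁, ha₁1, hA₁a, -⟩ := hA₁.exists_gen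
  obtain ⟨b, hb, hb1, hBb, -⟩ := hB.exists_gen
  set s := a₁ * v₀ * a₁⁻¹ * v₀⁻¹ with hs
  have hsZ : s ∈ ⁅V, B⁆ := by rw [← hZeq]; exact comm_inv_mem ha₁ hv₀V
  have hs1 : s ≠ 1 := by
    intro hs1
    apply hv₀
    rw [← hCA₁]
    refine ⟨hv₀V, ?_⟩
    change v₀ ∈ centralizer ((cj x₁ A : Subgroup G) : Set G)
    rw [hA₁a, centralizer_zpowers_eq, mem_centralizer_singleton_iff]
    calc v₀ * a₁ = s⁻¹ * (a₁ * v₀) := by rw [hs]; group
      _ = a₁ * v₀ := by rw [hs1]; group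
  have hZs := eq_zpowers_of_card_prime hp hZB hsZ hs1
  have huZ : b * v₀ * b⁻¹ * v₀⁻¹ ∈ ⁅V, B⁆ := comm_inv_mem hb hv₀V
  rw [hZs, ← mem_powers_iff_mem_zpowers] at huZ
  obtain ⟨n, hn⟩ := Submonoid.mem_powers_iff _ _ |>.mp huZ
  have has : a₁ * s = s * a₁ := by
    have h1 := h.le_centralizer_comm_of_isTv hA₁ ha₁
    rw [hZeq] at h1
    exact ((mem_centralizer_iff.mp h1) s hsZ).symm
  have hconj := conj_pow_of_chain (g := a₁) (v := v₀) (w := s) (by rw [hs]; group) has n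
  rw [hn] at hconj
  -- `g = a₁⁻ⁿ b` centralises `V`
  set g := (a₁ ^ n)⁻¹ * b with hg
  have hgH : g ∈ H := mul_mem (inv_mem (pow_mem (hA₁.le ha₁) n)) (hB.le hb)
  have hgv : zpowers v₀ ≤ centralizer {g} := by
    rw [zpowers_le, mem_centralizer_singleton_iff]
    have h1 : a₁ ^ n * v₀ * (a₁ ^ n)⁻¹ = b * v₀ * b⁻¹ := by rw [hconj]; group
    calc v₀ * g = (a₁ ^ n)⁻¹ * (a₁ ^ n * v₀ * (a₁ ^ n)⁻¹) * b := by rw [hg]; group
      _ = g * v₀ := by rw [h1, hg]; group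
  have hgY : V ⊓ centralizer (B : Set G) ≤ centralizer {g} := by
    intro y hy
    have hy' : y ∈ V ⊓ centralizer ((cj x₁ A : Subgroup G) : Set G) := by rw [hCA₁]; exact hy
    have h1 : b * y = y * b := (mem_centralizer_iff.mp hy.2) b hb
    have h2 : a₁ ^ n * y = y * a₁ ^ n := (mem_centralizer_iff.mp hy'.2) _ (pow_mem ha₁ n)
    rw [mem_centralizer_singleton_iff]
    calc y * g = (a₁ ^ n)⁻¹ * (a₁ ^ n * y) * (a₁ ^ n)⁻¹ * b := by rw [hg]; group
      _ = (a₁ ^ n)⁻¹ * (y * b) := by rw [h2]; group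
      _ = g * y := by rw [← h1, hg]; group
  have hVeq : (V ⊓ centralizer (B : Set G)) ⊔ zpowers v₀ = V := by
    apply eq_of_le_of_card_ge (sup_le inf_le_left (zpowers_le.mpr hv₀V))
    rw [← hB.cardC]
    apply p_mul_card_le_of_lt (h.isPGroup_V.to_le (sup_le inf_le_left (zpowers_le.mpr hv₀V)))
    refine lt_of_le_of_ne le_sup_left ?_
    intro heq
    apply hv₀
    rw [heq]
    exact le_sup_right (a := V ⊓ centralizer (B : Set G)) (mem_zpowers v₀)
  have hg1 : g = 1 := by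
    apply h.eq_one_of_mem hgH
    rw [mem_centralizer_iff]
    intro v hv
    have h1 : v ∈ (V ⊓ centralizer (B : Set G)) ⊔ zpowers v₀ := by rw [hVeq]; exact hv
    exact mem_centralizer_singleton_iff.mp (sup_le hgY hgv h1)
  have hb' : b = a₁ ^ n := by
    calc b = a₁ ^ n * g := by rw [hg]; group
      _ = a₁ ^ n := by rw [hg1, mul_one]
  rw [hBb, zpowers_le, hb']
  exact hle (pow_mem ha₁ n)

theorem FF.EE_le_of_le (h : FF p V H Q) {A B : Subgroup G} (hBA : B ≤ EE Q A) :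
    EE Q B ≤ EE Q A := by
  refine sup_le ?_ hBA
  rw [commutator_le]
  intro q hq b hb
  rw [commutatorElement_def]
  exact mul_mem (conj_mem_of_mem_normalizer (Q_le_normalizer_EE Q A hq) (hBA hb)) (inv_mem (hBA hb))

theorem FF.EE_eq_of_le (h : FF p V H Q) {A B : Subgroup G} (hA : IsTv p V H A) (hB : IsTv p V H B)
    (hBA : B ≤ EE Q A) : EE Q B = EE Q A := by
  apply eq_of_le_of_card_ge (h.EE_le_of_le hBA)
  rw [h.card_E hA, h.card_E hB]

/-- Lemma K -/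
theorem FF.EE_eq_of_W_inf_ne_bot (h : FF p V H Q) {A B : Subgroup G} (hA : IsTv p V H A)
    (hB : IsTv p V H B) (hne : ⁅V, EE Q A⁆ ⊓ ⁅V, EE Q B⁆ ≠ ⊥) : EE Q B = EE Q A := by
  have h1 := h.W_irreducible hA inf_le_left
    (le_normalizer_inf (h.Q_le_normalizer_W A) (h.Q_le_normalizer_W B)) hne
  have hWle : ⁅V, EE Q A⁆ ≤ ⁅V, EE Q B⁆ := inf_eq_left.mp h1
  have hW : ⁅V, EE Q A⁆ = ⁅V, EE Q B⁆ := by
    apply eq_of_le_of_card_ge hWle
    rw [h.card_comm_E hA, h.card_comm_E hB]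
  apply h.EE_eq_of_le hA hB
  apply h.le_EE_of hA hB
  · -- `C_V(E(A)) ≤ C_V(R_B) = C_V(E(B)) ≤ C(B)`
    rw [le_centralizer_iff]
    have h2 : V ⊓ centralizer (EE Q A : Set G) ≤ V ⊓ centralizer ((⁅Q, B⁆ : Subgroup G) : Set G) := by
      refine le_inf inf_le_left ?_
      intro c hc
      rw [mem_centralizer_iff]
      intro r hr
      have hrQ : r ∈ Q := h.comm_le_Q hB.le hr
      have h3 : r * c * r⁻¹ * c⁻¹ ∈ ⁅V, EE Q A⁆ ⊓ (V ⊓ centralizer (EE Q A : Set G)) := by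
        constructor
        · rw [hW]
          exact comm_inv_mem (le_sup_left (b := B) hr) hc.1
        · have h4 : r * c * r⁻¹ * c⁻¹ ∈ (V ⊓ centralizer (EE Q A : Set G) : Subgroup G) :=
            mul_mem (conj_mem_of_mem_normalizer (h.Q_le_normalizer_C A hrQ) hc) (inv_mem hc)
          exact h4
      rw [h.W_inf_C hA, mem_bot] at h3
      calc r * c = (r * c * r⁻¹ * c⁻¹) * (c * r) := by group
        _ = c * r := by rw [h3, one_mul]
    rw [h.C_R_eq hB] at h2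
    exact h2.trans (inf_le_right.trans
      (centralizer_le (SetLike.coe_subset_coe.mpr (le_sup_right : B ≤ EE Q B))))
  · rw [hW]
    exact commutator_mono le_rfl le_sup_right

/-- (N) -/
theorem FF.le_normalizer_EE (h : FF p V H Q) {A B : Subgroup G} (hA : IsTv p V H A)
    (hB : IsTv p V H B) : B ≤ normalizer (EE Q A : Set G) := by
  have hp : p.Prime := Fact.out
  have h1 := hB.card_le (h.W_le hA)
  rw [h.card_comm_E hA, sq] at h1
  have h2 : p ≤ Nat.card ↥(⁅V, EE Q A⁆ ⊓ centralizer (B : Set G)) :=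
    Nat.le_of_mul_le_mul_left h1 hp.pos
  have h3 : ⁅V, EE Q A⁆ ⊓ centralizer (B : Set G) ≠ ⊥ := by
    intro h3
    rw [h3, card_bot] at h2
    exact absurd h2 (not_le.mpr hp.one_lt)
  obtain ⟨⟨c, hcW, hcC⟩, hc1'⟩ := Subgroup.ne_bot_iff_exists_ne_one.mp h3
  have hc1 : c ≠ 1 := fun h => hc1' (Subtype.ext h)
  intro b hb
  have hbH := hB.le hb
  rw [mem_normalizer_iff_cj, ← h.EE_cj A hbH]
  apply h.EE_eq_of_W_inf_ne_bot hA (hA.cj h.hHV hbH)
  intro hbot
  apply hc1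
  rw [← mem_bot, ← hbot]
  refine ⟨hcW, ?_⟩
  rw [h.W_cj A hbH]
  have h4 : b * c * b⁻¹ = c := by
    have h5 : b * c = c * b := (mem_centralizer_iff.mp hcC) b hb
    rw [h5]; group
  have h5 : b * c * b⁻¹ ∈ cj b ⁅V, EE Q A⁆ := conj_mem_cj hcW
  rwa [h4] at h5

/-- (D) -/
theorem FF.le_EE_or_le_centralizer (h : FF p V H Q) {A B : Subgroup G} (hA : IsTv p V H A)
    (hB : IsTv p V H B) :
    B ≤ EE Q A ∨ B ≤ centralizer ((⁅V, EE Q A⁆ : Subgroup G) : Set G) := by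
  have hp : p.Prime := Fact.out
  have hBN := h.le_normalizer_EE hA hB
  have hBW : B ≤ normalizer ((⁅V, EE Q A⁆ : Subgroup G) : Set G) :=
    fun b hb => mem_normalizer_commutator (h.hHV (hB.le hb)) (hBN hb)
  have hBC : B ≤ normalizer ((V ⊓ centralizer (EE Q A : Set G) : Subgroup G) : Set G) :=
    fun b hb => mem_normalizer_inf_centralizer (h.hHV (hB.le hb)) (hBN hb)
  by_cases hWB : ⁅⁅V, EE Q A⁆, B⁆ = ⊥
  · right
    rw [commutator_eq_bot_iff_le_centralizer, le_centralizer_iff] at hWB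
    exact hWB
  · left
    obtain ⟨⟨c, hc⟩, hc1'⟩ := Subgroup.ne_bot_iff_exists_ne_one.mp hWB
    have hc1 : c ≠ 1 := fun h => hc1' (Subtype.ext h)
    have hcW : c ∈ ⁅V, EE Q A⁆ := commutator_le_left_of_le_normalizer hBW hc
    have hcZ : c ∈ ⁅V, B⁆ := commutator_mono (h.W_le hA) le_rfl hc
    have hZ : ⁅V, B⁆ ≤ ⁅V, EE Q A⁆ := by
      rw [eq_zpowers_of_card_prime hp (h.card_comm_of_isTv hB) hcZ hc1, zpowers_le]
      exact hcW
    apply h.le_EE_of hA hB _ hZ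
    rw [le_centralizer_iff, ← commutator_eq_bot_iff_le_centralizer, eq_bot_iff, ← h.W_inf_C hA]
    exact le_inf ((commutator_mono inf_le_left le_rfl).trans hZ)
      (commutator_le_left_of_le_normalizer hBC)

end Cfsg.Agent.Lib.Helper1
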