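import Mathlib
import Cfsg.Agent.Lib.Helper1.FF7

set_option autoImplicit false

namespace Cfsg.Agent.Lib.Helper1

open Subgroup Cfsg
open scoped commutatorElement
open Cfsg.Agent.Lib.Helper12 (cj mem_cj conj_mem_cj card_cj cj_inf cj_sup cj_commutator centralizer_cj
  cj_eq_of_mem_normalizer cj_mono cj_mul cj_inv_cj cj_eq_of_mem mem_normalizer_iff_cj)

variable {G : Type*} [Group G]

/-- direct decomposition of an abelian group from a family of compatible splittings -/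
theorem dp_aux {ι : Type*} {V : Subgroup G} (hVc : ∀ x ∈ V, ∀ y ∈ V, x * y = y * x)
    (W C : ι → Subgroup G) (hW : ∀ i, W i ≤ V) (hC : ∀ i, C i ≤ V)
    (h1 : ∀ i, W i ⊓ C i = ⊥) (h2 : ∀ i, W i ⊔ C i = V) (h3 : ∀ i j, i ≠ j → W j ≤ C i)
    (s : Finset ι) :
    (V ⊓ ⨅ i ∈ s, C i) ⊓ (⨆ i ∈ s, W i) = ⊥ ∧ (V ⊓ ⨅ i ∈ s, C i) ⊔ (⨆ i ∈ s, W i) = V := by
  classical
  have hnorm : ∀ X Y : Subgroup G, X ≤ V → Y ≤ V → Y ≤ normalizer (X : Set G) := by
    intro X Y hX hY
    refine le_trans ?_ (centralizer_le_normalizer _)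
    intro y hy
    rw [mem_centralizer_iff]
    intro x hx
    exact hVc x (hX hx) y (hY hy)
  induction s using Finset.induction_on with
  | empty => simp
  | insert a s ha ih =>
    obtain ⟨ih1, ih2⟩ := ih
    rw [Finset.iInf_insert, Finset.iSup_insert]
    set Cs : Subgroup G := V ⊓ ⨅ i ∈ s, C i with hCs
    set Us : Subgroup G := ⨆ i ∈ s, W i with hUs
    have hUsV : Us ≤ V := iSup₂_le (fun i _ => hW i)
    have hUsC : Us ≤ C a := iSup₂_le (fun i hi => h3 a i (fun h => ha (h ▸ hi)))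
    have hWCs : W a ≤ Cs := le_inf (hW a) (le_iInf₂ (fun i hi => h3 i a (fun h => ha (h ▸ hi))))
    have hCs' : V ⊓ (C a ⊓ ⨅ i ∈ s, C i) = C a ⊓ Cs := by
      rw [hCs, inf_left_comm]
    rw [hCs']
    constructor
    · rw [eq_bot_iff]
      rintro x ⟨⟨hxCa, hxCs⟩, hxs⟩
      obtain ⟨w, hw, u, hu, rfl⟩ := (mem_sup_of_le_normalizer (hnorm (W a) Us (hW a) hUsV)).mp hxs
      have hw1 : w ∈ W a ⊓ C a := by
        refine ⟨hw, ?_⟩
        have h4 : (w * u) * u⁻¹ ∈ C a := mul_mem hxCa (inv_mem (hUsC hu))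
        rwa [mul_inv_cancel_right] at h4
      rw [h1 a, mem_bot] at hw1
      rw [hw1, one_mul] at hxCs ⊢
      rw [← ih1]
      exact ⟨hxCs, hu⟩
    · apply le_antisymm
      · exact sup_le (inf_le_left.trans (hC a)) (sup_le (hW a) hUsV)
      · intro v hv
        have hv' : v ∈ Cs ⊔ Us := by rw [ih2]; exact hv
        obtain ⟨c, hc, u, hu, rfl⟩ :=
          (mem_sup_of_le_normalizer (hnorm Cs Us inf_le_left hUsV)).mp hv'
        have hcs : c ∈ W a ⊔ C a := by rw [h2 a]; exact hc.1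
        obtain ⟨w, hw, c', hc', rfl⟩ :=
          (mem_sup_of_le_normalizer (hnorm (W a) (C a) (hW a) (hC a))).mp hcs
        have hc'Cs : c' ∈ Cs := by
          have h4 : w⁻¹ * (w * c') ∈ Cs := mul_mem (inv_mem (hWCs hw)) hc
          rwa [inv_mul_cancel_left] at h4
        have h5 : w * c' * u = c' * (w * u) := by
          rw [hVc w (hW a hw) c' (hC a hc'), mul_assoc]
        rw [h5]
        exact mul_mem (le_sup_left (b := W a ⊔ Us) ⟨hc', hc'Cs⟩)
          (le_sup_right (a := C a ⊓ Cs)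
            (mul_mem (le_sup_left (b := Us) hw) (le_sup_right (a := W a) hu)))

variable [Finite G] {p : ℕ} [Fact p.Prime] {V H Q : Subgroup G}

/-- generation by transvection subgroups -/
theorem FF.le_of_forall_isTv (h : FF p V H Q)
    (hS3 : H = ⨆ A : {A : Subgroup G // A ≤ H ∧ IsBestOffenderOn p V A}, (A : Subgroup G))
    (K : Subgroup G) (hK : ∀ B, IsTv p V H B → B ≤ K) : H ≤ K := by
  refine hS3.le.trans (iSup_le ?_)
  rintro ⟨A, hAH, hA⟩
  obtain ⟨k, B, hB, -, hsup⟩ := h.exists_decomp hAH hA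
  change A ≤ K
  rw [← hsup]
  exact iSup_le (fun i => hK _ (hB i).2)

section gen

variable (h : FF p V H Q) (hgen : ∀ K : Subgroup G, (∀ B, IsTv p V H B → B ≤ K) → H ≤ K)
include h hgen

theorem FF.H_le_normalizer_EE {A : Subgroup G} (hA : IsTv p V H A) :
    H ≤ normalizer (EE Q A : Set G) :=
  hgen _ (fun _ hB => h.le_normalizer_EE hA hB)

theorem FF.H_le_normalizer_W {A : Subgroup G} (hA : IsTv p V H A) :
    H ≤ normalizer ((⁅V, EE Q A⁆ : Subgroup G) : Set G) :=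
  fun _ hg => mem_normalizer_commutator (h.hHV hg) (h.H_le_normalizer_EE hgen hA hg)

theorem FF.H_le_normalizer_C {A : Subgroup G} (hA : IsTv p V H A) :
    H ≤ normalizer ((V ⊓ centralizer (EE Q A : Set G) : Subgroup G) : Set G) :=
  fun _ hg => mem_normalizer_inf_centralizer (h.hHV hg) (h.H_le_normalizer_EE hgen hA hg)

theorem FF.comm_EE_K {A : Subgroup G} (hA : IsTv p V H A) :
    ⁅EE Q A, H ⊓ centralizer ((⁅V, EE Q A⁆ : Subgroup G) : Set G)⁆ = ⊥ := by
  rw [eq_bot_iff, commutator_le]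
  rintro e he k ⟨hkH, hkW⟩
  have hkW' : k ∈ centralizer ((⁅V, EE Q A⁆ : Subgroup G) : Set G) := hkW
  have heH := h.E_le hA he
  rw [mem_bot]
  apply h.eq_one_of_mem (mul_mem (mul_mem (mul_mem heH hkH) (inv_mem heH)) (inv_mem hkH))
  have h1 : ⁅e, k⁆ ∈ centralizer ((⁅V, EE Q A⁆ ⊔ (V ⊓ centralizer (EE Q A : Set G)) : Subgroup G) : Set G) := by
    rw [Cfsg.Agent.Lib.Helper4.centralizer_sup_eq]
    constructor
    · have h3 : e * k * e⁻¹ * k⁻¹ ∈ centralizer ((⁅V, EE Q A⁆ : Subgroup G) : Set G) :=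
        mul_mem (conj_mem_centralizer_of_mem_normalizer (h.H_le_normalizer_W hgen hA heH) hkW')
          (inv_mem hkW')
      exact h3
    · have heC : e ∈ centralizer ((V ⊓ centralizer (EE Q A : Set G) : Subgroup G) : Set G) :=
        (le_centralizer_iff.mp inf_le_right) he
      have h2 : ⁅e, k⁆ = e * (k * e⁻¹ * k⁻¹) := by rw [commutatorElement_def]; group
      rw [h2]
      exact mul_mem heC (conj_mem_centralizer_of_mem_normalizer (h.H_le_normalizer_C hgen hA hkH)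
        (inv_mem heC))
  rwa [h.W_sup_C hA] at h1

omit hgen in
theorem FF.EE_inf_K {A : Subgroup G} (hA : IsTv p V H A) :
    EE Q A ⊓ (H ⊓ centralizer ((⁅V, EE Q A⁆ : Subgroup G) : Set G)) = ⊥ := by
  rw [eq_bot_iff, ← h.E_inf_centralizer hA]
  exact inf_le_inf_left _ inf_le_right

theorem FF.EE_sup_K {A : Subgroup G} (hA : IsTv p V H A) :
    EE Q A ⊔ (H ⊓ centralizer ((⁅V, EE Q A⁆ : Subgroup G) : Set G)) = H := by
  apply le_antisymm (sup_le (h.E_le hA) inf_le_left)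
  apply hgen
  intro B hB
  rcases h.le_EE_or_le_centralizer hA hB with h1 | h1
  · exact h1.trans le_sup_left
  · exact (le_inf hB.le h1).trans le_sup_right

theorem FF.comm_V_K {A : Subgroup G} (hA : IsTv p V H A) :
    ⁅V, H ⊓ centralizer ((⁅V, EE Q A⁆ : Subgroup G) : Set G)⁆ ≤
      V ⊓ centralizer (EE Q A : Set G) := by
  rw [commutator_le]
  rintro v hv k ⟨hkH, hkW⟩
  have hv' : v ∈ ⁅V, EE Q A⁆ ⊔ (V ⊓ centralizer (EE Q A : Set G)) := by rw [h.W_sup_C hA]; exact hv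
  have hnorm : (V ⊓ centralizer (EE Q A : Set G)) ≤
      normalizer ((⁅V, EE Q A⁆ : Subgroup G) : Set G) := by
    refine le_trans ?_ (centralizer_le_normalizer _)
    intro z hz
    rw [mem_centralizer_iff]
    intro z' hz'
    exact h.V_comm z' (h.W_le hA hz') z hz.1
  obtain ⟨w, hw, c, hc, rfl⟩ := (mem_sup_of_le_normalizer hnorm).mp hv'
  have hck : c * (k * c⁻¹ * k⁻¹) ∈ (V ⊓ centralizer (EE Q A : Set G) : Subgroup G) :=
    mul_mem hc (conj_mem_of_mem_normalizer (h.H_le_normalizer_C hgen hA hkH) (inv_mem hc))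
  have hkw : w * k = k * w := (mem_centralizer_iff.mp hkW) w hw
  have hkw' : w⁻¹ * k⁻¹ = k⁻¹ * w⁻¹ := by
    rw [← mul_inv_rev, ← mul_inv_rev, hkw]
  have h1 : ⁅w * c, k⁆ = w * (c * (k * c⁻¹ * k⁻¹)) * w⁻¹ := by
    rw [commutatorElement_def]
    calc w * c * k * (w * c)⁻¹ * k⁻¹ = w * c * k * c⁻¹ * (w⁻¹ * k⁻¹) := by group
      _ = w * (c * (k * c⁻¹ * k⁻¹)) * w⁻¹ := by rw [hkw']; group
  rw [h1, h.V_comm w (h.W_le hA hw) _ hck.1, mul_inv_cancel_right]
  exact hck

end gen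

/-- (X) -/
theorem FF.EE_le_K_of_ne (h : FF p V H Q) {A B : Subgroup G} (hA : IsTv p V H A)
    (hB : IsTv p V H B) (hne : EE Q B ≠ EE Q A) :
    EE Q B ≤ centralizer ((⁅V, EE Q A⁆ : Subgroup G) : Set G) := by
  have hBC : B ≤ centralizer ((⁅V, EE Q A⁆ : Subgroup G) : Set G) := by
    rcases h.le_EE_or_le_centralizer hA hB with h1 | h1
    · exact absurd (h.EE_eq_of_le hA hB h1) hne
    · exact h1
  refine sup_le ?_ hBC
  rw [commutator_le]
  intro q hq b hb
  rw [commutatorElement_def]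
  exact mul_mem (conj_mem_centralizer_of_mem_normalizer (h.Q_le_normalizer_W A hq) (hBC hb))
    (inv_mem (hBC hb))

/-- (Y) -/
theorem FF.W_le_C_of_ne (h : FF p V H Q) {A B : Subgroup G} (hA : IsTv p V H A)
    (hB : IsTv p V H B) (hne : EE Q B ≠ EE Q A) :
    ⁅V, EE Q B⁆ ≤ V ⊓ centralizer (EE Q A : Set G) :=
  le_inf (h.W_le hB) (le_centralizer_iff.mp (h.EE_le_K_of_ne hB hA hne.symm))

theorem FF.structure_thm (h : FF p V H Q)
    (hgen : ∀ K : Subgroup G, (∀ B, IsTv p V H B → B ≤ K) → H ≤ K) (hH1 : H ≠ ⊥)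
    {ι : Type*} [Finite ι] (E : ι → Subgroup G) (hinj : Function.Injective E)
    (hE : ∀ i, ∃ A, IsTv p V H A ∧ E i = EE Q A) (hall : ∀ A, IsTv p V H A → ∃ i, E i = EE Q A) :
    (p = 2 ∨ p = 3) ∧
    (∀ i, H ≤ normalizer (E i : Set G) ∧
      Nonempty (↥(E i) ≃* Matrix.SpecialLinearGroup (Fin 2) (ZMod p)) ∧
      Nat.card ↥(⁅V, E i⁆) = p ^ 2) ∧
    iSupIndep E ∧ (⨆ i, E i) = H ∧
    iSupIndep (fun o : Option ι => o.elim (V ⊓ centralizer (H : Set G)) (fun i => ⁅V, E i⁆)) ∧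
    (V ⊓ centralizer (H : Set G)) ⊔ (⨆ i, ⁅V, E i⁆) = V := by
  classical
  have hsupE : (⨆ i, E i) = H := by
    apply le_antisymm
    · apply iSup_le
      intro i
      obtain ⟨A, hA, hi⟩ := hE i
      rw [hi]
      exact h.E_le hA
    · apply hgen
      intro B hB
      obtain ⟨i, hi⟩ := hall B hB
      have h1 : EE Q B ≤ ⨆ i, E i := by rw [← hi]; exact le_iSup E i
      exact (le_sup_right : B ≤ EE Q B).trans h1
  have hWC : ∀ i j, i ≠ j → ⁅V, E j⁆ ≤ V ⊓ centralizer (E i : Set G) := by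
    intro i j hij
    obtain ⟨A, hA, hi⟩ := hE i
    obtain ⟨B, hB, hj⟩ := hE j
    rw [hi, hj]
    apply h.W_le_C_of_ne hA hB
    rw [← hi, ← hj]
    exact fun heq => hij (hinj heq.symm)
  have hW1 : ∀ i, ⁅V, E i⁆ ⊓ (V ⊓ centralizer (E i : Set G)) = ⊥ := by
    intro i
    obtain ⟨A, hA, hi⟩ := hE i
    rw [hi]
    exact h.W_inf_C hA
  have hW2 : ∀ i, ⁅V, E i⁆ ⊔ (V ⊓ centralizer (E i : Set G)) = V := by
    intro i
    obtain ⟨A, hA, hi⟩ := hE i
    rw [hi]
    exact h.W_sup_C hA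
  have hWV : ∀ i, ⁅V, E i⁆ ≤ V := by
    intro i
    obtain ⟨A, hA, hi⟩ := hE i
    rw [hi]
    exact h.W_le hA
  haveI := Fintype.ofFinite ι
  obtain ⟨dp1, dp2⟩ := dp_aux h.V_comm (fun i => ⁅V, E i⁆) (fun i => V ⊓ centralizer (E i : Set G))
    hWV (fun i => inf_le_left) hW1 hW2 hWC Finset.univ
  simp only [Finset.mem_univ, iInf_pos, iSup_pos] at dp1 dp2
  have hCH : V ⊓ ⨅ i, (V ⊓ centralizer (E i : Set G)) = V ⊓ centralizer (H : Set G) := by
    apply le_antisymm
    · refine le_inf inf_le_left ?_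
      rw [le_centralizer_iff, ← hsupE]
      apply iSup_le
      intro i
      rw [← le_centralizer_iff]
      exact inf_le_right.trans ((iInf_le _ i).trans inf_le_right)
    · refine le_inf inf_le_left (le_iInf (fun i => inf_le_inf_left _ (centralizer_le ?_)))
      rw [← hsupE]
      exact SetLike.coe_subset_coe.mpr (le_iSup E i)
  rw [hCH] at dp1 dp2
  refine ⟨?_, ?_, ?_, hsupE, ?_, dp2⟩
  · by_contra hp
    apply hH1
    rw [eq_bot_iff]
    apply hgen
    intro B hB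
    exact absurd (h.two_or_three hB) hp
  · intro i
    obtain ⟨A, hA, hi⟩ := hE i
    rw [hi]
    exact ⟨h.H_le_normalizer_EE hgen hA, h.nonempty_mulEquiv_E hA, h.card_comm_E hA⟩
  · rw [iSupIndep_def]
    intro i
    obtain ⟨A, hA, hi⟩ := hE i
    have h1 : (⨆ (j : ι) (_ : j ≠ i), E j) ≤ H ⊓ centralizer ((⁅V, EE Q A⁆ : Subgroup G) : Set G) := by
      apply iSup₂_le
      intro j hj
      obtain ⟨B, hB, hj'⟩ := hE j
      rw [hj']
      refine le_inf (h.E_le hB) (h.EE_le_K_of_ne hA hB ?_)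
      rw [← hi, ← hj']
      exact fun heq => hj (hinj heq)
    refine Disjoint.mono_right h1 ?_
    rw [disjoint_iff, hi]
    exact h.EE_inf_K hA
  · rw [iSupIndep_def]
    intro o
    cases o with
    | none =>
      have h1 : (⨆ (j : Option ι) (_ : j ≠ none),
          j.elim (V ⊓ centralizer (H : Set G)) (fun i => ⁅V, E i⁆)) ≤ ⨆ i, ⁅V, E i⁆ := by
        apply iSup₂_le
        intro j hj
        cases j with
        | none => exact absurd rfl hj
        | some b => exact le_iSup (fun i => ⁅V, E i⁆) b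
      refine Disjoint.mono_right h1 ?_
      rw [disjoint_iff]
      exact dp1
    | some i =>
      have h1 : (⨆ (j : Option ι) (_ : j ≠ some i),
          j.elim (V ⊓ centralizer (H : Set G)) (fun i => ⁅V, E i⁆)) ≤
          V ⊓ centralizer (E i : Set G) := by
        apply iSup₂_le
        intro j hj
        cases j with
        | none =>
          refine inf_le_inf_left _ (centralizer_le ?_)
          rw [← hsupE]
          exact SetLike.coe_subset_coe.mpr (le_iSup E i)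
        | some b => exact hWC i b (fun heq => hj (by rw [heq]))
      refine Disjoint.mono_right h1 ?_
      rw [disjoint_iff]
      exact hW1 i

end Cfsg.Agent.Lib.Helper1
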