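import Mathlib
import Cfsg.Agent.Lib.Helper1.FF8

set_option autoImplicit false

/-! Auxiliary results for cyclic normal subgroups of Sylow subgroups of `p`-soluble groups. -/

namespace Cfsg.Agent.Lib.Helper1

open Subgroup Cfsg Matrix
open Cfsg.Agent.Lib.Helper12 (cj mem_cj)
open scoped commutatorElement

theorem sl3_aux : ∀ a b c d : ZMod 3, a*d - b*c = 1 → a*a + b*c = 1 → a*b + b*d = 0 →
    c*a + d*c = 0 → c*b + d*d = 1 →
    (a = 1 ∧ b = 0 ∧ c = 0 ∧ d = 1) ∨ (a = 2 ∧ b = 0 ∧ c = 0 ∧ d = 2) := by decide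

/-- `-1` in `SL₂(3)` -/
def sl3z : SpecialLinearGroup (Fin 2) (ZMod 3) := ⟨!![2, 0; 0, 2], by decide⟩

theorem sl3_invol (g : SpecialLinearGroup (Fin 2) (ZMod 3)) (h : g * g = 1) :
    g = 1 ∨ g = sl3z := by
  have hd : g.1.det = 1 := g.2
  rw [det_fin_two] at hd
  have h1 : g.1 * g.1 = 1 := congrArg Subtype.val h
  have e00 := congrFun (congrFun h1 0) 0
  have e01 := congrFun (congrFun h1 0) 1
  have e10 := congrFun (congrFun h1 1) 0
  have e11 := congrFun (congrFun h1 1) 1
  simp only [mul_apply, Fin.sum_univ_two, one_apply_eq, one_apply_ne, ne_eq, zero_ne_one,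
    one_ne_zero, not_false_eq_true] at e00 e01 e10 e11
  rcases sl3_aux _ _ _ _ hd e00 e01 e10 e11 with ⟨a, b, c, d⟩ | ⟨a, b, c, d⟩
  · left
    apply Subtype.ext
    change g.1 = 1
    ext i j
    fin_cases i <;> fin_cases j <;> simp [a, b, c, d]
  · right
    apply Subtype.ext
    change g.1 = !![2, 0; 0, 2]
    ext i j
    fin_cases i <;> fin_cases j <;> simp [a, b, c, d]

theorem sl3z_central (g : SpecialLinearGroup (Fin 2) (ZMod 3)) : sl3z * g = g * sl3z := by
  apply Subtype.ext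
  change !![2, 0; 0, 2] * g.1 = g.1 * !![2, 0; 0, 2]
  ext i j
  fin_cases i <;> fin_cases j <;> simp [mul_apply, Fin.sum_univ_two, mul_comm]

theorem sl3z_ne : sl3z ≠ 1 := by decide
theorem sl3z_sq : sl3z * sl3z = 1 := by decide

variable {G : Type*} [Group G]

theorem mul_pow_of_chain {g v w : G} (hw : g * v * g⁻¹ = w * v) (hgw : g * w = w * g)
    (hvw : v * w = w * v) (n : ℕ) :
    (v * g) ^ n = w ^ (n.choose 2) * v ^ n * g ^ n := by
  induction n with
  | zero => simp
  | succ n ih =>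
    have h1 := conj_pow_of_chain hw hgw n
    have h2 : g ^ n * v = w ^ n * v * g ^ n := by
      calc g ^ n * v = (g ^ n * v * (g ^ n)⁻¹) * g ^ n := by group
        _ = w ^ n * v * g ^ n := by rw [h1]
    have h3 : Commute (v ^ n) (w ^ n) := (Commute.pow_pow (show Commute v w from hvw) n n)
    have h4 : (n + 1).choose 2 = n.choose 2 + n := by
      rw [Nat.choose_succ_succ' n 1, Nat.choose_one_right, add_comm]
    calc (v * g) ^ (n + 1) = (v * g) ^ n * (v * g) := pow_succ _ _
      _ = w ^ (n.choose 2) * v ^ n * (g ^ n * v) * g := by rw [ih]; group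
      _ = w ^ (n.choose 2) * (v ^ n * w ^ n) * v * g ^ n * g := by rw [h2]; group
      _ = w ^ (n.choose 2) * (w ^ n * v ^ n) * v * g ^ n * g := by rw [h3.eq]
      _ = w ^ ((n + 1).choose 2) * v ^ (n + 1) * g ^ (n + 1) := by
          rw [h4, pow_add, pow_succ v, pow_succ g]; group

variable [Finite G] {V H Q : Subgroup G}

/-- the central involution of `E ≅ SL₂(3)` acts fixed-point-freely on `[V, E]` -/
theorem FF.exists_central_invol [Fact (Nat.Prime 3)] (h : FF 3 V H Q) {A : Subgroup G}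
    (hA : IsTv 3 V H A) :
    ∃ z ∈ H, z * z = 1 ∧ z ∈ centralizer (A : Set G) ∧
      ∀ c ∈ ⁅V, A⁆, z * c = c * z → c = 1 := by
  obtain ⟨e⟩ := h.nonempty_mulEquiv_E hA
  have hEH : EE Q A ≤ H := h.E_le hA
  obtain ⟨z', hz'⟩ : ∃ z' : ↥(EE Q A), z' = e.symm sl3z := ⟨_, rfl⟩
  have hez : e z' = sl3z := by rw [hz', MulEquiv.apply_symm_apply]
  have hzc : ∀ g : ↥(EE Q A), z' * g = g * z' := by
    intro g
    apply e.injective
    rw [map_mul, map_mul, hez, sl3z_central]
  have hz1 : z' ≠ 1 := by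
    intro h1
    rw [h1, map_one] at hez
    exact sl3z_ne hez.symm
  have hzz : z' * z' = 1 := by
    apply e.injective
    rw [map_mul, hez, sl3z_sq, map_one]
  have huniq : ∀ g : ↥(EE Q A), g * g = 1 → g = 1 ∨ g = z' := by
    intro g hg
    have h1 : e g * e g = 1 := by rw [← map_mul, hg, map_one]
    rcases sl3_invol _ h1 with h2 | h2
    · left; exact e.injective (by rw [h2, map_one])
    · right; exact e.injective (by rw [h2, hez])
  obtain ⟨z, hzE⟩ := z'
  have hz1' : z ≠ 1 := fun h1 => hz1 (Subtype.ext h1)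
  have hzz' : z * z = 1 := congrArg Subtype.val hzz
  have hzH : z ∈ H := hEH hzE
  have hQz : ∀ q ∈ Q, q * z * q⁻¹ = z := by
    intro q hq
    have h1 : q * z * q⁻¹ ∈ EE Q A := conj_mem_of_mem_normalizer (Q_le_normalizer_EE Q A hq) hzE
    have h2 : (q * z * q⁻¹) * (q * z * q⁻¹) = 1 := by
      calc (q * z * q⁻¹) * (q * z * q⁻¹) = q * (z * z) * q⁻¹ := by group
        _ = 1 := by rw [hzz']; group
    rcases huniq ⟨_, h1⟩ (Subtype.ext h2) with h3 | h3
    · exfalso
      apply hz1'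
      have h4 : q * z * q⁻¹ = 1 := congrArg Subtype.val h3
      calc z = q⁻¹ * (q * z * q⁻¹) * q := by group
        _ = 1 := by rw [h4]; group
    · exact congrArg Subtype.val h3
  have hzA : z ∈ centralizer (A : Set G) := by
    rw [mem_centralizer_iff]
    intro a ha
    exact (congrArg Subtype.val (hzc ⟨a, le_sup_right (a := ⁅Q, A⁆) ha⟩)).symm
  refine ⟨z, hzH, hzz', hzA, ?_⟩
  obtain ⟨U, hU⟩ : ∃ U, U = ⁅V, EE Q A⁆ ⊓ centralizer ({z} : Set G) := ⟨_, rfl⟩
  have hUW : U ≤ ⁅V, EE Q A⁆ := hU ▸ inf_le_left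
  have hQU : Q ≤ normalizer (U : Set G) := by
    apply le_normalizer_of_forall_conj_mem
    intro q hq u hu
    rw [hU] at hu ⊢
    refine ⟨conj_mem_of_mem_normalizer (h.Q_le_normalizer_W A hq) hu.1, ?_⟩
    change _ ∈ centralizer _
    rw [mem_centralizer_iff]
    intro y hy
    rw [Set.mem_singleton_iff] at hy
    subst hy
    have h1 : y * u = u * y := (mem_centralizer_iff.mp hu.2) y rfl
    have h2 := hQz q hq
    calc y * (q * u * q⁻¹) = (q * y * q⁻¹) * (q * u * q⁻¹) := by rw [h2]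
      _ = q * (y * u) * q⁻¹ := by group
      _ = q * (u * y) * q⁻¹ := by rw [h1]
      _ = (q * u * q⁻¹) * (q * y * q⁻¹) := by group
      _ = (q * u * q⁻¹) * y := by rw [h2]
  have hUbot : U = ⊥ := by
    by_contra hU1
    have h1 := h.W_irreducible hA hUW hQU hU1
    apply hz1'
    apply h.eq_one_of_mem hzH
    rw [← h.W_sup_C hA]
    have h2 : ⁅V, EE Q A⁆ ⊔ (V ⊓ centralizer (EE Q A : Set G)) ≤ centralizer ({z} : Set G) := by
      refine sup_le ?_ ?_
      · rw [← h1, hU]; exact inf_le_right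
      · intro c hc
        rw [mem_centralizer_iff]
        intro y hy
        rw [Set.mem_singleton_iff] at hy
        subst hy
        exact (mem_centralizer_iff.mp hc.2) y hzE
    rw [mem_centralizer_iff]
    intro c hc
    exact ((mem_centralizer_iff.mp (h2 hc)) z rfl).symm
  intro c hc hzc'
  have h1 : c ∈ U := by
    rw [hU]
    refine ⟨commutator_mono le_rfl (le_sup_right : A ≤ EE Q A) hc, ?_⟩
    change _ ∈ centralizer _
    rw [mem_centralizer_iff]
    intro y hy
    rw [Set.mem_singleton_iff] at hy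
    subst hy
    exact hzc'
  rw [hUbot, mem_bot] at h1
  exact h1

end Cfsg.Agent.Lib.Helper1
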