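import Mathlib
import Cfsg.Agent.Lib.Helper1.CycN1

set_option autoImplicit false

/-! Tools for coprime action on metacyclic `p`-groups. -/

namespace Cfsg.Agent.Lib.Helper1

open Subgroup Cfsg
open scoped commutatorElement

variable {G : Type*} [Group G]

/-- exponent of a power of `c` modulo `p` -/
noncomputable def exq (p : ℕ) (c w : G) : ZMod p := by
  classical
  exact if h : ∃ k : ℤ, w = c ^ k then ((Classical.choose h : ℤ) : ZMod p) else 0

theorem exq_zpow {p : ℕ} {c : G} (hc : p ∣ orderOf c) (k : ℤ) : exq p c (c ^ k) = (k : ZMod p) := by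
  classical
  have h : ∃ j : ℤ, c ^ k = c ^ j := ⟨k, rfl⟩
  unfold exq
  rw [dif_pos h]
  have h1 := Classical.choose_spec h
  have h2 : c ^ (k - Classical.choose h) = 1 := by
    rw [zpow_sub, ← h1, mul_inv_cancel]
  have h3 : (orderOf c : ℤ) ∣ k - Classical.choose h := orderOf_dvd_iff_zpow_eq_one.mpr h2
  have h4 : (p : ℤ) ∣ k - Classical.choose h := (Int.natCast_dvd_natCast.mpr hc).trans h3
  exact ((ZMod.intCast_eq_intCast_iff_dvd_sub _ _ p).mpr h4)

/-- commutators of elements normalising a cyclic group centralise it -/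
theorem comm_centralizes_of_zpow {c g h : G} {i j : ℤ} (hg : g⁻¹ * c * g = c ^ i) (hh : h⁻¹ * c * h = c ^ j) :
    ⁅g, h⁆ * c = c * ⁅g, h⁆ := by
  have h1 : (g * h)⁻¹ * c * (g * h) = c ^ (i * j) := by
    have : (g * h)⁻¹ * c * (g * h) = h⁻¹ * (g⁻¹ * c * g) * h := by group
    rw [this, hg]
    have h2 : h⁻¹ * c ^ i * h = (h⁻¹ * c * h) ^ i := by
      have := conj_zpow (a := h⁻¹) (b := c) (i := i)
      rw [inv_inv] at this
      exact this.symm
    rw [h2, hh, ← zpow_mul, mul_comm]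
  have h1' : (h * g)⁻¹ * c * (h * g) = c ^ (i * j) := by
    have : (h * g)⁻¹ * c * (h * g) = g⁻¹ * (h⁻¹ * c * h) * g := by group
    rw [this, hh]
    have h2 : g⁻¹ * c ^ j * g = (g⁻¹ * c * g) ^ j := by
      have := conj_zpow (a := g⁻¹) (b := c) (i := j)
      rw [inv_inv] at this
      exact this.symm
    rw [h2, hg, ← zpow_mul]
  have h3 : (g * h)⁻¹ * c * (g * h) = (h * g)⁻¹ * c * (h * g) := h1.trans h1'.symm
  have h4 : c * (g * h * g⁻¹ * h⁻¹) = (g * h * g⁻¹ * h⁻¹) * c := by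
    have e1 : c * (g * h * g⁻¹ * h⁻¹) = (g * h) * ((g * h)⁻¹ * c * (g * h)) * (g⁻¹ * h⁻¹) := by group
    rw [e1, h3]
    group
  rw [commutatorElement_def]
  exact h4.symm

/-- the averaging argument -/
theorem avg_mem [Finite G] (R A N : Subgroup G) (hA : A ≤ normalizer (R : Set G)) (hRA : ⁅R, A⁆ = R)
    (hN : ⁅R, R⁆ ≤ N) {m : G} (hmR : m ∈ R) (hm : ∀ α ∈ A, α * m * α⁻¹ * m⁻¹ ∈ N) :
    m ^ Nat.card A ∈ N := by
  classical
  haveI := Fintype.ofFinite A
  have hc : ∀ (α : A) (y : R), (α : G) * y * (α : G)⁻¹ ∈ R :=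
    fun α y => conj_mem_of_mem_normalizer (hA α.2) y.2
  let cjj : A → R → R := fun α y => ⟨α * y * (α : G)⁻¹, hc α y⟩
  have cjj_mul : ∀ α (x y : R), cjj α (x * y) = cjj α x * cjj α y := by
    intro α x y
    apply Subtype.ext
    simp only [cjj, Subgroup.coe_mul]
    group
  have cjj_one : ∀ α, cjj α 1 = 1 := by
    intro α
    apply Subtype.ext
    simp [cjj]
  let F : R →* Abelianization R :=
    { toFun := fun y => ∏ α : A, Abelianization.of (cjj α y)
      map_one' := by simp [cjj_one]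
      map_mul' := by
        intro x y
        simp only [cjj_mul, map_mul]
        exact Finset.prod_mul_distrib }
  have hFdef : ∀ y, F y = ∏ α : A, Abelianization.of (cjj α y) := fun y => rfl
  have hinv : ∀ (β : A) (y : R), F (cjj β y) = F y := by
    intro β y
    rw [hFdef, hFdef]
    refine Fintype.prod_equiv (Equiv.mulRight β) _ _ (fun α => ?_)
    congr 1
    apply Subtype.ext
    simp only [cjj, Equiv.coe_mulRight, Subgroup.coe_mul]
    group
  have hF1 : ∀ y : R, F y = 1 := by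
    have h1 : ⁅R, A⁆ ≤ (F.ker).map R.subtype := by
      rw [Subgroup.commutator_le]
      intro x hx α hα
      refine ⟨⟨x, hx⟩ * cjj ⟨α, hα⟩ (⟨x, hx⟩⁻¹), ?_, ?_⟩
      · change _ ∈ F.ker
        rw [MonoidHom.mem_ker, map_mul, hinv, map_inv, mul_inv_cancel]
      · simp only [cjj, Subgroup.coe_subtype, Subgroup.coe_mul, Subgroup.coe_inv, commutatorElement_def]
        group
    intro y
    have h2 : (y : G) ∈ (F.ker).map R.subtype := h1 (by rw [hRA]; exact y.2)
    obtain ⟨y', hy', hyy⟩ := h2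
    have : y' = y := Subtype.ext hyy
    rw [← this]
    exact hy'
  -- evaluate at m
  let N' : Subgroup (Abelianization R) := (N.subgroupOf R).map Abelianization.of
  have h3 : ∀ α : A, Abelianization.of (cjj α ⟨m, hmR⟩) * (Abelianization.of (⟨m, hmR⟩ : R))⁻¹ ∈ N' := by
    intro α
    refine ⟨cjj α ⟨m, hmR⟩ * (⟨m, hmR⟩ : R)⁻¹, ?_, by rw [map_mul, map_inv]⟩
    change _ ∈ N.subgroupOf R
    rw [Subgroup.mem_subgroupOf]
    exact hm α α.2
  have h4 : (∏ α : A, (Abelianization.of (cjj α ⟨m, hmR⟩) * (Abelianization.of (⟨m, hmR⟩ : R))⁻¹)) ∈ N' :=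
    Subgroup.prod_mem _ (fun α _ => h3 α)
  rw [Finset.prod_mul_distrib, ← hFdef, hF1, one_mul, Finset.prod_const, Finset.card_univ,
    ← Nat.card_eq_fintype_card] at h4
  obtain ⟨n, hn, hn2⟩ := h4
  have h5 : Abelianization.of (n * (⟨m, hmR⟩ : R) ^ Nat.card A) = 1 := by
    rw [map_mul, hn2, map_pow, inv_pow, inv_mul_cancel]
  have h6 : n * (⟨m, hmR⟩ : R) ^ Nat.card A ∈ commutator R := by
    rw [← Abelianization.ker_of, MonoidHom.mem_ker]
    exact h5
  have h7 : ((n * (⟨m, hmR⟩ : R) ^ Nat.card A : R) : G) ∈ ⁅R, R⁆ := by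
    rw [← Subgroup.map_subtype_commutator]
    exact ⟨_, h6, rfl⟩
  have h8 := hN h7
  have h9 : (n : G) ∈ N := Subgroup.mem_subgroupOf.mp hn
  have h10 : m ^ Nat.card A = (n : G)⁻¹ * ((n * (⟨m, hmR⟩ : R) ^ Nat.card A : R) : G) := by
    simp
  rw [h10]
  exact N.mul_mem (N.inv_mem h9) h8

/-- hypotheses: commutators of `R` are powers of `c`, which is central in `R` of order divisible by `p` -/
structure CP (p : ℕ) (R : Subgroup G) (c : G) : Prop where
  comm : ∀ x ∈ R, ∀ y ∈ R, ∃ k : ℤ, ⁅x, y⁆ = c ^ k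
  cen : ∀ x ∈ R, x * c = c * x
  ord : p ∣ orderOf c

/-- the commutator form modulo `p` -/
noncomputable def om (p : ℕ) (c x y : G) : ZMod p := exq p c ⁅x, y⁆

namespace CP

variable {p : ℕ} {R : Subgroup G} {c : G}

theorem cenz (h : CP p R c) {x : G} (hx : x ∈ R) (k : ℤ) : x * c ^ k = c ^ k * x :=
  (Commute.zpow_right (h.cen x hx) k)

theorem om_mul_left (h : CP p R c) {x y z : G} (hx : x ∈ R) (hy : y ∈ R) (hz : z ∈ R) :
    om p c (x * y) z = om p c x z + om p c y z := by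
  obtain ⟨k, hk⟩ := h.comm x hx z hz
  obtain ⟨l, hl⟩ := h.comm y hy z hz
  have e : ⁅x * y, z⁆ = c ^ (k + l) := by
    have : ⁅x * y, z⁆ = x * ⁅y, z⁆ * x⁻¹ * ⁅x, z⁆ := by
      simp only [commutatorElement_def]; group
    rw [this, hk, hl, h.cenz hx l, zpow_add]
    group
  unfold om
  rw [e, hk, hl, exq_zpow h.ord, exq_zpow h.ord, exq_zpow h.ord]
  push_cast
  ring

theorem om_mul_right (h : CP p R c) {x y z : G} (hx : x ∈ R) (hy : y ∈ R) (hz : z ∈ R) :
    om p c x (y * z) = om p c x y + om p c x z := by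
  obtain ⟨k, hk⟩ := h.comm x hx y hy
  obtain ⟨l, hl⟩ := h.comm x hx z hz
  have e : ⁅x, y * z⁆ = c ^ (k + l) := by
    have : ⁅x, y * z⁆ = ⁅x, y⁆ * (y * ⁅x, z⁆) * y⁻¹ := by
      simp only [commutatorElement_def]; group
    rw [this, hk, hl, h.cenz hy l, zpow_add]
    group
  unfold om
  rw [e, hk, hl, exq_zpow h.ord, exq_zpow h.ord, exq_zpow h.ord]
  push_cast
  ring

theorem om_of_comm (h : CP p R c) {x y : G} (hxy : x * y = y * x) : om p c x y = 0 := by
  have e : ⁅x, y⁆ = c ^ (0 : ℤ) := by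
    rw [zpow_zero, commutatorElement_eq_one_iff_mul_comm]
    exact hxy
  unfold om
  rw [e, exq_zpow h.ord]
  simp

theorem om_swap (h : CP p R c) {x y : G} (hx : x ∈ R) (hy : y ∈ R) : om p c y x = - om p c x y := by
  obtain ⟨k, hk⟩ := h.comm x hx y hy
  have e : ⁅y, x⁆ = c ^ (-k) := by
    rw [zpow_neg, ← hk, commutatorElement_inv]
  unfold om
  rw [e, hk, exq_zpow h.ord, exq_zpow h.ord]
  push_cast
  ring

theorem om_inv_left (h : CP p R c) {x z : G} (hx : x ∈ R) (hz : z ∈ R) :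
    om p c x⁻¹ z = - om p c x z := by
  have h1 := h.om_mul_left hx (R.inv_mem hx) hz
  rw [mul_inv_cancel, h.om_of_comm (by simp)] at h1
  linear_combination -h1

theorem om_pow_left (h : CP p R c) {x z : G} (hx : x ∈ R) (hz : z ∈ R) (n : ℕ) :
    om p c (x ^ n) z = n * om p c x z := by
  induction n with
  | zero => rw [pow_zero, h.om_of_comm (by simp)]; simp
  | succ n ih =>
    rw [pow_succ, h.om_mul_left (R.pow_mem hx n) hx hz, ih]
    push_cast
    ring

theorem om_zpow_left (h : CP p R c) {x z : G} (hx : x ∈ R) (hz : z ∈ R) (n : ℤ) :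
    om p c (x ^ n) z = n * om p c x z := by
  obtain ⟨k, rfl | rfl⟩ := n.eq_nat_or_neg
  · rw [zpow_natCast, h.om_pow_left hx hz]; simp
  · rw [zpow_neg, zpow_natCast, h.om_inv_left (R.pow_mem hx k) hz, h.om_pow_left hx hz]
    push_cast
    ring

theorem om_conj (h : CP p R c) {x y α : G} {l : ℤ} (hx : x ∈ R) (hy : y ∈ R) (hα : α * c * α⁻¹ = c ^ l) :
    om p c (α * x * α⁻¹) (α * y * α⁻¹) = l * om p c x y := by
  obtain ⟨k, hk⟩ := h.comm x hx y hy
  have e : ⁅α * x * α⁻¹, α * y * α⁻¹⁆ = c ^ (l * k) := by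
    have : ⁅α * x * α⁻¹, α * y * α⁻¹⁆ = α * ⁅x, y⁆ * α⁻¹ := by
      simp only [commutatorElement_def]; group
    rw [this, hk, ← conj_zpow, hα, ← zpow_mul]
  unfold om
  rw [e, hk, exq_zpow h.ord, exq_zpow h.ord]
  push_cast
  ring

end CP

end Cfsg.Agent.Lib.Helper1
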