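import Mathlib
import Cfsg.Agent.Lib.Helper1.Meta1
import Cfsg.Agent.Lib.Helper20.Metacyclic4

set_option autoImplicit false

/-! Coprime action on metacyclic `p`-groups: the core lemma. -/

namespace Cfsg.Agent.Lib.Helper1

open Subgroup Cfsg
open scoped commutatorElement

variable {G : Type*} [Group G]

theorem CP.om_inv_right {p : ℕ} {R : Subgroup G} {c : G} (h : CP p R c) {x z : G} (hx : x ∈ R) (hz : z ∈ R) :
    om p c x z⁻¹ = - om p c x z := by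
  rw [h.om_swap (R.inv_mem hz) hx, h.om_inv_left hz hx, h.om_swap hz hx]

theorem CP.om_pow_right {p : ℕ} {R : Subgroup G} {c : G} (h : CP p R c) {x z : G} (hx : x ∈ R) (hz : z ∈ R)
    (n : ℕ) : om p c x (z ^ n) = n * om p c x z := by
  rw [h.om_swap (R.pow_mem hz n) hx, h.om_pow_left hz hx, h.om_swap hx hz]
  ring

theorem dvd_choose_two_of_dvd {p : ℕ} (hpp : p.Prime) (hp : p ≠ 2) {n : ℕ} (hn : p ∣ n) : p ∣ n.choose 2 := by
  have h2 : 2 * n.choose 2 = n * (n - 1) := by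
    rw [Nat.choose_two_right]
    exact Nat.mul_div_cancel' (Nat.even_mul_pred_self n).two_dvd
  have h3 : p ∣ 2 * n.choose 2 := h2 ▸ Dvd.dvd.mul_right hn _
  have h4 : Nat.Coprime p 2 := (Nat.coprime_primes hpp Nat.prime_two).mpr hp
  exact h4.dvd_of_dvd_mul_left h3

set_option maxHeartbeats 1600000 in
theorem meta_core_aux [Finite G] {p : ℕ} [hpf : Fact p.Prime] (hp : p ≠ 2) (R A : Subgroup G)
    (hR : IsPGroup p R) (hA : A ≤ normalizer (R : Set G)) (hcop : (Nat.card A).Coprime p)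
    (hRA : ⁅R, A⁆ = R) {a b c : G} (ha : a ∈ R) (hb : b ∈ R)
    (hgen : ∀ y ∈ R, ∃ u v : ℕ, y = a ^ u * b ^ v) (hc : c = ⁅b, a⁆) (h : CP p R c)
    (hAc : ∀ α ∈ A, ∃ l : ℤ, α * c * α⁻¹ = c ^ l) : False := by
  have hpp := hpf.out
  have hcR : c ∈ R := by
    rw [hc, commutatorElement_def]
    exact R.mul_mem (R.mul_mem (R.mul_mem hb ha) (R.inv_mem hb)) (R.inv_mem ha)
  obtain ⟨K, hK⟩ : ∃ K : Subgroup G, K = zpowers (c ^ p) := ⟨_, rfl⟩
  have hKc : ∀ κ ∈ K, ∃ j : ℤ, κ = c ^ ((p : ℤ) * j) := by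
    intro κ hκ
    rw [hK] at hκ
    obtain ⟨j, hj⟩ := hκ
    refine ⟨j, ?_⟩
    rw [← hj, zpow_mul, zpow_natCast]
  have hcK' : ∀ j : ℤ, c ^ ((p : ℤ) * j) ∈ K := by
    intro j
    rw [hK, zpow_mul, zpow_natCast]
    exact zpow_mem (mem_zpowers _) j
  have hKR : ∀ κ ∈ K, κ ∈ R := by
    intro κ hκ
    obtain ⟨j, rfl⟩ := hKc κ hκ
    exact R.zpow_mem hcR _
  have hKcen : ∀ κ ∈ K, ∀ x ∈ R, x * κ = κ * x := by
    intro κ hκ x hx
    obtain ⟨j, rfl⟩ := hKc κ hκ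
    exact h.cenz hx _
  have hKpow : ∀ w : G, (∃ k : ℤ, w = c ^ k) → ∀ n : ℕ, p ∣ n → w ^ n ∈ K := by
    rintro w ⟨k, rfl⟩ n ⟨n', rfl⟩
    have : (c ^ k) ^ (p * n') = c ^ ((p : ℤ) * (n' * k)) := by
      rw [← zpow_natCast, ← zpow_mul]
      congr 1
      push_cast
      ring
    rw [this]
    exact hcK' _
  have hex1 : exq p c c = 1 := by
    have := exq_zpow h.ord (1 : ℤ)
    rw [zpow_one] at this
    rw [this]; simp
  have hcK : c ∉ K := by
    intro hcon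
    obtain ⟨j, hj⟩ := hKc c hcon
    have h1 := exq_zpow h.ord ((p : ℤ) * j)
    rw [← hj, hex1] at h1
    push_cast at h1
    simp at h1
  have hKA : ∀ α ∈ A, ∀ κ ∈ K, α * κ * α⁻¹ ∈ K := by
    intro α hα κ hκ
    obtain ⟨j, rfl⟩ := hKc κ hκ
    obtain ⟨l, hl⟩ := hAc α hα
    rw [← conj_zpow, hl, ← zpow_mul]
    have : l * ((p : ℤ) * j) = (p : ℤ) * (l * j) := by ring
    rw [this]
    exact hcK' _
  -- the form in coordinates
  have hba : om p c b a = 1 := by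
    unfold om
    rw [← hc, hex1]
  have hab : om p c a b = -1 := by rw [h.om_swap hb ha, hba]
  have hfa : ∀ u v : ℕ, om p c (a ^ u * b ^ v) a = v := by
    intro u v
    rw [h.om_mul_left (R.pow_mem ha u) (R.pow_mem hb v) ha, h.om_pow_left ha ha, h.om_pow_left hb ha, hba,
      h.om_of_comm (rfl : a * a = a * a)]
    ring
  have hgb : ∀ u v : ℕ, om p c (a ^ u * b ^ v) b = -u := by
    intro u v
    rw [h.om_mul_left (R.pow_mem ha u) (R.pow_mem hb v) hb, h.om_pow_left ha hb, h.om_pow_left hb hb, hab,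
      h.om_of_comm (rfl : b * b = b * b)]
    ring
  have W10 : ∀ y ∈ R, ∀ m ∈ R, om p c y m = - (om p c m b) * (om p c y a) + (om p c m a) * (om p c y b) := by
    intro y hy m hm
    obtain ⟨m₁, m₂, rfl⟩ := hgen m hm
    rw [hfa, hgb, h.om_mul_right hy (R.pow_mem ha m₁) (R.pow_mem hb m₂), h.om_pow_right hy ha,
      h.om_pow_right hy hb]
    ring
  -- power structure
  have P1 : ∀ n : ℕ, p ∣ n.choose 2 → ∀ v ∈ R, ∀ g ∈ R, ∃ κ ∈ K, (v * g) ^ n = κ * v ^ n * g ^ n := by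
    intro n hn v hv g hg
    obtain ⟨k, hk⟩ := h.comm g hg v hv
    have h1 := mul_pow_of_chain (g := g) (v := v) (w := ⁅g, v⁆)
      (by rw [commutatorElement_def]; group) (by rw [hk]; exact h.cenz hg k) (by rw [hk]; exact h.cenz hv k) n
    exact ⟨_, hKpow _ ⟨k, hk⟩ _ hn, h1⟩
  have hchq : ∀ i : ℕ, p ∣ (p ^ i).choose 2 := by
    intro i
    rcases i with _ | i
    · simp
    · exact dvd_choose_two_of_dvd hpp hp (dvd_pow_self p (Nat.succ_ne_zero i))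
  have P2 : ∀ z ∈ R, om p c z a = 0 → om p c z b = 0 → ∃ w ∈ R, ∃ κ ∈ K, z = κ * w ^ p := by
    intro z hz h1 h2
    obtain ⟨u, v, rfl⟩ := hgen z hz
    rw [hfa, ZMod.natCast_eq_zero_iff] at h1
    rw [hgb, neg_eq_zero, ZMod.natCast_eq_zero_iff] at h2
    obtain ⟨u', rfl⟩ := h2
    obtain ⟨v', rfl⟩ := h1
    obtain ⟨κ, hκ, hpw⟩ := P1 p (dvd_choose_two_of_dvd hpp hp dvd_rfl) (a ^ u') (R.pow_mem ha u') (b ^ v')
      (R.pow_mem hb v')
    refine ⟨a ^ u' * b ^ v', R.mul_mem (R.pow_mem ha u') (R.pow_mem hb v'), κ⁻¹, K.inv_mem hκ, ?_⟩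
    rw [hpw, pow_mul' a, pow_mul' b]
    group
  obtain ⟨Pr, hPr⟩ : ∃ Pr : ℕ → Prop, Pr = fun i => ∃ x ∈ R, ∃ κ ∈ K, x ^ (p ^ i) = κ * c := ⟨_, rfl⟩
  have hPr0 : Pr 0 := by
    rw [hPr]
    exact ⟨c, hcR, 1, K.one_mem, by simp⟩
  have hPrN : ∃ N, ¬ Pr N := by
    obtain ⟨N, hN⟩ := hR.exists_card_eq
    refine ⟨N, ?_⟩
    rw [hPr]
    rintro ⟨x, hx, κ, hκ, hxk⟩
    have h1 : x ^ (p ^ N) = 1 := by
      have h2 : (⟨x, hx⟩ : R) ^ Nat.card R = 1 := pow_card_eq_one'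
      rw [hN] at h2
      have := congrArg Subtype.val h2
      simpa using this
    rw [h1] at hxk
    apply hcK
    have : c = κ⁻¹ := eq_inv_of_mul_eq_one_right hxk.symm
    rw [this]
    exact K.inv_mem hκ
  obtain ⟨i, hi, hi'⟩ : ∃ i, Pr i ∧ ¬ Pr (i + 1) := by
    by_contra hcon
    push Not at hcon
    obtain ⟨N, hN⟩ := hPrN
    apply hN
    induction N with
    | zero => exact hPr0
    | succ n ih =>
      by_cases hn : Pr n
      · exact hcon n hn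
      · exact absurd (ih hn) hn
  rw [hPr] at hi hi'
  obtain ⟨x₀, hx₀, κ₀, hκ₀, hx₀q⟩ := hi
  obtain ⟨q, hq⟩ : ∃ q : ℕ, q = p ^ i := ⟨_, rfl⟩
  rw [← hq] at hx₀q
  have hqch : p ∣ q.choose 2 := hq ▸ hchq i
  have P4 : ∀ z ∈ R, om p c z a = 0 → om p c z b = 0 → ∀ m ∈ R, m ^ q ∈ K → x₀ ≠ z * m := by
    intro z hz h1 h2 m hm hmq heq
    apply hi'
    obtain ⟨w, hw, κ₂, hκ₂, hzw⟩ := P2 z hz h1 h2
    obtain ⟨κ, hκ, hpw⟩ := P1 q hqch z hz m hm
    have hcm : Commute κ₂ (w ^ p) := (hKcen κ₂ hκ₂ (w ^ p) (R.pow_mem hw p)).symm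
    have hzq : z ^ q = κ₂ ^ q * w ^ (p ^ (i + 1)) := by
      rw [hzw, hcm.mul_pow, ← pow_mul, pow_succ', hq]
    refine ⟨w, hw, (κ * κ₂ ^ q)⁻¹ * κ₀ * (m ^ q)⁻¹,
      K.mul_mem (K.mul_mem (K.inv_mem (K.mul_mem hκ (K.pow_mem hκ₂ q))) hκ₀) (K.inv_mem hmq), ?_⟩
    have e1 : κ₀ * c = κ * (κ₂ ^ q * w ^ (p ^ (i + 1))) * m ^ q := by rw [← hx₀q, heq, hpw, hzq]
    have e2 : c * (m ^ q)⁻¹ = (m ^ q)⁻¹ * c := hKcen _ (K.inv_mem hmq) c hcR
    calc w ^ (p ^ (i + 1))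
        = (κ * κ₂ ^ q)⁻¹ * (κ * (κ₂ ^ q * w ^ (p ^ (i + 1))) * m ^ q) * (m ^ q)⁻¹ := by group
      _ = (κ * κ₂ ^ q)⁻¹ * (κ₀ * c) * (m ^ q)⁻¹ := by rw [e1]
      _ = (κ * κ₂ ^ q)⁻¹ * κ₀ * (c * (m ^ q)⁻¹) := by group
      _ = (κ * κ₂ ^ q)⁻¹ * κ₀ * (m ^ q)⁻¹ * c := by rw [e2]; group
  have hAR : ∀ α ∈ A, ∀ y ∈ R, α * y * α⁻¹ ∈ R := fun α hα y hy => conj_mem_of_mem_normalizer (hA hα) hy
  have P5 : ∀ α ∈ A, ∀ l : ℤ, α * c * α⁻¹ = c ^ l → (α * x₀ * α⁻¹ * (x₀ ^ l)⁻¹) ^ q ∈ K := by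
    intro α hα l hl
    obtain ⟨κ, hκ, hpw⟩ := P1 q hqch (α * x₀ * α⁻¹) (hAR α hα x₀ hx₀) ((x₀ ^ l)⁻¹)
      (R.inv_mem (R.zpow_mem hx₀ l))
    have e1 : (α * x₀ * α⁻¹) ^ q = (α * κ₀ * α⁻¹) * c ^ l := by
      rw [conj_pow, hx₀q, ← hl]; group
    have hcm : Commute κ₀ c := (hKcen κ₀ hκ₀ c hcR).symm
    have e2 : ((x₀ ^ l)⁻¹) ^ q = (κ₀ ^ l * c ^ l)⁻¹ := by
      rw [inv_pow, ← zpow_natCast (x₀ ^ l), ← zpow_mul, mul_comm, zpow_mul, zpow_natCast, hx₀q, hcm.mul_zpow]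
    rw [hpw, e1, e2]
    have e3 : κ * (α * κ₀ * α⁻¹ * c ^ l) * (κ₀ ^ l * c ^ l)⁻¹ = κ * (α * κ₀ * α⁻¹) * (κ₀ ^ l)⁻¹ := by group
    rw [e3]
    exact K.mul_mem (K.mul_mem hκ (hKA α hα κ₀ hκ₀)) (K.inv_mem (K.zpow_mem hκ₀ l))
  have hlam : ∀ α ∈ A, ∀ l : ℤ, α * c * α⁻¹ = c ^ l → (l : ZMod p) ≠ 0 := by
    intro α hα l hl hl0
    obtain ⟨l', hl'⟩ := hAc α⁻¹ (A.inv_mem hα)
    rw [inv_inv] at hl'
    have e1 : c = c ^ (l' * l) := by
      calc c = α⁻¹ * (α * c * α⁻¹) * α := by group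
        _ = α⁻¹ * c ^ l * α := by rw [hl]
        _ = (α⁻¹ * c * α) ^ l := by
            have := conj_zpow (a := α⁻¹) (b := c) (i := l)
            rw [inv_inv] at this
            exact this.symm
        _ = c ^ (l' * l) := by rw [hl', ← zpow_mul]
    have e2 := exq_zpow h.ord (l' * l)
    rw [← e1, hex1] at e2
    push_cast at e2
    rw [hl0, mul_zero] at e2
    exact one_ne_zero e2
  have I2 : ∀ α ∈ A, ∀ y ∈ R, (∀ m' ∈ R, m' ^ q ∈ K → om p c m' (α * y * α⁻¹) = 0) →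
      om p c x₀ (α * y * α⁻¹) = om p c x₀ y := by
    intro α hα y hy hyp
    obtain ⟨l, hl⟩ := hAc α hα
    have h1 := h.om_conj hx₀ hy hl
    have hmR : α * x₀ * α⁻¹ * (x₀ ^ l)⁻¹ ∈ R := R.mul_mem (hAR α hα x₀ hx₀) (R.inv_mem (R.zpow_mem hx₀ l))
    have h2 : α * x₀ * α⁻¹ = (α * x₀ * α⁻¹ * (x₀ ^ l)⁻¹) * x₀ ^ l := by group
    rw [h2, h.om_mul_left hmR (R.zpow_mem hx₀ l) (hAR α hα y hy), hyp _ hmR (P5 α hα l hl), zero_add,
      h.om_zpow_left hx₀ (hAR α hα y hy)] at h1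
    exact mul_left_cancel₀ (hlam α hα l hl) h1
  have hM0pow : ∀ m ∈ R, m ^ q ∈ K → ∀ j : ℕ, (m ^ j) ^ q ∈ K := by
    intro m _ hmq j
    rw [← pow_mul, mul_comm, pow_mul]
    exact K.pow_mem hmq j
  have hM0mul : ∀ m ∈ R, m ^ q ∈ K → ∀ m' ∈ R, m' ^ q ∈ K → (m * m') ^ q ∈ K := by
    intro m hm hmq m' hm' hmq'
    obtain ⟨κ, hκ, hpw⟩ := P1 q hqch m hm m' hm'
    rw [hpw]
    exact K.mul_mem (K.mul_mem hκ hmq) hmq'
  have hB : ∀ m' ∈ R, m' ^ q ∈ K → ∀ m'' ∈ R, m'' ^ q ∈ K → om p c m' m'' = 0 := by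
    intro m' hm' hmq' m'' hm'' hmq''
    by_contra hne
    rw [W10 m' hm' m'' hm''] at hne
    have hdet : om p c m' a * om p c m'' b - om p c m'' a * om p c m' b ≠ 0 := by
      intro h0
      apply hne
      linear_combination -h0
    obtain ⟨s, hs⟩ : ∃ s : ZMod p, s = (om p c x₀ a * om p c m'' b - om p c m'' a * om p c x₀ b) /
      (om p c m' a * om p c m'' b - om p c m'' a * om p c m' b) := ⟨_, rfl⟩
    obtain ⟨t, ht⟩ : ∃ t : ZMod p, t = (om p c m' a * om p c x₀ b - om p c x₀ a * om p c m' b) /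
      (om p c m' a * om p c m'' b - om p c m'' a * om p c m' b) := ⟨_, rfl⟩
    have hsD : s * (om p c m' a * om p c m'' b - om p c m'' a * om p c m' b) =
        om p c x₀ a * om p c m'' b - om p c m'' a * om p c x₀ b := by
      rw [hs]; exact div_mul_cancel₀ _ hdet
    have htD : t * (om p c m' a * om p c m'' b - om p c m'' a * om p c m' b) =
        om p c m' a * om p c x₀ b - om p c x₀ a * om p c m' b := by
      rw [ht]; exact div_mul_cancel₀ _ hdet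
    have hmm : m' ^ s.val * m'' ^ t.val ∈ R := R.mul_mem (R.pow_mem hm' _) (R.pow_mem hm'' _)
    have hz : x₀ * (m' ^ s.val * m'' ^ t.val)⁻¹ ∈ R := R.mul_mem hx₀ (R.inv_mem hmm)
    have key : ∀ e ∈ R, om p c (x₀ * (m' ^ s.val * m'' ^ t.val)⁻¹) e =
        om p c x₀ e - (s * om p c m' e + t * om p c m'' e) := by
      intro e he
      rw [h.om_mul_left hx₀ (R.inv_mem hmm) he, h.om_inv_left hmm he,
        h.om_mul_left (R.pow_mem hm' _) (R.pow_mem hm'' _) he, h.om_pow_left hm' he, h.om_pow_left hm'' he,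
        ZMod.natCast_zmod_val, ZMod.natCast_zmod_val]
      ring
    refine P4 _ hz ?_ ?_ _ hmm (hM0mul _ (R.pow_mem hm' _) (hM0pow m' hm' hmq' _) _ (R.pow_mem hm'' _)
      (hM0pow m'' hm'' hmq'' _)) (by group)
    · rw [key a ha]
      refine (mul_eq_zero.mp (?_ : (om p c m' a * om p c m'' b - om p c m'' a * om p c m' b) * _ = 0)).resolve_left hdet
      linear_combination (-(om p c m' a)) * hsD + (-(om p c m'' a)) * htD
    · rw [key b hb]
      refine (mul_eq_zero.mp (?_ : (om p c m' a * om p c m'' b - om p c m'' a * om p c m' b) * _ = 0)).resolve_left hdet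
      linear_combination (-(om p c m' b)) * hsD + (-(om p c m'' b)) * htD
  -- elements of `M₀` orthogonal to `x₀` are in `Z₁`
  have hA' : ∀ m ∈ R, m ^ q ∈ K → om p c x₀ m = 0 → om p c m a = 0 ∧ om p c m b = 0 := by
    intro m hm hmq h0
    by_contra hne
    rw [W10 x₀ hx₀ m hm] at h0
    obtain ⟨t, ht1, ht2⟩ : ∃ t : ZMod p, om p c x₀ a = t * om p c m a ∧ om p c x₀ b = t * om p c m b := by
      by_cases hfa0 : om p c m a = 0
      · have hgb0 : om p c m b ≠ 0 := fun h' => hne ⟨hfa0, h'⟩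
        refine ⟨om p c x₀ b / om p c m b, ?_, (div_mul_cancel₀ _ hgb0).symm⟩
        rw [hfa0, mul_zero]
        rw [hfa0, zero_mul, add_zero] at h0
        rcases mul_eq_zero.mp h0 with h1 | h1
        · exact absurd (neg_eq_zero.mp h1) hgb0
        · exact h1
      · refine ⟨om p c x₀ a / om p c m a, (div_mul_cancel₀ _ hfa0).symm, ?_⟩
        have e : om p c x₀ a / om p c m a * om p c m a = om p c x₀ a := div_mul_cancel₀ _ hfa0
        refine mul_left_cancel₀ hfa0 ?_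
        linear_combination h0 - (om p c m b) * e
    have hz : x₀ * (m ^ t.val)⁻¹ ∈ R := R.mul_mem hx₀ (R.inv_mem (R.pow_mem hm _))
    have key : ∀ e ∈ R, om p c (x₀ * (m ^ t.val)⁻¹) e = om p c x₀ e - t * om p c m e := by
      intro e he
      rw [h.om_mul_left hx₀ (R.inv_mem (R.pow_mem hm _)) he, h.om_inv_left (R.pow_mem hm _) he,
        h.om_pow_left hm he, ZMod.natCast_zmod_val]
      ring
    refine P4 _ hz ?_ ?_ _ (R.pow_mem hm t.val) (hM0pow m hm hmq _) (by group)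
    · rw [key a ha, ht1]; ring
    · rw [key b hb, ht2]; ring
  by_cases hcase : ∀ m ∈ R, m ^ q ∈ K → om p c m a = 0 ∧ om p c m b = 0
  · -- Case 1
    let Y : Subgroup G :=
      { carrier := {y | y ∈ R ∧ om p c x₀ y = 0}
        mul_mem' := by
          rintro y z ⟨hy, hy0⟩ ⟨hz, hz0⟩
          exact ⟨R.mul_mem hy hz, by rw [h.om_mul_right hx₀ hy hz, hy0, hz0, add_zero]⟩
        one_mem' := ⟨R.one_mem, h.om_of_comm (by simp)⟩
        inv_mem' := by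
          rintro y ⟨hy, hy0⟩
          exact ⟨R.inv_mem hy, by rw [h.om_inv_right hx₀ hy, hy0, neg_zero]⟩ }
    have hY : ⁅R, A⁆ ≤ Y := by
      rw [Subgroup.commutator_le]
      intro y hy α hα
      have e : ⁅y, α⁆ = y * (α * y⁻¹ * α⁻¹) := by rw [commutatorElement_def]; group
      have hyi := R.inv_mem hy
      refine ⟨by rw [e]; exact R.mul_mem hy (hAR α hα _ hyi), ?_⟩
      rw [e, h.om_mul_right hx₀ hy (hAR α hα _ hyi), I2 α hα _ hyi, h.om_inv_right hx₀ hy, add_neg_cancel]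
      intro m' hm' hmq'
      obtain ⟨h1, h2⟩ := hcase m' hm' hmq'
      rw [W10 m' hm' _ (hAR α hα _ hyi), h1, h2]
      ring
    rw [hRA] at hY
    have h1 : om p c x₀ a = 0 := (hY ha).2
    have h2 : om p c x₀ b = 0 := (hY hb).2
    exact P4 x₀ hx₀ h1 h2 1 R.one_mem (by rw [one_pow]; exact K.one_mem) (by simp)
  · -- Case 2
    push Not at hcase
    obtain ⟨m, hm, hmq, hmne⟩ := hcase
    let Z₁ : Subgroup G :=
      { carrier := {y | y ∈ R ∧ om p c y a = 0 ∧ om p c y b = 0}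
        mul_mem' := by
          rintro y z ⟨hy, hy0, hy1⟩ ⟨hz, hz0, hz1⟩
          exact ⟨R.mul_mem hy hz, by rw [h.om_mul_left hy hz ha, hy0, hz0, add_zero],
            by rw [h.om_mul_left hy hz hb, hy1, hz1, add_zero]⟩
        one_mem' := ⟨R.one_mem, h.om_of_comm (by simp), h.om_of_comm (by simp)⟩
        inv_mem' := by
          rintro y ⟨hy, hy0, hy1⟩
          exact ⟨R.inv_mem hy, by rw [h.om_inv_left hy ha, hy0, neg_zero],
            by rw [h.om_inv_left hy hb, hy1, neg_zero]⟩ }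
    have hRZ : ⁅R, R⁆ ≤ Z₁ := by
      rw [Subgroup.commutator_le]
      intro x hx y hy
      obtain ⟨k, hk⟩ := h.comm x hx y hy
      rw [hk]
      exact ⟨R.zpow_mem hcR k, h.om_of_comm (h.cenz ha k).symm, h.om_of_comm (h.cenz hb k).symm⟩
    have hn : ∀ α ∈ A, α * m * α⁻¹ * m⁻¹ ∈ Z₁ := by
      intro α hα
      have hcm : α * m * α⁻¹ ∈ R := hAR α hα m hm
      have hcmq : (α * m * α⁻¹) ^ q ∈ K := by
        rw [conj_pow]; exact hKA α hα _ hmq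
      have hmi : m⁻¹ ∈ R := R.inv_mem hm
      have hmiq : (m⁻¹) ^ q ∈ K := by rw [inv_pow]; exact K.inv_mem hmq
      have h0 : om p c x₀ (α * m * α⁻¹ * m⁻¹) = 0 := by
        rw [h.om_mul_right hx₀ hcm hmi, I2 α hα m hm (fun m' hm' hmq' => hB m' hm' hmq' _ hcm hcmq),
          h.om_inv_right hx₀ hm, add_neg_cancel]
      obtain ⟨h1, h2⟩ := hA' _ (R.mul_mem hcm hmi) (hM0mul _ hcm hcmq _ hmi hmiq) h0
      exact ⟨R.mul_mem hcm hmi, h1, h2⟩
    obtain ⟨-, h1, h2⟩ := avg_mem R A Z₁ hA hRA hRZ hm hn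
    rw [h.om_pow_left hm ha] at h1
    rw [h.om_pow_left hm hb] at h2
    have hA0 : ((Nat.card A : ℕ) : ZMod p) ≠ 0 := by
      rw [Ne, ZMod.natCast_eq_zero_iff]
      intro hdvd
      exact (hpp.coprime_iff_not_dvd.mp hcop.symm) hdvd
    exact hmne ((mul_eq_zero.mp h1).resolve_left hA0) ((mul_eq_zero.mp h2).resolve_left hA0)

open Cfsg.Agent.Lib.Helper20 in
theorem meta_core [Finite G] {p : ℕ} [hpf : Fact p.Prime] (hp : p ≠ 2) (R A : Subgroup G)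
    (hR : IsPGroup p R) (hRm : Cfsg.IsMetacyclic R) (hA : A ≤ normalizer (R : Set G))
    (hcop : (Nat.card A).Coprime p) (hRA : ⁅R, A⁆ = R) : ∀ x ∈ R, ∀ y ∈ R, x * y = y * x := by
  have hpp := hpf.out
  obtain ⟨D⟩ := exists_MC hR hRm
  obtain ⟨a, haD⟩ : ∃ a : G, a = D.a := ⟨_, rfl⟩
  obtain ⟨b, hbD⟩ : ∃ b : G, b = D.b := ⟨_, rfl⟩
  obtain ⟨c, hcD⟩ : ∃ c : G, c = D.c := ⟨_, rfl⟩
  have ha : a ∈ R := haD ▸ D.a.2
  have hb : b ∈ R := hbD ▸ D.b.2
  have hcR : c ∈ R := hcD ▸ D.c.2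
  have hcomm : ∀ x ∈ R, ∀ y ∈ R, ∃ k : ℤ, ⁅x, y⁆ = c ^ k := by
    intro x hx y hy
    have h1 : ⁅(⟨x, hx⟩ : R), ⟨y, hy⟩⁆ ∈ commutator R :=
      Subgroup.commutator_mem_commutator (mem_top _) (mem_top _)
    rw [D.commutator_eq] at h1
    obtain ⟨k, hk⟩ := h1
    refine ⟨k, ?_⟩
    have := congrArg Subtype.val hk
    rw [hcD]
    simpa [commutatorElement_def] using this.symm
  have hc : c = ⁅b, a⁆ := by
    have := congrArg Subtype.val D.c_eq
    rw [hcD, haD, hbD, commutatorElement_def]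
    simpa using this
  have hgen : ∀ y ∈ R, ∃ u v : ℕ, y = a ^ u * b ^ v := by
    intro y hy
    obtain ⟨u, v, huv⟩ := D.hgen ⟨y, hy⟩
    refine ⟨u, v, ?_⟩
    have := congrArg Subtype.val huv
    rw [haD, hbD]
    simpa using this
  by_cases hc1 : c = 1
  · intro x hx y hy
    obtain ⟨k, hk⟩ := hcomm x hx y hy
    rw [hc1, one_zpow] at hk
    exact commutatorElement_eq_one_iff_mul_comm.mp hk
  exfalso
  have hnorm : ∀ g, g ∈ normalizer (R : Set G) → ∃ l : ℤ, g * c * g⁻¹ = c ^ l := by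
    intro g hg
    have : g * c * g⁻¹ = ⁅g * b * g⁻¹, g * a * g⁻¹⁆ := by
      rw [hc]; simp only [commutatorElement_def]; group
    rw [this]
    exact hcomm _ (conj_mem_of_mem_normalizer hg hb) _ (conj_mem_of_mem_normalizer hg ha)
  have hcen : ∀ x ∈ R, x * c = c * x := by
    have h1 : ⁅R, A⁆ ≤ centralizer ({c} : Set G) := by
      rw [Subgroup.commutator_le]
      intro x hx α hα
      obtain ⟨i, hi⟩ := hnorm x⁻¹ (inv_mem (le_normalizer hx))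
      obtain ⟨j, hj⟩ := hnorm α⁻¹ (inv_mem (hA hα))
      rw [inv_inv] at hi hj
      rw [mem_centralizer_singleton_iff]
      exact comm_centralizes_of_zpow hi hj
    rw [hRA] at h1
    intro x hx
    have := h1 hx
    rw [mem_centralizer_singleton_iff] at this
    exact this
  have hord : p ∣ orderOf c := by
    obtain ⟨k, hk⟩ := hR ⟨c, hcR⟩
    have hk' : c ^ (p ^ k) = 1 := by
      have := congrArg Subtype.val hk
      simpa using this
    obtain ⟨j, -, hj⟩ := (Nat.dvd_prime_pow hpp).1 (orderOf_dvd_of_pow_eq_one hk')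
    rcases j with _ | j
    · exfalso; apply hc1
      rw [pow_zero, orderOf_eq_one_iff] at hj; exact hj
    · rw [hj]; exact dvd_pow_self p (by omega)
  exact meta_core_aux hp R A hR hA hcop hRA ha hb hgen hc ⟨hcomm, hcen, hord⟩
    (fun α hα => hnorm α (hA hα))

end Cfsg.Agent.Lib.Helper1
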