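import Mathlib
import Cfsg.Agent.Lib.Helper1.Meta2
import Cfsg.Agent.Lib.Helper1.Nilp
import Cfsg.Agent.Lib.Helper26.GrpMeta
import Cfsg.Agent.S0638

set_option autoImplicit false

/-! Coprime action on metacyclic `p`-groups: the main theorem. -/

namespace Cfsg.Agent.Lib.Helper1

open Subgroup Cfsg
open scoped commutatorElement

theorem isMetacyclic_of_injective {H : Type*} {R : Type*} [Group H] [Group R] (φ : H →* R)
    (hφ : Function.Injective φ) (hmc : Cfsg.IsMetacyclic R) : Cfsg.IsMetacyclic H := by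
  obtain ⟨N, hN, hNc, hQc⟩ := hmc
  refine ⟨N.comap φ, inferInstance, ?_, ?_⟩
  · let f : ↥(N.comap φ) →* ↥N :=
      { toFun := fun x => ⟨φ x, x.2⟩
        map_one' := Subtype.ext (map_one φ)
        map_mul' := fun x y => Subtype.ext (map_mul φ (x : H) (y : H)) }
    apply isCyclic_of_injective f
    intro x y h
    apply Subtype.ext
    apply hφ
    exact congrArg Subtype.val h
  · let ψ := QuotientGroup.map (N.comap φ) N φ (fun x hx => hx)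
    apply isCyclic_of_injective ψ
    rw [injective_iff_map_eq_one]
    intro a ha
    obtain ⟨a, rfl⟩ := QuotientGroup.mk_surjective a
    rw [QuotientGroup.eq_one_iff]
    have h1 : ψ (QuotientGroup.mk a) = QuotientGroup.mk (φ a) := rfl
    rw [h1, QuotientGroup.eq_one_iff] at ha
    exact ha

variable {G : Type*} [Group G]

theorem meta_cyclic_of_disjoint [Finite G] {p : ℕ} [hpf : Fact p.Prime] (hp : p ≠ 2) (R H₁ H₂ : Subgroup G)
    (hR : IsPGroup p R) (hRm : Cfsg.IsMetacyclic R) (h1 : H₁ ≤ R) (h2 : H₂ ≤ R) (hd : H₁ ⊓ H₂ = ⊥)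
    (hne : H₂ ≠ ⊥) : IsCyclic H₁ := by
  by_contra hnc
  have hH₁ : IsPGroup p H₁ := hR.to_le h1
  have hm1 : Cfsg.IsMetacyclic H₁ := isMetacyclic_of_injective (inclusion h1) (inclusion_injective h1) hRm
  obtain ⟨hE, hEc⟩ := Cfsg.Agent.S0638.result hp hH₁ hm1 hnc
  obtain ⟨V₀, Z₀, hV₀, hcardV₀, -⟩ := Cfsg.Agent.Lib.Helper26.metacyclic_omega hp hR hRm
  obtain ⟨z, hz2, hz1, hzp⟩ : ∃ z ∈ H₂, z ≠ 1 ∧ z ^ p = 1 := by
    obtain ⟨k, hk⟩ := (hR.to_le h2).exists_card_eq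
    have hdvd : p ∣ Nat.card H₂ := by
      rcases k with _ | k
      · exfalso
        rw [pow_zero, Subgroup.card_eq_one] at hk
        exact hne hk
      · rw [hk]; exact dvd_pow_self p (Nat.succ_ne_zero k)
    obtain ⟨x, hx⟩ := exists_prime_orderOf_dvd_card' p hdvd
    refine ⟨x, x.2, ?_, ?_⟩
    · intro h
      have : x = 1 := Subtype.ext h
      rw [this, orderOf_one] at hx
      exact hpf.out.one_lt.ne hx
    · have := pow_orderOf_eq_one x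
      rw [hx] at this
      have := congrArg Subtype.val this
      simpa using this
  have hE'V : (Cfsg.omegaOne p (⊤ : Subgroup H₁)).map (inclusion h1) ≤ V₀ := by
    rintro _ ⟨x, hx, rfl⟩
    rw [hV₀, ← map_pow, hE.2 x hx, map_one]
  have hE'c : Nat.card ((Cfsg.omegaOne p (⊤ : Subgroup H₁)).map (inclusion h1)) = p ^ 2 := by
    rw [card_map_of_injective (inclusion_injective h1), hEc]
  have hzV : (⟨z, h2 hz2⟩ : R) ∈ V₀ := by
    rw [hV₀]; exact Subtype.ext (by simpa using hzp)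
  have hzE : (⟨z, h2 hz2⟩ : R) ∉ (Cfsg.omegaOne p (⊤ : Subgroup H₁)).map (inclusion h1) := by
    rintro ⟨x, hx, hxz⟩
    have hxz' : (x : G) = z := congrArg Subtype.val hxz
    have hz1' : z ∈ H₁ ⊓ H₂ := ⟨hxz' ▸ x.2, hz2⟩
    rw [hd, mem_bot] at hz1'
    exact hz1 hz1'
  have heq := Subgroup.eq_of_le_of_card_ge hE'V (hcardV₀.trans hE'c.ge)
  exact hzE (heq ▸ hzV)

theorem meta_main [Finite G] (p : ℕ) [hpf : Fact p.Prime] (hp : p ≠ 2) (R A : Subgroup G) (hR : IsPGroup p R)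
    (hRm : Cfsg.IsMetacyclic R) (hA : (A ≤ Subgroup.normalizer (R : Set G))) (hcop : (Nat.card A).Coprime p) :
    IsMulCommutative ↥⁅R, A⁆ ∧ ⁅R, A⁆ ⊔ (R ⊓ Subgroup.centralizer (A : Set G)) = R ∧
      ⁅R, A⁆ ⊓ (R ⊓ Subgroup.centralizer (A : Set G)) = ⊥ ∧
      (¬ IsMulCommutative R → ¬ A ≤ Subgroup.centralizer (R : Set G) →
        ⁅R, A⁆ ≠ ⊥ ∧ IsCyclic ↥⁅R, A⁆ ∧ (R ⊓ Subgroup.centralizer (A : Set G)) ≠ ⊥ ∧
          IsCyclic ↥(R ⊓ Subgroup.centralizer (A : Set G)) ∧ ⁅R, R⁆ ≤ ⁅R, A⁆) := by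
  have hpp := hpf.out
  have hcopR : (Nat.card A).Coprime (Nat.card R) := by
    obtain ⟨n, hn⟩ := hR.exists_card_eq
    rw [hn]
    exact Nat.Coprime.pow_right n hcop
  have hsolv : Group.IsSolvable A ∨ Group.IsSolvable R := Or.inr (solvable_of_isPGroup hR)
  have hKR : ⁅R, A⁆ ≤ R := commutator_le_of_le_normalizer hA
  have hAK : A ≤ normalizer ((⁅R, A⁆ : Subgroup G) : Set G) := le_normalizer_commutator_right hA
  have hRK : R ≤ normalizer ((⁅R, A⁆ : Subgroup G) : Set G) := le_normalizer_commutator_left R A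
  have hstab : ⁅⁅R, A⁆, A⁆ = ⁅R, A⁆ := coprime_commutator_stable A R hA hcopR hsolv
  have hKm : Cfsg.IsMetacyclic ↥⁅R, A⁆ :=
    isMetacyclic_of_injective (inclusion hKR) (inclusion_injective hKR) hRm
  have hKab := meta_core hp ⁅R, A⁆ A (hR.to_le hKR) hKm hAK hcop hstab
  have hsup := coprime_commutator_sup_centralizer A R hA hcopR hsolv
  have hKc : IsMulCommutative ↥⁅R, A⁆ := ⟨⟨fun x y => Subtype.ext (hKab x x.2 y y.2)⟩⟩
  have hinf : ⁅R, A⁆ ⊓ (R ⊓ Subgroup.centralizer (A : Set G)) = ⊥ := by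
    rw [eq_bot_iff]
    rintro x ⟨hxK, hxR, hxC⟩
    have hKK : ⁅⁅R, A⁆, ⁅R, A⁆⁆ ≤ ⊥ := by
      rw [Subgroup.commutator_le]
      intro u hu v hv
      rw [mem_bot, commutatorElement_eq_one_iff_mul_comm]
      exact hKab u hu v hv
    have h1 := avg_mem ⁅R, A⁆ A ⊥ hAK hstab hKK hxK (by
      intro α hα
      have := (mem_centralizer_iff.mp hxC) α hα
      rw [mem_bot, this]
      group)
    rw [mem_bot] at h1
    obtain ⟨k, hk⟩ := hR ⟨x, hxR⟩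
    have hk' : x ^ (p ^ k) = 1 := by
      have := congrArg Subtype.val hk
      simpa using this
    have h2 : orderOf x ∣ Nat.gcd (Nat.card A) (p ^ k) :=
      Nat.dvd_gcd (orderOf_dvd_of_pow_eq_one h1) (orderOf_dvd_of_pow_eq_one hk')
    rw [Nat.Coprime.pow_right k hcop, Nat.dvd_one, orderOf_eq_one_iff] at h2
    rw [mem_bot]
    exact h2
  refine ⟨hKc, hsup, hinf, ?_⟩
  intro hna hAC
  have hK1 : ⁅R, A⁆ ≠ ⊥ := by
    intro h
    rw [Subgroup.commutator_eq_bot_iff_le_centralizer] at h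
    exact hAC (Subgroup.le_centralizer_iff.mp h)
  have hF1 : R ⊓ Subgroup.centralizer (A : Set G) ≠ ⊥ := by
    intro h
    rw [h, sup_bot_eq] at hsup
    apply hna
    rw [← hsup]
    exact hKc
  have hcK : IsCyclic ↥⁅R, A⁆ := meta_cyclic_of_disjoint hp R _ _ hR hRm hKR inf_le_left hinf hF1
  have hcF : IsCyclic ↥(R ⊓ Subgroup.centralizer (A : Set G)) :=
    meta_cyclic_of_disjoint hp R _ _ hR hRm inf_le_left hKR (by rw [inf_comm]; exact hinf) hK1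
  refine ⟨hK1, hcK, hF1, hcF, ?_⟩
  have hFab : ∀ f₁ ∈ R ⊓ Subgroup.centralizer (A : Set G), ∀ f₂ ∈ R ⊓ Subgroup.centralizer (A : Set G),
      f₁ * f₂ = f₂ * f₁ := by
    intro f₁ hf₁ f₂ hf₂
    letI := hcF.commGroup
    have := mul_comm (⟨f₁, hf₁⟩ : ↥(R ⊓ Subgroup.centralizer (A : Set G))) ⟨f₂, hf₂⟩
    exact congrArg Subtype.val this
  have hFN : R ⊓ Subgroup.centralizer (A : Set G) ≤ normalizer ((⁅R, A⁆ : Subgroup G) : Set G) :=
    inf_le_left.trans hRK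
  rw [Subgroup.commutator_le]
  intro x hx y hy
  rw [← hsup, mem_sup_of_le_normalizer hFN] at hx hy
  obtain ⟨k₁, hk₁, f₁, hf₁, rfl⟩ := hx
  obtain ⟨k₂, hk₂, f₂, hf₂, rfl⟩ := hy
  have hc : f₂ * f₁⁻¹ = f₁⁻¹ * f₂ := by
    have := hFab f₁ hf₁ f₂ hf₂
    calc f₂ * f₁⁻¹ = f₁⁻¹ * (f₁ * f₂) * f₁⁻¹ := by group
      _ = f₁⁻¹ * (f₂ * f₁) * f₁⁻¹ := by rw [this]
      _ = f₁⁻¹ * f₂ := by group
  have e : ⁅k₁ * f₁, k₂ * f₂⁆ = k₁ * (f₁ * k₂ * f₁⁻¹) * (f₂ * k₁⁻¹ * f₂⁻¹) * k₂⁻¹ := by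
    rw [commutatorElement_def]
    calc k₁ * f₁ * (k₂ * f₂) * (k₁ * f₁)⁻¹ * (k₂ * f₂)⁻¹
        = k₁ * f₁ * k₂ * (f₂ * f₁⁻¹) * k₁⁻¹ * f₂⁻¹ * k₂⁻¹ := by group
      _ = k₁ * f₁ * k₂ * (f₁⁻¹ * f₂) * k₁⁻¹ * f₂⁻¹ * k₂⁻¹ := by rw [hc]
      _ = _ := by group
  rw [e]
  exact mul_mem (mul_mem (mul_mem hk₁ (conj_mem_of_mem_normalizer (hFN hf₁) hk₂))
    (conj_mem_of_mem_normalizer (hFN hf₂) (inv_mem hk₁))) (inv_mem hk₂)

end Cfsg.Agent.Lib.Helper1
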