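import Mathlib
import Cfsg.Agent.Lib.Lead.ThC
import Cfsg.Agent.Lib.Helper1.JA

set_option autoImplicit false

/-! Adaptation of `Lib.Lead.ThC` (by lead) to the abelian version of the Thompson subgroup and to
an arbitrary prime. -/

namespace Cfsg.Agent.Lib.Helper1

open Subgroup Cfsg
open Cfsg.Agent.Lib.Lead (npc_of_normal_index isSylIn_inf_normal)
open Cfsg.Agent.Lib.Helper4 (card_mul_card_eq_of_le_normalizer card_eq_inf_mul_relIndex
  card_eq_mul_relIndex card_map_subtype)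
open Cfsg.Agent.Lib.Helper12 (cj IsSylIn)
open scoped Pointwise

universe u

variable {p : ℕ} [Fact p.Prime] {G : Type u} [Group G] [Finite G]

/-- The configuration of a minimal counterexample to Thompson's normal `p`-complement theorem
(abelian version of `J`, any prime). -/
structure ConfA (p : ℕ) [Fact p.Prime] (G : Type u) [Group G] [Finite G] where
  P : Sylow p G
  U : Subgroup G
  K : Subgroup G
  notGood : ¬ HasNormalPComplement p G
  hUn : U.Normal
  hKn : K.Normal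
  hUp : IsPGroup p U
  hU1 : U ≠ ⊥
  hUK : U ≤ K
  hKU : (U.relIndex K).Coprime p
  hKi : ∃ k, K.index = p ^ k
  hOp : ∀ R : Subgroup G, R.Normal → IsPGroup p R → R ≤ U
  hF1 : ∀ X : Subgroup G, (P : Subgroup G) ≤ X → X ≠ ⊤ → HasNormalPComplement p X
  hJ : ¬ (thompsonSubgroupAOf (P : Subgroup G)).Normal
  hZ : centralizer (((P : Subgroup G) ⊓ centralizer (P : Set G) : Subgroup G) : Set G) ≠ ⊤

namespace ConfA

variable (c : ConfA p G)

theorem UP : c.U ≤ c.P :=
  have := c.hUn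
  c.hUp.le_sylow_of_normal c.P

/-- `p`-subgroups of `K` lie in `U` -/
theorem PK {Y : Subgroup G} (hY : Y ≤ c.K) (hYp : IsPGroup p Y) : Y ≤ c.U := by
  have := c.hUn
  rw [← relIndex_eq_one]
  have h1 : c.U.relIndex Y ∣ c.U.relIndex c.K := by
    rw [← relIndex_sup_right]
    exact Dvd.intro _ (relIndex_mul_relIndex c.U (Y ⊔ c.U) c.K le_sup_right (sup_le hY c.hUK))
  obtain ⟨n, hn⟩ := hYp.exists_card_eq
  have h2 : c.U.relIndex Y ∣ p ^ n := hn ▸ relIndex_dvd_card _ _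
  exact Nat.Coprime.eq_one_of_dvd ((c.hKU.coprime_dvd_left h1).pow_right n) h2

theorem K_inf_P : c.K ⊓ c.P = c.U :=
  le_antisymm (c.PK inf_le_left (c.P.2.to_le inf_le_right)) (le_inf c.hUK c.UP)

theorem K_sup_P : c.K ⊔ c.P = ⊤ := by
  rw [← index_eq_one]
  obtain ⟨k, hk⟩ := c.hKi
  have h1 : (c.K ⊔ c.P).index ∣ p ^ k := hk ▸ index_dvd_of_le le_sup_left
  have h2 : (c.K ⊔ (c.P : Subgroup G)).index ∣ (c.P : Subgroup G).index := index_dvd_of_le le_sup_right
  have h3 : ((c.P : Subgroup G).index).Coprime p :=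
    ((Nat.Prime.coprime_iff_not_dvd Fact.out).mpr c.P.not_dvd_index).symm
  exact Nat.Coprime.eq_one_of_dvd ((h3.coprime_dvd_left h2).pow_right k) h1

theorem exists_mul (g : G) : ∃ k ∈ c.K, ∃ y ∈ (c.P : Subgroup G), g = k * y := by
  have := c.hKn
  have h : g ∈ ((c.K ⊔ c.P : Subgroup G) : Set G) := by rw [c.K_sup_P]; trivial
  rw [normal_mul] at h
  obtain ⟨k, hk, y, hy, rfl⟩ := h
  exact ⟨k, hk, y, hy, rfl⟩

/-- `p'`-elements lie in `K` -/
theorem mem_K_of_coprime {g : G} (hg : (orderOf g).Coprime p) : g ∈ c.K := by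
  have := c.hKn
  obtain ⟨k, hk⟩ := c.hKi
  exact Cfsg.Agent.Lib.Helper1.mem_of_coprime_orderOf_index (by rw [hk]; exact hg.pow_right k)

/-- `p'`-elements of proper overgroups of `P` centralise `U` -/
theorem F1' {X : Subgroup G} (hPX : (c.P : Subgroup G) ≤ X) (hX : X ≠ ⊤) {g : G} (hg : g ∈ X)
    (hgo : (orderOf g).Coprime p) : g ∈ centralizer (c.U : Set G) := by
  have h := hasNormalPComplement_iff_frobCond.mp (c.hF1 X hPX hX)
  have h1 := h (c.U.subgroupOf X) c.hUp.comap_subtype ⟨g, hg⟩ (by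
    intro x hx
    rw [mem_subgroupOf] at hx ⊢
    exact c.hUn.conj_mem _ hx _) (by rwa [Subgroup.orderOf_mk])
  rw [mem_centralizer_iff]
  intro u hu
  have h2 := h1 ⟨u, hPX (c.UP hu)⟩ (by rw [mem_subgroupOf]; exact hu)
  have h3 : g * u * g⁻¹ = u := congrArg Subtype.val h2
  calc u * g = (g * u * g⁻¹) * g := by rw [h3]
    _ = g * u := by group

/-- `C_K(U)` -/
def C : Subgroup G := c.K ⊓ centralizer (c.U : Set G)

/-- `U C_K(U)` -/
def D : Subgroup G := c.U ⊔ c.C

theorem C_normal : c.C.Normal := by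
  have := c.hUn
  have := c.hKn
  unfold C
  infer_instance

theorem D_normal : c.D.Normal := by
  have := c.hUn
  have := c.C_normal
  unfold D
  infer_instance

theorem D_le_K : c.D ≤ c.K := sup_le c.hUK inf_le_left

theorem U_le_D : c.U ≤ c.D := le_sup_left

theorem D_ne_K : c.D ≠ c.K := by
  intro hD
  apply c.notGood
  have := c.hKn
  apply npc_of_normal_index c.hKi
  rw [hasNormalPComplement_iff_frobCond]
  have := c.C_normal
  -- `p'`-elements of `K` centralise `U`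
  have key : ∀ g ∈ c.K, (orderOf g).Coprime p → g ∈ c.C := by
    intro g hg hgo
    have h : g ∈ ((c.U ⊔ c.C : Subgroup G) : Set G) := by
      change g ∈ c.D
      rw [hD]; exact hg
    rw [mul_normal] at h
    obtain ⟨u, hu, x, hx, rfl⟩ := h
    have h1 : ((u * x : G) : G ⧸ c.C) = (u : G ⧸ c.C) := by
      rw [QuotientGroup.mk_mul, (QuotientGroup.eq_one_iff x).mpr hx, mul_one]
    rw [← QuotientGroup.eq_one_iff, ← orderOf_eq_one_iff]
    have h2 : orderOf ((u * x : G) : G ⧸ c.C) ∣ orderOf (u * x) :=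
      orderOf_map_dvd (QuotientGroup.mk' c.C) _
    have h3 : orderOf ((u : G) : G ⧸ c.C) ∣ orderOf u := orderOf_map_dvd (QuotientGroup.mk' c.C) _
    obtain ⟨n, hn⟩ := c.hUp.exists_card_eq
    have h4 : orderOf u ∣ p ^ n := by
      rw [← hn, ← Subgroup.orderOf_mk u hu]; exact orderOf_dvd_natCard _
    rw [← h1] at h3
    exact Nat.Coprime.eq_one_of_dvd ((hgo.coprime_dvd_left h2).pow_right n) (h3.trans h4)
  intro Q hQ g hg hco x hx
  have h1 : Q.map c.K.subtype ≤ c.U := c.PK (map_subtype_le _) (hQ.map _)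
  have h2 : (g : G) ∈ c.C := key g g.2 (by rwa [Subgroup.orderOf_coe])
  have h3 := (mem_centralizer_iff.mp h2.2) (x : G) (h1 ⟨x, hx, rfl⟩)
  ext
  simp only [Subgroup.coe_mul, Subgroup.coe_inv]
  rw [← h3]; group

/-- proper `P`-invariant subgroups between `U` and `K` lie in `D` -/
theorem F4 {R : Subgroup G} (hUR : c.U ≤ R) (hRK : R ≤ c.K) (hne : R ≠ c.K)
    (hPR : (c.P : Subgroup G) ≤ normalizer (R : Set G)) : R ≤ c.D := by
  have hX : R ⊔ c.P ≠ ⊤ := by
    intro htop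
    apply hne
    apply le_antisymm hRK
    intro k hk
    have h : k ∈ ((R ⊔ c.P : Subgroup G) : Set G) := by rw [htop]; trivial
    rw [coe_mul_of_right_le_normalizer_left R _ hPR] at h
    obtain ⟨r, hr, y, hy, rfl⟩ := h
    have hyK : y ∈ c.K := by
      have := c.K.mul_mem (c.K.inv_mem (hRK hr)) hk
      simpa using this
    have hyU : y ∈ c.U := by
      rw [← c.K_inf_P]; exact ⟨hyK, hy⟩
    exact R.mul_mem hr (hUR hyU)
  intro r hr
  obtain ⟨x, hx, y, hy, hxy, hxo, k, hyk⟩ :=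
    Cfsg.Agent.Lib.Helper21.exists_p_decomp p r (isOfFinOrder_of_finite r)
  have hzR : zpowers r ≤ R := zpowers_le.mpr hr
  have hxC : x ∈ c.C :=
    ⟨hRK (hzR hx), c.F1' le_sup_right hX ((le_sup_left : R ≤ R ⊔ c.P) (hzR hx)) hxo⟩
  have hyU : y ∈ c.U := by
    have h1 : IsPGroup p (zpowers y) := by
      rw [IsPGroup.iff_card, Nat.card_zpowers]
      obtain ⟨j, -, hj⟩ := (Nat.dvd_prime_pow Fact.out).mp (orderOf_dvd_of_pow_eq_one hyk)
      exact ⟨j, hj⟩
    exact c.PK (zpowers_le.mpr (hRK (hzR hy))) h1 (mem_zpowers y)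
  rw [hxy]
  exact c.D.mul_mem (c.U_le_D hyU) ((le_sup_right : c.C ≤ c.D) hxC)

/-- **Lemma N** -/
theorem lemN {T : Subgroup G} (hT : T.Normal) (hTK : T ⊓ c.K ≤ c.D) :
    T ⊓ c.P ≤ c.U := by
  have hKn := c.hKn
  set R : Subgroup G := T ⊓ c.P with hR
  have hSyl : IsSylIn p R T := isSylIn_inf_normal c.P T
  have hPX : (c.P : Subgroup G) ≤ normalizer (R : Set G) := by
    intro y hy
    rw [Cfsg.Agent.Lib.Helper12.mem_normalizer_iff_cj, hR, Cfsg.Agent.Lib.Helper12.cj_inf,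
      Cfsg.Agent.Lib.Helper12.cj_eq_of_normal, Cfsg.Agent.Lib.Helper12.cj_eq_of_mem hy]
  by_cases hX : normalizer (R : Set G) = ⊤
  · exact c.hOp R (normalizer_eq_top_iff.mp hX) hSyl.2.1
  exfalso
  apply c.D_ne_K
  apply le_antisymm c.D_le_K
  set X : Subgroup G := normalizer (R : Set G) with hXdef
  -- `L = X ⊓ K ≤ D`
  have hL : X ⊓ c.K ≤ c.D := by
    apply c.F4 (le_inf (c.UP.trans hPX) c.hUK) inf_le_right
    · intro h
      apply hX
      rw [eq_top_iff, ← c.K_sup_P]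
      exact sup_le (h ▸ inf_le_left) hPX
    · intro y hy
      rw [Cfsg.Agent.Lib.Helper12.mem_normalizer_iff_cj, Cfsg.Agent.Lib.Helper12.cj_inf,
        Cfsg.Agent.Lib.Helper12.cj_eq_of_normal y c.K, Cfsg.Agent.Lib.Helper12.cj_eq_of_mem (hPX hy)]
  -- Frattini
  have hfrat : X ⊔ T = ⊤ := by
    have := Sylow.normalizer_sup_eq_top hSyl.toSylow
    rwa [hSyl.coe_toSylow, subgroupOf_map_subtype, inf_of_le_left hSyl.1] at this
  -- `T = R (T ⊓ K)`
  have hTn : (T ⊓ c.K).Normal := inferInstance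
  have hTR : T ≤ R ⊔ (T ⊓ c.K) := by
    rw [← relIndex_eq_one]
    have h1 : (R ⊔ (T ⊓ c.K)).relIndex T ∣ R.relIndex T := relIndex_dvd_of_le_left T le_sup_left
    have h2 : (R ⊔ (T ⊓ c.K)).relIndex T ∣ (T ⊓ c.K).relIndex T :=
      relIndex_dvd_of_le_left T le_sup_right
    obtain ⟨k, hk⟩ := c.hKi
    have h3 : (T ⊓ c.K).relIndex T ∣ p ^ k := by
      rw [inf_relIndex_left, ← hk]
      exact relIndex_dvd_index_of_normal _ _
    have h4 : (R.relIndex T).Coprime p :=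
      ((Nat.Prime.coprime_iff_not_dvd Fact.out).mpr hSyl.2.2).symm
    exact Nat.Coprime.eq_one_of_dvd ((h4.coprime_dvd_left h1).pow_right k) (h2.trans h3)
  intro k hk
  have h : k ∈ ((X ⊔ T : Subgroup G) : Set G) := by rw [hfrat]; trivial
  rw [mul_normal] at h
  obtain ⟨x, hx, t, ht, rfl⟩ := h
  have h' : t ∈ ((R ⊔ (T ⊓ c.K) : Subgroup G) : Set G) := hTR ht
  rw [mul_normal] at h'
  obtain ⟨r, hr, s, hs, rfl⟩ := h'
  have hxr : x * r ∈ X := X.mul_mem hx (hPX hr.2)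
  have hxrK : x * r ∈ c.K := by
    have := c.K.mul_mem hk (c.K.inv_mem hs.2)
    have h2 : x * (r * s) * s⁻¹ = x * r := by group
    rwa [h2] at this
  have : x * (r * s) = (x * r) * s := by group
  change x * (r * s) ∈ c.D
  rw [this]
  exact c.D.mul_mem (hL ⟨hxr, hxrK⟩) (hTK hs)

end ConfA

end Cfsg.Agent.Lib.Helper1
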