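import Mathlib
import Cfsg.Agent.Lib.Helper1.TA2
import Cfsg.Agent.Lib.Helper1.Fitting
import Cfsg.Agent.Lib.Helper29.PSolvable2
import Cfsg.Agent.S0023

set_option autoImplicit false

/-! Adaptation of `Lib.Lead.ThE` (by lead) to `ConfA`. -/

namespace Cfsg.Agent.Lib.Helper1

open Subgroup Cfsg
open Cfsg.Agent.Lib.Helper12 (cj IsSylIn)
open scoped Pointwise commutatorElement

universe u

variable {p : ℕ} [Fact p.Prime] {G : Type u} [Group G] [Finite G]

namespace ConfA

variable (c : ConfA p G)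

theorem CKV_le_D : centralizer (c.V : Set G) ⊓ c.K ≤ c.D := by
  have := c.V_normal
  have := c.hKn
  have hn : (centralizer (c.V : Set G) ⊓ c.K).Normal := inferInstance
  apply c.F4 (le_inf c.U_le_centralizer_V c.hUK) inf_le_right
  · intro h
    exact c.K_not_le (h ▸ inf_le_left)
  · rw [normalizer_eq_top_iff.mpr hn]; exact le_top

/-- `K/U` is a `q`-group, hence `K' ≤ D`. -/
theorem KK_le_D : ⁅c.K, c.K⁆ ≤ c.D := by
  have hUn := c.hUn
  have hKn := c.hKn
  set π := QuotientGroup.mk' c.U with hπ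
  have hπs : Function.Surjective π := QuotientGroup.mk'_surjective _
  have hker : π.ker = c.U := QuotientGroup.ker_mk' _
  set Kb : Subgroup (G ⧸ c.U) := c.K.map π with hKb
  set Pb : Subgroup (G ⧸ c.U) := (c.P : Subgroup G).map π with hPb
  have hKbn : Kb.Normal := hKn.map π hπs
  have hKbcard : Nat.card Kb = c.U.relIndex c.K := Cfsg.Agent.Lib.Helper29.card_map_mk' _ _
  have hPbp : IsPGroup p Pb := c.P.2.map π
  have hcop : (Nat.card Pb).Coprime (Nat.card Kb) := by
    obtain ⟨n, hn⟩ := hPbp.exists_card_eq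
    rw [hn, hKbcard]
    exact (c.hKU.pow_right n).symm
  have hcomapK : Kb.comap π = c.K := by
    rw [hKb, comap_map_eq, hker, sup_of_le_left c.hUK]
  have hcomapD : (c.D.map π).comap π = c.D := by
    rw [comap_map_eq, hker, sup_of_le_left c.U_le_D]
  -- general fact on subgroups of `Kb` normalised by `Pb`
  have key : ∀ Rb : Subgroup (G ⧸ c.U), Rb ≤ Kb → Rb ≠ Kb → Pb ≤ normalizer (Rb : Set (G ⧸ c.U)) →
      Rb ≤ c.D.map π := by
    intro Rb h1 h2 h3
    have h4 : Rb.comap π ≤ c.D := by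
      apply c.F4
      · exact hker.ge.trans (ker_le_comap π Rb)
      · rw [← hcomapK]; exact comap_mono h1
      · intro h
        apply h2
        rw [← map_comap_eq_self_of_surjective hπs Rb, h]
      · rw [← comap_normalizer_eq_of_surjective _ hπs]
        exact (le_comap_map π _).trans (comap_mono h3)
    rw [← map_comap_eq_self_of_surjective hπs Rb]
    exact map_mono h4
  have hDK : c.D.map π ≠ Kb := by
    intro h
    apply c.D_ne_K
    rw [← hcomapD, h, hcomapK]
  have hDKle : c.D.map π ≤ Kb := map_mono c.D_le_K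
  -- `Kb` is a `q`-group
  obtain ⟨q, hq, hKq⟩ : ∃ q : ℕ, q.Prime ∧ IsPGroup q Kb := by
    by_contra hcon
    push Not at hcon
    apply hDK
    apply eq_of_le_of_card_ge hDKle
    apply Nat.le_of_dvd Nat.card_pos
    apply Cfsg.Agent.Lib.Helper1.dvd_of_forall_prime_pow_dvd Nat.card_pos.ne' Nat.card_pos.ne'
    intro q hq
    have := Fact.mk hq
    obtain ⟨Q, hQ⟩ := Cfsg.Agent.S0023.result Pb Kb
      (by rw [normalizer_eq_top_iff.mpr hKbn]; exact le_top) hcop
      (Or.inl (Cfsg.Agent.Lib.Helper1.solvable_of_isPGroup hPbp)) q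
    have h1 : (Q : Subgroup Kb).map Kb.subtype ≤ c.D.map π := by
      apply key _ (map_subtype_le _) _ hQ
      intro h
      apply hcon q hq
      rw [← h]
      exact Q.2.map _
    rw [← Q.card_eq_multiplicity, ← Cfsg.Agent.Lib.Helper4.card_map_subtype]
    exact card_dvd_of_le h1
  have := Fact.mk hq
  have hKb1 : Kb ≠ ⊥ := by
    intro h
    apply hDK
    rw [h] at hDKle ⊢
    exact le_bot_iff.mp hDKle
  have hlt := Cfsg.Agent.Lib.Helper1.commutator_lt_of_solvable
    (Cfsg.Agent.Lib.Helper1.solvable_of_isPGroup hKq) hKb1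
  have hcn : (⁅Kb, Kb⁆ : Subgroup (G ⧸ c.U)).Normal := inferInstance
  have h5 : ⁅Kb, Kb⁆ ≤ c.D.map π :=
    key _ hlt.le hlt.ne (by rw [normalizer_eq_top_iff.mpr hcn]; exact le_top)
  rw [← hcomapD]
  refine (le_comap_map π _).trans (comap_mono ?_)
  rw [map_commutator]
  exact h5

theorem KK_le : ⁅c.K, c.K⁆ ≤ centralizer (c.V : Set G) := c.KK_le_D.trans c.D_le_centralizer_V

end ConfA

end Cfsg.Agent.Lib.Helper1
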