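import Cfsg.Agent.Lib.Helper1.Gaschutz
import Cfsg.Agent.Lib.Helper1.Transfer
import Cfsg.Agent.Lib.Helper1.Nilp
set_option autoImplicit false
open Pointwise

/-! A relative version of Tate's theorem (via Gaschütz). -/

namespace Cfsg.Agent.Lib.Helper1

open Subgroup
open scoped commutatorElement

universe u

variable {G : Type u} [Group G]

theorem tate_aux' [Finite G] {p : ℕ} [Fact p.Prime] (P : Sylow p G) (K : Subgroup G) [K.Normal]
    (hKq : IsPGroup p (G ⧸ K))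
    (hKgen : ∀ M : Subgroup G, (∀ g : G, (orderOf g).Coprime p → g ∈ M) → K ≤ M)
    (D₀ : Subgroup P) [hD₀n : D₀.Normal] (hD₀ : ⁅K.subgroupOf P, (⊤ : Subgroup P)⁆ ≤ D₀)
    (hD₀le : D₀ ≤ K.subgroupOf P)
    (hΦ : ∀ X : Subgroup P, D₀ ≤ X → X ⊔ K.subgroupOf P = ⊤ → X = ⊤) :
    K.subgroupOf P ≤ D₀ := by
  have hp : p.Prime := Fact.out
  -- the map `θ : P/D₀ → G/K`
  let θ : (↥P ⧸ D₀) →* G ⧸ K :=
    QuotientGroup.lift D₀ ((QuotientGroup.mk' K).comp (P : Subgroup G).subtype) (fun x hx => by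
      have := hD₀le hx
      rw [mem_subgroupOf] at this
      exact (QuotientGroup.eq_one_iff _).mpr this)
  have hθmk : ∀ u : P, θ (QuotientGroup.mk' D₀ u) = QuotientGroup.mk' K (u : G) := fun u => rfl
  have hθker : ∀ x : ↥P ⧸ D₀, θ x = 1 → ∃ d ∈ K.subgroupOf P, QuotientGroup.mk' D₀ d = x := by
    intro x hx
    obtain ⟨d, rfl⟩ := QuotientGroup.mk'_surjective D₀ x
    rw [hθmk] at hx
    exact ⟨d, (QuotientGroup.eq_one_iff (N := K) (d : G)).mp hx, rfl⟩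
  have hcentral : ∀ x : ↥P ⧸ D₀, θ x = 1 → ∀ y, x * y = y * x := by
    intro x hx y
    obtain ⟨d, hd, rfl⟩ := hθker x hx
    obtain ⟨u, rfl⟩ := QuotientGroup.mk'_surjective D₀ y
    rw [← map_mul, ← map_mul]
    apply (QuotientGroup.eq).mpr
    have : (d * u)⁻¹ * (u * d) = ⁅u⁻¹, d⁻¹⁆ := by
      rw [commutatorElement_def]; group
    rw [this]
    apply hD₀
    rw [commutator_comm]
    exact commutator_mem_commutator (mem_top _) (inv_mem hd)
  have hsup : (P : Subgroup G) ⊔ K = ⊤ := sylow_sup_eq_top_of_isPGroup_quotient P hKq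
  have hlift : ∀ g : G, ∃ u : P, QuotientGroup.mk' K (u : G) = QuotientGroup.mk' K g := by
    intro g
    have hg : g ∈ (P : Subgroup G) ⊔ K := hsup ▸ mem_top g
    rw [← SetLike.mem_coe, mul_normal] at hg
    obtain ⟨u, hu, k, hk, rfl⟩ := hg
    refine ⟨⟨u, hu⟩, ?_⟩
    have hk1 : QuotientGroup.mk' K k = 1 := (QuotientGroup.eq_one_iff k).mpr hk
    rw [map_mul, hk1, mul_one]
  -- the pull-back
  obtain ⟨E, hE⟩ : ∃ E : Subgroup (G × (↥P ⧸ D₀)), E =
    ((QuotientGroup.mk' K).comp (MonoidHom.fst G (↥P ⧸ D₀))).eqLocus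
      (θ.comp (MonoidHom.snd G (↥P ⧸ D₀))) := ⟨_, rfl⟩
  have hmemE : ∀ z : G × (↥P ⧸ D₀), z ∈ E ↔ QuotientGroup.mk' K z.1 = θ z.2 := by
    intro z; rw [hE]; exact Iff.rfl
  let f₁ : ↥E →* G := (MonoidHom.fst G (↥P ⧸ D₀)).comp E.subtype
  let f₂ : ↥E →* (↥P ⧸ D₀) := (MonoidHom.snd G (↥P ⧸ D₀)).comp E.subtype
  have hext : ∀ a b : ↥E, f₁ a = f₁ b → f₂ a = f₂ b → a = b :=
    fun a b h1 h2 => Subtype.ext (Prod.ext h1 h2)
  have hrel : ∀ a : ↥E, QuotientGroup.mk' K (f₁ a) = θ (f₂ a) := fun a => (hmemE _).mp a.2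
  have hf₁surj : Function.Surjective f₁ := by
    intro g
    obtain ⟨u, hu⟩ := hlift g
    exact ⟨⟨(g, QuotientGroup.mk' D₀ u), (hmemE _).mpr (by rw [hθmk, hu])⟩, rfl⟩
  have hf₂surj : Function.Surjective f₂ := by
    intro x
    obtain ⟨u, rfl⟩ := QuotientGroup.mk'_surjective D₀ x
    exact ⟨⟨((u : G), QuotientGroup.mk' D₀ u), (hmemE _).mpr (by rw [hθmk])⟩, rfl⟩
  have hKEcomm : IsMulCommutative f₁.ker := by
    refine ⟨⟨fun a b => Subtype.ext (hext _ _ ?_ ?_)⟩⟩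
    · have ha : f₁ a = 1 := a.2
      have hb : f₁ b = 1 := b.2
      change f₁ ((a : ↥E) * b) = f₁ ((b : ↥E) * a)
      rw [map_mul, map_mul, ha, hb]
    · change f₂ ((a : ↥E) * b) = f₂ ((b : ↥E) * a)
      rw [map_mul, map_mul]
      apply hcentral
      rw [← hrel, show f₁ a = 1 from a.2, map_one]
  have hPt : IsPGroup p (↥P ⧸ D₀) := P.2.to_quotient D₀
  have hKEp : IsPGroup p f₁.ker := by
    refine hPt.of_injective (f₂.comp f₁.ker.subtype) ?_
    intro a b hab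
    exact Subtype.ext (hext _ _ (by rw [show f₁ a = 1 from a.2, show f₁ b = 1 from b.2]) hab)
  let s : ↥P →* ↥E :=
    ((P : Subgroup G).subtype.prod (QuotientGroup.mk' D₀)).codRestrict E
      (fun u => (hmemE _).mpr (by rw [MonoidHom.prod_apply, hθmk]; rfl))
  have hs₁ : ∀ u, f₁ (s u) = u := fun u => rfl
  have hs₂ : ∀ u, f₂ (s u) = QuotientGroup.mk' D₀ u := fun u => rfl
  obtain ⟨H, hH⟩ := gaschutz_exists f₁.ker ((P : Subgroup G).comap f₁) s.range
    (fun a ha => by rw [mem_comap, show f₁ a = 1 from ha]; exact one_mem _)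
    (by
      rw [index_comap_of_surjective _ hf₁surj]
      obtain ⟨n, hn⟩ := IsPGroup.iff_card.mp hKEp
      rw [hn]
      exact ((Nat.Prime.coprime_iff_not_dvd hp).mpr P.not_dvd_index).pow_left n)
    (by
      rintro _ ⟨u, rfl⟩
      rw [mem_comap, hs₁]; exact u.2)
    (by
      rw [eq_bot_iff]
      rintro _ ⟨⟨u, rfl⟩, h2⟩
      have h3 : f₁ (s u) = 1 := h2
      rw [hs₁] at h3
      have : u = 1 := Subtype.ext h3
      rw [this, map_one]; exact one_mem _)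
    (by
      apply le_antisymm
      · apply sup_le
        · intro a ha
          rw [mem_comap, show f₁ a = 1 from ha]; exact one_mem _
        · rintro _ ⟨u, rfl⟩
          rw [mem_comap, hs₁]; exact u.2
      · intro a ha
        rw [mem_comap] at ha
        have : a = (a * (s ⟨f₁ a, ha⟩)⁻¹) * s ⟨f₁ a, ha⟩ := by group
        rw [this]
        refine mul_mem (mem_sup_left ?_) (mem_sup_right ⟨_, rfl⟩)
        rw [MonoidHom.mem_ker, map_mul, map_inv, hs₁, mul_inv_cancel])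
  have hdisj : ∀ a : ↥E, a ∈ H → f₁ a = 1 → a = 1 := by
    intro a ha h1
    have : a ∈ f₁.ker ⊓ H := ⟨h1, ha⟩
    rwa [hH.disjoint.eq_bot, mem_bot] at this
  have hX : (H.map f₂).comap (QuotientGroup.mk' D₀) = ⊤ := by
    apply hΦ
    · conv_lhs => rw [← QuotientGroup.ker_mk' D₀]
      exact ker_le_comap _ _
    rw [eq_top_iff]
    intro u _
    obtain ⟨k, hk, h, hh, hkh⟩ := IsComplement'.exists_mul hH (s u)
    have hk1 : f₁ k = 1 := hk
    obtain ⟨d, hd, hdk⟩ := hθker (f₂ k) (by rw [← hrel, hk1, map_one])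
    have h2 : QuotientGroup.mk' D₀ u = QuotientGroup.mk' D₀ d * f₂ h := by
      rw [← hs₂, hkh, map_mul, hdk]
    have : u = (d⁻¹ * u) * ((d⁻¹ * u)⁻¹ * d * (d⁻¹ * u)) := by group
    rw [this]
    refine mul_mem (mem_sup_left ?_) (mem_sup_right ?_)
    · rw [mem_comap, map_mul, map_inv, h2, inv_mul_cancel_left]
      exact ⟨h, hh, rfl⟩
    · have h1 := (inferInstance : (K.subgroupOf P).Normal).conj_mem _ hd (d⁻¹ * u)⁻¹
      simpa using h1
  have hKM : K ≤ (H ⊓ f₂.ker).map f₁ := by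
    apply hKgen
    intro g hg
    obtain ⟨e, rfl⟩ := hf₁surj g
    obtain ⟨k, hk, h, hh, rfl⟩ := IsComplement'.exists_mul hH e
    have hk1 : f₁ k = 1 := hk
    rw [map_mul, hk1, one_mul] at hg ⊢
    refine ⟨h, ⟨hh, ?_⟩, rfl⟩
    have h1 : h ^ orderOf (f₁ h) = 1 :=
      hdisj _ (pow_mem hh _) (by rw [map_pow, pow_orderOf_eq_one])
    have h2 : orderOf (f₂ h) ∣ orderOf (f₁ h) :=
      orderOf_dvd_of_pow_eq_one (by rw [← map_pow, h1, map_one])
    obtain ⟨j, hj⟩ := (IsPGroup.iff_orderOf.mp hPt) (f₂ h)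
    have h3 : orderOf (f₂ h) = 1 :=
      Nat.Coprime.eq_one_of_dvd (by rw [hj]; exact (hg.symm.pow_left j)) h2
    exact orderOf_eq_one_iff.mp h3
  intro d hd
  have h1 : d ∈ (H.map f₂).comap (QuotientGroup.mk' D₀) := hX ▸ mem_top d
  obtain ⟨h, hh, hhd⟩ := h1
  have h2 : f₁ h ∈ K := by
    rw [← QuotientGroup.eq_one_iff]
    change QuotientGroup.mk' K (f₁ h) = 1
    rw [hrel, hhd, hθmk]
    exact (QuotientGroup.eq_one_iff _).mpr hd
  obtain ⟨h', ⟨hh', hh'2⟩, hh'1⟩ := hKM h2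
  have h3 : h'⁻¹ * h = 1 := hdisj _ (mul_mem (inv_mem hh') hh) (by rw [map_mul, map_inv, hh'1]; simp)
  have h4 : h = h' := by rw [← mul_one h', ← h3]; group
  rw [h4, show f₂ h' = 1 from hh'2] at hhd
  exact (QuotientGroup.eq_one_iff d).mp hhd.symm


end Cfsg.Agent.Lib.Helper1
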